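import Groth.Agent.DCat.ClosedShriek
import Groth.Agent.FundLocal.Main
import Groth.Agent.ExtSS.ClosedHom
import Mathlib.Algebra.Homology.Embedding.ExtendHomology
import Mathlib.CategoryTheory.Abelian.Injective.Extend

/-!
# The fundamental local isomorphism in the derived category
-/

set_option autoImplicit false
set_option backward.isDefEq.respectTransparency false
set_option backward.defeqAttrib.useBackward true
set_option linter.style.haveILetI false
set_option linter.unusedSectionVars false
set_option synthInstance.maxHeartbeats 100000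

universe u v w

open CategoryTheory CategoryTheory.Limits AlgebraicGeometry HomologicalComplex
open Groth.Agent.DCat Groth.Agent.ExtSS Groth.Agent.SerreDual Groth.Agent.Coherent Groth.Agent.AmpleLib

attribute [local instance] HasDerivedCategory.standard

namespace Groth.Agent.Dual6Lib.FundDerived

/-- An additive functor applied to the `ℤ`-indexed complex of a resolution. -/
theorem nonempty_map_cochainComplex {A : Type w} [Category.{v} A] [Abelian A] {B : Type w} [Category.{v} B] [Abelian B]
    (G : A ⥤ B) [G.Additive] {X : A} (R : InjectiveResolution X) (n : ℕ) :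
    Nonempty (((G.mapHomologicalComplex _).obj R.cochainComplex).homology (n : ℤ) ≅
      ((G.mapHomologicalComplex _).obj R.cocomplex).homology n) := by
  let e := ComplexShape.embeddingUpNat
  let L := (G.mapHomologicalComplex (ComplexShape.up ℕ)).obj R.cocomplex
  have hz : ∀ i : ℤ, i < 0 → IsZero (((G.mapHomologicalComplex _).obj R.cochainComplex).X i) := fun i hi =>
    G.map_isZero (CochainComplex.isZero_of_isStrictlyGE R.cochainComplex 0 i hi)
  have hz' : ∀ i : ℤ, i < 0 → IsZero ((L.extend e).X i) := fun i hi =>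
    L.isZero_extend_X e i (fun k hk => by simp [e] at hk; omega)
  let c : ∀ i : ℤ, ((G.mapHomologicalComplex _).obj R.cochainComplex).X i ≅ (L.extend e).X i := fun i =>
    if h : 0 ≤ i then G.mapIso (R.cochainComplexXIso i i.toNat (by omega)) ≪≫
      (L.extendXIso e (i := i.toNat) (by simp [e]; omega)).symm
    else (hz i (not_le.1 h)).iso (hz' i (not_le.1 h))
  let E : (G.mapHomologicalComplex _).obj R.cochainComplex ≅ L.extend e := Hom.isoOfComponents c fun i j hij => by
    by_cases h : 0 ≤ i
    · have hj : 0 ≤ j := by simp at hij; omega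
      simp only [c, dif_pos h, dif_pos hj, Iso.trans_hom, Functor.mapIso_hom, Iso.symm_hom]
      rw [L.extend_d_eq e (show e.f i.toNat = i by simp [e]; omega) (show e.f j.toNat = j by simp [e]; omega)]
      rw [show ((G.mapHomologicalComplex _).obj R.cochainComplex).d i j = G.map (R.cochainComplex.d i j) from rfl,
        R.cochainComplex_d i j i.toNat j.toNat (by omega) (by omega)]
      simp [L]
    · exact (hz i (not_le.1 h)).eq_of_src _ _
  exact ⟨(HomologicalComplex.homologyFunctor B _ (n : ℤ)).mapIso E ≪≫
    L.extendHomologyIso e (show e.f n = (n : ℤ) from rfl)⟩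

/-- `Hom(O, -)` is the identity. -/
noncomputable def internalHomUnitIso (X : Scheme.{u}) : internalHomFunctor (Coh.structureModule X) ≅ 𝟭 X.Modules :=
  (tensorHomAdj (Coh.structureModule X)).rightAdjointUniq (Adjunction.id.ofNatIsoLeft unitTensENatIso.symm)

variable {P X : Scheme.{u}} (ι : X ⟶ P) [IsClosedImmersion ι] [Dual3.HasHomO ι]

/-- `ι_* Hom(O_X, -) = Hom(ι_* O_X, -)` with values on the closed subscheme. -/
noncomputable def pushHomOIso :
    internalHomFunctor ((Scheme.Modules.pushforward ι).obj (Coh.structureModule X)) ≅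
      Dual3.homO ι ⋙ Scheme.Modules.pushforward ι :=
  internalHomPushForwardIso ι (Coh.structureModule X) ≪≫
    Functor.isoWhiskerRight
      (Functor.isoWhiskerLeft _ (internalHomUnitIso X) ≪≫ Functor.rightUnitor _ ≪≫
        (SerreDual.shriekAdj ι).rightAdjointUniq (Dual3.homOAdj ι)) _

variable [PreservesFiniteLimits (Scheme.Modules.pushforward ι)] [PreservesFiniteColimits (Scheme.Modules.pushforward ι)]

/-- `ι_* H^n(R Hom(O_X, F)) = Ext^n(ι_* O_X, F)`. -/
theorem nonempty_push_HD (F : P.Modules) (I : InjectiveResolution F) (n : ℕ) :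
    Nonempty ((Scheme.Modules.pushforward ι).obj
        (DCoh.HD ((ClosedShriek.RHomOD ι).obj (DCoh.inD P F)) (n : ℤ)) ≅
      (homCx ((Scheme.Modules.pushforward ι).obj (Coh.structureModule X)) I).homology n) := by
  haveI := ClosedShriek.hasRightDerived_homO ι
  let W := HomotopyCategory.quasiIso P.Modules (ComplexShape.up ℤ)
  let T := (Dual3.homO ι).mapHomotopyCategory (ComplexShape.up ℤ) ⋙ DerivedCategory.Qh
  let β := T.totalRightDerivedUnit DerivedCategory.Qh W
  let J := (HomotopyCategory.quotient P.Modules (ComplexShape.up ℤ)).obj I.cochainComplex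
  haveI : I.cochainComplex.IsKInjective := inferInstance
  haveI : IsIso (β.app J) := isIso_unit_of_mem (kInj_resolution (modules_enoughKInj P)) (kInj_isIso_map _) β
    (inferInstance : I.cochainComplex.IsKInjective)
  let e₀ : DCoh.inD P F ≅ DerivedCategory.Qh.obj J :=
    (DerivedCategory.singleFunctorIsoCompQ P.Modules 0).app F ≪≫ asIso (DerivedCategory.Q.map I.ι') ≪≫
      ((DerivedCategory.quotientCompQhIso P.Modules).app I.cochainComplex).symm
  let e₁ : (ClosedShriek.RHomOD ι).obj (DCoh.inD P F) ≅
      DerivedCategory.Q.obj (((Dual3.homO ι).mapHomologicalComplex _).obj I.cochainComplex) :=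
    (ClosedShriek.RHomOD ι).mapIso e₀ ≪≫ (asIso (β.app J)).symm ≪≫
      DerivedCategory.Qh.mapIso (((Dual3.homO ι).mapHomotopyCategoryFactors (ComplexShape.up ℤ)).app I.cochainComplex) ≪≫
      (DerivedCategory.quotientCompQhIso X.Modules).app _
  let M := ((Dual3.homO ι).mapHomologicalComplex (ComplexShape.up ℕ)).obj I.cocomplex
  obtain ⟨b⟩ := nonempty_map_cochainComplex (Dual3.homO ι) I n
  let h₁ : DCoh.HD ((ClosedShriek.RHomOD ι).obj (DCoh.inD P F)) (n : ℤ) ≅ M.homology n :=
    (DerivedCategory.homologyFunctor X.Modules (n : ℤ)).mapIso e₁ ≪≫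
      (DerivedCategory.homologyFunctorFactors X.Modules (n : ℤ)).app _ ≪≫ b
  exact ⟨(Scheme.Modules.pushforward ι).mapIso h₁ ≪≫ ((M.sc n).mapHomologyIso (Scheme.Modules.pushforward ι)).symm ≪≫
    (HomologicalComplex.homologyFunctor P.Modules (ComplexShape.up ℕ) n).mapIso
      (((NatIso.mapHomologicalComplex (pushHomOIso ι) (ComplexShape.up ℕ)).app I.cocomplex).symm)⟩

/-- A shift of `ι^!` of a module with structure-sheaf value gives the fundamental local isomorphism. -/
theorem nonempty_det (r : ℕ) (hι : RegImm.IsRegularImmersionOfCodim RegImm.Kind.regular r ι) (F : P.Modules) [Coh.IsQCoh F]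
    {L : X.Modules} (hL : ExtPow.IsExtPow r (Omega.conormal ι) L)
    (e : (ClosedShriek.RHomOD ι).obj ((DCoh.inD P F)⟦(r : ℤ)⟧) ≅ DCoh.inD X (Coh.structureModule X)) :
    Nonempty (internalHom L ((Scheme.Modules.pullback ι).obj F) ≅ Coh.structureModule X) := by
  let I := injectiveResolution F
  obtain ⟨a⟩ := nonempty_push_HD ι F I r
  obtain ⟨b⟩ := FundLocal.nonempty_homology_iso ι I hι hL
  obtain ⟨o⟩ := ClosedShriek.nonempty_adj ι
  letI := o.rightAdjointCommShift ℤ
  haveI := o.commShift_of_leftAdjoint ℤ
  let c : DCoh.HD ((ClosedShriek.RHomOD ι).obj (DCoh.inD P F)) (r : ℤ) ≅ Coh.structureModule X :=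
    (((DerivedCategory.homologyFunctor X.Modules 0).shiftIso (r : ℤ) 0 (r : ℤ) (by omega)).app _).symm ≪≫
      (DerivedCategory.homologyFunctor X.Modules 0).mapIso
        ((((ClosedShriek.RHomOD ι).commShiftIso (r : ℤ)).app _).symm ≪≫ e) ≪≫
      (DerivedCategory.singleFunctorCompHomologyFunctorIso X.Modules 0).app _
  exact ⟨(SerreDual.pushFF ι).preimageIso (b.symm ≪≫ a.symm ≪≫ (Scheme.Modules.pushforward ι).mapIso c)⟩

end Groth.Agent.Dual6Lib.FundDerived
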