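import Groth.Agent.Dual6Lib.BCShriekSquare
import Groth.Agent.Dual22Lib.RightAdjTensor
import Groth.Agent.DCat.PullComp
import Groth.Agent.DCat.ProjPerf

/-!
# Base change of right adjoints along a flat map, over any base
-/

set_option autoImplicit false
set_option backward.isDefEq.respectTransparency false
set_option backward.defeqAttrib.useBackward true
set_option linter.style.haveILetI false
set_option linter.unusedSectionVars false
set_option synthInstance.maxHeartbeats 100000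

universe u

open CategoryTheory CategoryTheory.Limits CategoryTheory.Pretriangulated AlgebraicGeometry
open Groth.Agent.DCat Groth.Agent.DCat.PerfLocal Groth.Agent.Dual22Lib Groth.Agent.Dual22Lib.AdjGeom
  Groth.Agent.Dual22Lib.WeakExact Groth.Agent.Dual6Lib

attribute [local instance] HasDerivedCategory.standard
attribute [-instance] Int.instConditionallyCompleteLinearOrder

namespace Groth.Agent.Dual6Lib.BCShriekGlobal

variable {X Y : Scheme.{u}}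

/-- `a` respects supports. -/
def Supp (f : X ⟶ Y) (a : DCoh.DQCoh Y ⥤ DCoh.DQCoh X) : Prop :=
  ∀ (V : Y.Opens), IsAffineOpen V → ∀ C : DCoh.DQCoh Y, killed V.ι C.obj → killed (f ⁻¹ᵁ V).ι (a.obj C).obj

/-- `a` respects supports of bounded below objects. -/
def SuppB (f : X ⟶ Y) (a : DCoh.DQCoh Y ⥤ DCoh.DQCoh X) : Prop :=
  ∀ (V : Y.Opens), IsAffineOpen V → ∀ C : DCoh.DQCoh Y, killed V.ι C.obj → (∃ c : ℤ, C.obj.IsGE c) →
    killed (f ⁻¹ᵁ V).ι (a.obj C).obj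

/-- What base change at `K` needs from supports. -/
def SuppFor (f : X ⟶ Y) (a : DCoh.DQCoh Y ⥤ DCoh.DQCoh X) (K : DCoh.DQCoh Y) : Prop :=
  Supp f a ∨ (SuppB f a ∧ ∃ c : ℤ, K.obj.IsGE c)

theorem triExact_rightAdjoint (f : X ⟶ Y) [DCoh.HasRpush f] {hf : DCoh.RpushPreservesQCoh f}
    {a : DCoh.DQCoh Y ⥤ DCoh.DQCoh X} (adj : DCoh.RpushQ f hf ⊣ a) :
    TriExact (a ⋙ ObjectProperty.ι _) := by
  obtain ⟨_, _⟩ := DCat.exists_commShift_Rpush f
  letI : (DCoh.RpushQ f hf).CommShift ℤ :=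
    inferInstanceAs ((ObjectProperty.lift (qcD Y) (ObjectProperty.ι (qcD X) ⋙ DCoh.Rpush f)
      (fun K => hf K.obj K.property)).CommShift ℤ)
  haveI : (DCoh.RpushQ f hf).IsTriangulated :=
    inferInstanceAs ((ObjectProperty.lift (qcD Y) (ObjectProperty.ι (qcD X) ⋙ DCoh.Rpush f)
      (fun K => hf K.obj K.property)).IsTriangulated)
  letI : a.CommShift ℤ := adj.rightAdjointCommShift ℤ
  haveI : adj.CommShift ℤ := adj.commShift_of_leftAdjoint ℤ
  haveI : a.IsTriangulated := adj.isTriangulated_rightAdjoint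
  exact (triExact_of_isTriangulated a).comp (RightAdjTensor.triExact_ι X)

theorem isIso_counitQ {U : Scheme.{u}} (j : U ⟶ X) [IsOpenImmersion j] [DCoh.HasRpush j] [DCoh.HasLpull j]
    {hj : DCoh.RpushPreservesQCoh j} {hLj : Dual3.LpullPreservesQCoh j}
    (adj : Dual3.LpullQ j hLj ⊣ DCoh.RpushQ j hj) : IsIso adj.counit := by
  obtain ⟨h₁, h₂⟩ := BCSquare.full_faithful_Rpush j
  haveI : (DCoh.RpushQ j hj).Full :=
    ⟨fun {E F} φ => ⟨ObjectProperty.homMk ((DCoh.Rpush j).preimage φ.hom),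
      InducedCategory.hom_ext ((DCoh.Rpush j).map_preimage φ.hom)⟩⟩
  haveI : (DCoh.RpushQ j hj).Faithful :=
    ⟨fun {E F x y} e => InducedCategory.hom_ext ((DCoh.Rpush j).map_injective (congrArg (fun t => t.hom) e))⟩
  infer_instance

/-- Base change along the inclusion of an affine open of the base. -/
theorem isIso_bs_open (f : X ⟶ Y) [DCoh.HasRpush f] {hf : DCoh.RpushPreservesQCoh f}
    {a : DCoh.DQCoh Y ⥤ DCoh.DQCoh X} (adj : DCoh.RpushQ f hf ⊣ a)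
    (V : Y.Opens) (hV : IsAffineOpen V)
    [DCoh.HasRpush (f ∣_ V)] {hfV : DCoh.RpushPreservesQCoh (f ∣_ V)}
    {aV : DCoh.DQCoh (V : Scheme.{u}) ⥤ DCoh.DQCoh (f ⁻¹ᵁ V : Scheme.{u})} (adjV : DCoh.RpushQ (f ∣_ V) hfV ⊣ aV)
    [DCoh.HasRpush V.ι] [DCoh.HasRpush (f ⁻¹ᵁ V).ι] [DCoh.HasLpull V.ι] [DCoh.HasLpull (f ⁻¹ᵁ V).ι]
    {hg : DCoh.RpushPreservesQCoh V.ι} {hg' : DCoh.RpushPreservesQCoh (f ⁻¹ᵁ V).ι}
    {hLg : Dual3.LpullPreservesQCoh V.ι} {hLg' : Dual3.LpullPreservesQCoh (f ⁻¹ᵁ V).ι}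
    (adjg : Dual3.LpullQ V.ι hLg ⊣ DCoh.RpushQ V.ι hg)
    (adjg' : Dual3.LpullQ (f ⁻¹ᵁ V).ι hLg' ⊣ DCoh.RpushQ (f ⁻¹ᵁ V).ι hg')
    (e : DCoh.RpushQ (f ⁻¹ᵁ V).ι hg' ⋙ DCoh.RpushQ f hf ≅ DCoh.RpushQ (f ∣_ V) hfV ⋙ DCoh.RpushQ V.ι hg)
    (he : ∀ E, IsIso ((BCAlg.bc adjg adjg' e).app E)) (K : DCoh.DQCoh Y) (hsupp : SuppFor f a K) :
    IsIso (BCFormal.bs adj adjV (BCAlg.bc adjg adjg' e) he K) := by
  haveI : IsIso (BCFormal.xiA adj adjV e ((Dual3.LpullQ V.ι hLg).obj K)) :=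
    XiIso.isIso_xi adj adjV adjg adjg' e he _
  rw [← BCFormal.eq_bs_of_xi adj adjV adjg adjg' e K he]
  haveI := isIso_counitQ V.ι adjg
  haveI := isIso_counitQ (f ⁻¹ᵁ V).ι adjg'
  obtain ⟨α⟩ := BCSquare.nonempty_Lpull_rd V.ι
  obtain ⟨α'⟩ := BCSquare.nonempty_Lpull_rd (f ⁻¹ᵁ V).ι
  haveI := PullPerf.preservesFiniteLimits_restrict (f ⁻¹ᵁ V).ι
  haveI : IsIso ((Dual3.LpullQ V.ι hLg).map (adjg.unit.app K)) :=
    BCSquare.isIso_of_comp_eq_id (adjg.left_triangle_components K)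
  haveI : IsIso ((DCoh.Lpull V.ι).map (adjg.unit.app K).hom) :=
    Functor.map_isIso (ObjectProperty.ι _) ((Dual3.LpullQ V.ι hLg).map (adjg.unit.app K))
  haveI : IsIso ((rd V.ι).map (adjg.unit.app K).hom) := (NatIso.isIso_map_iff α _).1 ‹_›
  haveI h1 : IsIso ((a ⋙ ObjectProperty.ι _ ⋙ rd (f ⁻¹ᵁ V).ι).map (adjg.unit.app K)) := by
    have hF : TriExact ((a ⋙ ObjectProperty.ι _) ⋙ rd (f ⁻¹ᵁ V).ι) :=
      (triExact_rightAdjoint f adj).comp (TenLocal.triExact_rd (f ⁻¹ᵁ V).ι)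
    obtain ⟨C, v, w, hT⟩ := distinguished_cocone_triangle (adjg.unit.app K)
    haveI := PullPerf.preservesFiniteLimits_restrict V.ι
    obtain ⟨δ, hδ⟩ := ((RightAdjTensor.triExact_ι Y).comp (TenLocal.triExact_rd V.ι)) _ hT
    have hk : killed V.ι C.obj := (Triangle.isZero₃_iff_isIso₁ _ hδ).2 ‹_›
    have hC : killed (f ⁻¹ᵁ V).ι (a.obj C).obj := by
      rcases hsupp with h | ⟨h, c, hc⟩
      · exact h V hV C hk
      refine h V hV C hk ⟨c - 1, ?_⟩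
      let M := (DCoh.RpushQ V.ι hg).obj ((Dual3.LpullQ V.ι hLg).obj K)
      haveI := hc
      haveI : ((DCoh.Lpull V.ι).obj K.obj).IsGE c := by
        obtain ⟨β⟩ := BCShriekAffine.nonempty_Lpull_Gd V.ι
        haveI := HomFlat.isGE_Gd V.ι (K := K.obj) c
        exact DerivedCategory.TStructure.t.isGE_of_iso (β.app K.obj).symm c
      haveI : M.obj.IsGE c := SiteDer16.isGE_totalRightDerived (modules_enoughKInj _) (Scheme.Modules.pushforward V.ι)
        ((DCoh.Lpull V.ι).obj K.obj) c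
      obtain ⟨δ', hδ'⟩ := (RightAdjTensor.triExact_ι Y) _ hT
      exact DerivedCategory.TStructure.t.isGE₂ _ (rot_of_distTriang _ hδ') (c - 1)
        (DerivedCategory.TStructure.t.isGE_of_ge M.obj (c - 1) c (by omega))
        (DerivedCategory.TStructure.t.isGE_shift K.obj c 1 (c - 1) (by omega))
    obtain ⟨δ'', hδ''⟩ := hF _ hT
    exact (Triangle.isZero₃_iff_isIso₁ _ hδ'').1 hC
  haveI : IsIso ((DCoh.Lpull (f ⁻¹ᵁ V).ι).map (a.map (adjg.unit.app K)).hom) := (NatIso.isIso_map_iff α' _).2 h1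
  haveI : IsIso ((Dual3.LpullQ (f ⁻¹ᵁ V).ι hLg').map (a.map (adjg.unit.app K))) := by
    suffices IsIso ((ObjectProperty.ι _).map ((Dual3.LpullQ (f ⁻¹ᵁ V).ι hLg').map (a.map (adjg.unit.app K)))) from
      (ObjectProperty.fullyFaithfulι _).isIso_of_isIso_map _
    exact ‹IsIso ((DCoh.Lpull (f ⁻¹ᵁ V).ι).map (a.map (adjg.unit.app K)).hom)›
  infer_instance

/-- Composites of derived inverse images on `D_QCoh`. -/
theorem nonempty_LpullQ_comp {U V W : Scheme.{u}} (p : U ⟶ V) (q : V ⟶ X) (p' : U ⟶ W) (q' : W ⟶ X)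
    (h : p ≫ q = p' ≫ q') [DCoh.HasLpull p] [DCoh.HasLpull q] [DCoh.HasLpull p'] [DCoh.HasLpull q']
    (hp : Dual3.LpullPreservesQCoh p) (hq : Dual3.LpullPreservesQCoh q) (hp' : Dual3.LpullPreservesQCoh p')
    (hq' : Dual3.LpullPreservesQCoh q') :
    Nonempty (Dual3.LpullQ q hq ⋙ Dual3.LpullQ p hp ≅ Dual3.LpullQ q' hq' ⋙ Dual3.LpullQ p' hp') := by
  haveI := hasLpull (p ≫ q)
  haveI := hasLpull (p' ≫ q')
  obtain ⟨a⟩ := DCat.nonempty_LpullComp p q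
  obtain ⟨b⟩ := DCat.nonempty_LpullComp p' q'
  let c : DCoh.Lpull q ⋙ DCoh.Lpull p ≅ DCoh.Lpull q' ⋙ DCoh.Lpull p' := a ≪≫ eqToIso (by congr 1) ≪≫ b.symm
  refine ⟨NatIso.ofComponents (fun K => (ObjectProperty.fullyFaithfulι _).preimageIso (c.app K.obj)) fun {K L} φ => ?_⟩
  refine InducedCategory.hom_ext ?_
  exact c.hom.naturality φ.hom

theorem exists_adjQ (g : X ⟶ Y) [QuasiCompact g] [QuasiSeparated g] [Flat g] [DCoh.HasRpush g] [DCoh.HasLpull g]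
    (hg : DCoh.RpushPreservesQCoh g) (hLg : Dual3.LpullPreservesQCoh g) :
    Nonempty (Dual3.LpullQ g hLg ⊣ DCoh.RpushQ g hg) := by
  obtain ⟨a⟩ := nonempty_pullPushAdj g
  exact ⟨a.restrictFullyFaithful (ObjectProperty.fullyFaithfulι _) (ObjectProperty.fullyFaithfulι _)
    (Iso.refl _) (Iso.refl _)⟩

section Main

variable {X' Y' : Scheme.{u}} {f : X ⟶ Y} {g : Y' ⟶ Y} {f' : X' ⟶ Y'} {g' : X' ⟶ X}
  [DCoh.HasRpush f] [DCoh.HasRpush f'] [DCoh.HasRpush g] [DCoh.HasRpush g']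
  [DCoh.HasLpull g] [DCoh.HasLpull g']
  {hf : DCoh.RpushPreservesQCoh f} {hf' : DCoh.RpushPreservesQCoh f'}
  {hg : DCoh.RpushPreservesQCoh g} {hg' : DCoh.RpushPreservesQCoh g'}
  {hLg : Dual3.LpullPreservesQCoh g} {hLg' : Dual3.LpullPreservesQCoh g'}
  {a : DCoh.DQCoh Y ⥤ DCoh.DQCoh X} {a' : DCoh.DQCoh Y' ⥤ DCoh.DQCoh X'}

/-- **Flat base change of right adjoints.** -/
theorem isIso_bs_global (hsq : IsPullback g' f' f g) [Flat g]
    [CompactSpace X] [QuasiSeparatedSpace X] [CompactSpace X'] [QuasiSeparatedSpace X']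
    [QuasiSeparatedSpace Y] [QuasiSeparatedSpace Y'] [QuasiCompact f] [QuasiSeparated f]
    [QuasiCompact f'] [QuasiSeparated f']
    (adj : DCoh.RpushQ f hf ⊣ a) (adj' : DCoh.RpushQ f' hf' ⊣ a') (K : DCoh.DQCoh Y)
    (hsupp : SuppFor f a K) (hsupp' : SuppFor f' a' ((Dual3.LpullQ g hLg).obj K))
    (τ : DCoh.RpushQ f hf ⋙ Dual3.LpullQ g hLg ⟶ Dual3.LpullQ g' hLg' ⋙ DCoh.RpushQ f' hf')
    (hτ : ∀ E, IsIso (τ.app E))
    (hK : ∀ V : Y.Opens, IsAffineOpen V → ∀ (_ : DCoh.HasRpush (f ∣_ V)) (_ : DCoh.HasLpull V.ι),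
      BCShriekAffine.Testable (f ∣_ V) ((DCoh.Lpull V.ι).obj K.obj)) :
    IsIso (BCFormal.bs adj adj' τ hτ K) := by
  suffices IsIso ((ObjectProperty.ι _).map (BCFormal.bs adj adj' τ hτ K)) from
    (ObjectProperty.fullyFaithfulι _).isIso_of_isIso_map _
  refine ProjPerf.isIso_of_locally _ fun x => ?_
  obtain ⟨V, hV, hxV, -⟩ := exists_isAffineOpen_mem_and_subset (show g (f' x) ∈ (⊤ : Y.Opens) from trivial)
  obtain ⟨V', hV', hxV', hle⟩ := exists_isAffineOpen_mem_and_subset (show f' x ∈ g ⁻¹ᵁ V from hxV)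
  refine ⟨f' ⁻¹ᵁ V', hxV', ?_⟩
  have hle' : f' ⁻¹ᵁ V' ≤ g' ⁻¹ᵁ (f ⁻¹ᵁ V) := fun z hz => by
    show f (g' z) ∈ V
    rw [← Scheme.Hom.comp_apply, hsq.w, Scheme.Hom.comp_apply]
    exact hle hz
  let U := f ⁻¹ᵁ V
  let U' := f' ⁻¹ᵁ V'
  let g₂ : (V' : Scheme.{u}) ⟶ (V : Scheme.{u}) := g.resLE V V' hle
  let g₂' : (U' : Scheme.{u}) ⟶ (U : Scheme.{u}) := g'.resLE U U' hle'
  haveI : IsAffine V := hV
  haveI : IsAffine V' := hV'
  have hsqj : IsPullback U.ι (f ∣_ V) f V.ι := (isPullback_morphismRestrict f V).flip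
  have hsqk : IsPullback U'.ι (f' ∣_ V') f' V'.ι := (isPullback_morphismRestrict f' V').flip
  have hV₂ : g₂ ≫ V.ι = V'.ι ≫ g := Scheme.Hom.resLE_comp_ι g hle
  have hU₂ : g₂' ≫ U.ι = U'.ι ≫ g' := Scheme.Hom.resLE_comp_ι g' hle'
  have hsq₂ : IsPullback g₂' (f' ∣_ V') (f ∣_ V) g₂ := by
    refine IsPullback.of_right ?_ ?_ hsqj
    · rw [hU₂, hV₂]
      exact hsqk.paste_horiz hsq
    · rw [← cancel_mono V.ι, Category.assoc, Category.assoc, morphismRestrict_ι, reassoc_of% hU₂, hsq.w, hV₂,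
        morphismRestrict_ι_assoc]
  haveI : QuasiCompact V.ι := quasiCompact_of_compactSpace _
  haveI : QuasiCompact V'.ι := quasiCompact_of_compactSpace _
  haveI : QuasiCompact U.ι := MorphismProperty.of_isPullback (P := @QuasiCompact) hsqj.flip inferInstance
  haveI : QuasiCompact U'.ι := MorphismProperty.of_isPullback (P := @QuasiCompact) hsqk.flip inferInstance
  haveI : QuasiCompact (f ∣_ V) := MorphismProperty.of_isPullback (P := @QuasiCompact) hsqj inferInstance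
  haveI : QuasiSeparated (f ∣_ V) := MorphismProperty.of_isPullback (P := @QuasiSeparated) hsqj inferInstance
  haveI : QuasiCompact (f' ∣_ V') := MorphismProperty.of_isPullback (P := @QuasiCompact) hsqk inferInstance
  haveI : QuasiSeparated (f' ∣_ V') := MorphismProperty.of_isPullback (P := @QuasiSeparated) hsqk inferInstance
  haveI : CompactSpace (U : Scheme.{u}) := QuasiCompact.compactSpace_of_compactSpace (f ∣_ V)
  haveI : QuasiSeparatedSpace (U : Scheme.{u}) := quasiSeparatedSpace_of_quasiSeparated (f ∣_ V)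
  haveI : CompactSpace (U' : Scheme.{u}) := QuasiCompact.compactSpace_of_compactSpace (f' ∣_ V')
  haveI : QuasiSeparatedSpace (U' : Scheme.{u}) := quasiSeparatedSpace_of_quasiSeparated (f' ∣_ V')
  haveI : QuasiCompact g₂' := quasiCompact_of_compactSpace _
  haveI : QuasiSeparated g₂' := QuasiSeparated.of_quasiSeparatedSpace _
  haveI : Flat g₂ := inferInstanceAs (Flat (g.resLE V V' hle))
  haveI : Flat g₂' := MorphismProperty.of_isPullback hsq₂.flip inferInstance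
  haveI := hasRpush (f ∣_ V)
  haveI := hasRpush (f' ∣_ V')
  haveI := hasRpush V.ι
  haveI := hasRpush U.ι
  haveI := hasRpush V'.ι
  haveI := hasRpush U'.ι
  haveI := hasRpush g₂'
  haveI := hasLpull V.ι
  haveI := hasLpull U.ι
  haveI := hasLpull V'.ι
  haveI := hasLpull U'.ι
  haveI := hasLpull g₂
  haveI := hasLpull g₂'
  have hfV : DCoh.RpushPreservesQCoh (f ∣_ V) := fun M hM => DQCoh.isQCohD_Rpush _ M hM
  have hfV' : DCoh.RpushPreservesQCoh (f' ∣_ V') := fun M hM => DQCoh.isQCohD_Rpush _ M hM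
  have hj : DCoh.RpushPreservesQCoh V.ι := fun M hM => DQCoh.isQCohD_Rpush _ M hM
  have hj' : DCoh.RpushPreservesQCoh U.ι := fun M hM => DQCoh.isQCohD_Rpush _ M hM
  have hk : DCoh.RpushPreservesQCoh V'.ι := fun M hM => DQCoh.isQCohD_Rpush _ M hM
  have hk' : DCoh.RpushPreservesQCoh U'.ι := fun M hM => DQCoh.isQCohD_Rpush _ M hM
  have hg₂' : DCoh.RpushPreservesQCoh g₂' := fun M hM => DQCoh.isQCohD_Rpush _ M hM
  haveI : (DCoh.RpushQ (f ∣_ V) hfV).IsLeftAdjoint := isLeftAdjoint_RpushQ (f ∣_ V) hfV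
  haveI : (DCoh.RpushQ (f' ∣_ V') hfV').IsLeftAdjoint := isLeftAdjoint_RpushQ (f' ∣_ V') hfV'
  let adjV := Adjunction.ofIsLeftAdjoint (DCoh.RpushQ (f ∣_ V) hfV)
  let adjV' := Adjunction.ofIsLeftAdjoint (DCoh.RpushQ (f' ∣_ V') hfV')
  obtain ⟨aj⟩ := exists_adjQ V.ι hj (XiIso.lpullPreservesQCoh _)
  obtain ⟨aj'⟩ := exists_adjQ U.ι hj' (XiIso.lpullPreservesQCoh _)
  obtain ⟨ak⟩ := exists_adjQ V'.ι hk (XiIso.lpullPreservesQCoh _)
  obtain ⟨ak'⟩ := exists_adjQ U'.ι hk' (XiIso.lpullPreservesQCoh _)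
  obtain ⟨a₂⟩ := exists_adjQ g₂' hg₂' (XiIso.lpullPreservesQCoh _)
  obtain ⟨ej, hej⟩ := BCShriekSquare.exists_bc (hf := hf) (hf' := hfV) hsqj aj aj'
  obtain ⟨ek, hek⟩ := BCShriekSquare.exists_bc (hf := hf') (hf' := hfV') hsqk ak ak'
  haveI := isIso_counitQ U.ι aj'
  -- the two factorisations
  obtain ⟨α⟩ := nonempty_LpullQ_comp V'.ι g g₂ V.ι hV₂.symm (XiIso.lpullPreservesQCoh _) hLg
    (XiIso.lpullPreservesQCoh _) (XiIso.lpullPreservesQCoh _)
  obtain ⟨α'⟩ := nonempty_LpullQ_comp U'.ι g' g₂' U.ι hU₂.symm (XiIso.lpullPreservesQCoh _) hLg'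
    (XiIso.lpullPreservesQCoh _) (XiIso.lpullPreservesQCoh _)
  let Lk := Dual3.LpullQ V'.ι (XiIso.lpullPreservesQCoh _)
  let Lk' := Dual3.LpullQ U'.ι (XiIso.lpullPreservesQCoh _)
  let τk := BCAlg.bc ak ak' ek
  let σ : DCoh.RpushQ f hf ⋙ Dual3.LpullQ g hLg ⋙ Lk ⟶
      (Dual3.LpullQ g' hLg' ⋙ Lk') ⋙ DCoh.RpushQ (f' ∣_ V') hfV' :=
    { app := fun E => Lk.map (τ.app E) ≫ τk.app ((Dual3.LpullQ g' hLg').obj E)
      naturality := fun E₁ E₂ u => by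
        have h1 := τ.naturality u
        have h2 := τk.naturality ((Dual3.LpullQ g' hLg').map u)
        dsimp only [Functor.comp_map, Functor.comp_obj] at h1 h2 ⊢
        rw [← Lk.map_comp_assoc, h1, Lk.map_comp_assoc, h2, Category.assoc] }
  haveI := hτ
  haveI := hek
  have hσ : ∀ E, IsIso (σ.app E) := fun E => by dsimp only [σ]; infer_instance
  haveI := hσ
  let σ₂ := Functor.whiskerLeft (DCoh.RpushQ f hf) α.inv ≫ σ ≫
    Functor.whiskerRight α'.hom (DCoh.RpushQ (f' ∣_ V') hfV')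
  have hσ₂ : ∀ E, IsIso (σ₂.app E) := fun E => by
    simp only [σ₂, NatTrans.comp_app, Functor.whiskerLeft_app, Functor.whiskerRight_app]
    infer_instance
  obtain ⟨τ₂, hτ₂, hrel⟩ := BCFormal.exists_factor aj' (BCAlg.bc aj aj' ej) hej σ₂ hσ₂
  have i2 : IsIso (BCFormal.bs adj adjV' σ₂ hσ₂ K) := by
    rw [BCFormal.bs_comp adj adjV _ hej adjV' τ₂ hτ₂ σ₂ hσ₂ hrel K]
    haveI := isIso_bs_open f adj V hV adjV aj aj' ej hej K hsupp
    haveI := BCShriekAffine.isIso_bs (f ∣_ V) g₂ (f' ∣_ V') g₂' hsq₂ adjV adjV' a₂ τ₂ hτ₂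
      ((Dual3.LpullQ V.ι (XiIso.lpullPreservesQCoh _)).obj K) (hK V hV inferInstance inferInstance)
    infer_instance
  have i1 : IsIso (BCFormal.bs adj adjV' σ hσ K) :=
    (BCFormal.isIso_bs_iff_of_iso adj adjV' σ hσ α α' σ₂ hσ₂ (fun _ => rfl) K).1 i2
  rw [BCFormal.bs_comp adj adj' τ hτ adjV' τk hek σ hσ (fun _ => rfl) K] at i1
  haveI := i1
  haveI := isIso_bs_open f' adj' V' hV' adjV' ak ak' ek hek ((Dual3.LpullQ g hLg).obj K) hsupp'
  haveI : IsIso (Lk'.map (BCFormal.bs adj adj' τ hτ K)) := IsIso.of_isIso_comp_right _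
    (BCFormal.bs adj' adjV' τk hek ((Dual3.LpullQ g hLg).obj K))
  obtain ⟨r⟩ := BCSquare.nonempty_Lpull_rd U'.ι
  exact (NatIso.isIso_map_iff r _).1 (Functor.map_isIso (ObjectProperty.ι _) (Lk'.map (BCFormal.bs adj adj' τ hτ K)))

end Main

end Groth.Agent.Dual6Lib.BCShriekGlobal
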