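import Groth.Agent.MorProj.OmegaAffine
import Groth.Agent.JacAJ27.Kappa
import Groth.Agent.CAlgH.PicPunctCriteria
import Groth.Agent.GrassLib.Charts
import Mathlib.RingTheory.Kaehler.Polynomial

/-!
# Differentials of the affine line
-/

set_option autoImplicit false
set_option backward.isDefEq.respectTransparency false
set_option backward.defeqAttrib.useBackward true
set_option linter.style.haveILetI false

universe u

open CategoryTheory CategoryTheory.Limits AlgebraicGeometry

namespace Groth.Agent.Dual6Lib.AffineLine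

/-- The affine line is smooth of relative dimension one. -/
theorem smooth_line (Y : Scheme.{u}) :
    SmoothOfRelativeDimension 1 (AffineSpace (ULift.{u} (Fin 1)) Y ↘ Y) := by
  haveI := smoothOfRelativeDimension_isStableUnderBaseChange.{u} 1
  haveI := GrassLib.smoothOfRelativeDimension_affineSpace 1 (ULift.{u} ℤ)
  exact MorphismProperty.of_isPullback
    (AffineSpace.isPullback_map (n := ULift.{u} (Fin 1)) (specULiftZIsTerminal.from Y)) this

/-- `Ω = O` for the affine line. -/
theorem nonempty_omega (Y : Scheme.{u}) :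
    Nonempty (Omega.sheaf (AffineSpace (ULift.{u} (Fin 1)) Y ↘ Y) ≅ Coh.structureModule (AffineSpace (ULift.{u} (Fin 1)) Y)) := by
  let R : CommRingCat.{u} := CommRingCat.of (ULift.{u} ℤ)
  let A := MvPolynomial (ULift.{u} (Fin 1)) R
  let f0 : Y ⟶ Spec R := specULiftZIsTerminal.from Y
  let e := AffineSpace.SpecIso (ULift.{u} (Fin 1)) R
  have h2 : IsPullback e.hom (AffineSpace (ULift.{u} (Fin 1)) (Spec R) ↘ Spec R)
      (Spec.map (CommRingCat.ofHom (algebraMap R A))) (𝟙 (Spec R)) :=
    IsPullback.of_horiz_isIso ⟨by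
      rw [Category.comp_id, MvPolynomial.algebraMap_eq, ← AffineSpace.SpecIso_inv_over]
      exact e.hom_inv_id_assoc _⟩
  have hpb := (AffineSpace.isPullback_map (n := ULift.{u} (Fin 1)) f0).paste_horiz h2
  rw [Category.comp_id] at hpb
  obtain ⟨i⟩ := JacAJ27.nonempty_omega_bc hpb
  obtain ⟨t⟩ := MorProj.nonempty_omega_iso_tilde R A
  obtain ⟨u⟩ := CAlgH.PicPunct.nonempty_pullback_unit (AffineSpace.map (ULift.{u} (Fin 1)) f0 ≫ e.hom)
  let l : Ω[A⁄R] ≃ₗ[A] A :=
    (KaehlerDifferential.mvPolynomialBasis R (ULift.{u} (Fin 1))).repr ≪≫ₗ Finsupp.LinearEquiv.finsuppUnique A A _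
  exact ⟨i.symm ≪≫ (Scheme.Modules.pullback _).mapIso
    (t ≪≫ (tilde.functor (CommRingCat.of A)).mapIso l.toModuleIso ≪≫ AlgebraicGeometry.tildeSelf) ≪≫ u⟩

end Groth.Agent.Dual6Lib.AffineLine
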