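import Groth.Agent.Dual22Lib.BCAlg
import Mathlib.CategoryTheory.Linear.LinearFunctor
import Mathlib.RingTheory.TensorProduct.Basic
import Mathlib.LinearAlgebra.TensorProduct.Tower

/-!
# Base change maps of right adjoints, formally

For adjunctions `F ⊣ G`, `F' ⊣ G'` and an isomorphism `τ : F ⋙ L ≅ L' ⋙ F'` the map
`bs : L' G K ⟶ G' L K` is the transpose of `τ⁻¹` followed by the counit.
-/

set_option autoImplicit false
set_option linter.style.haveILetI false
set_option linter.unusedSectionVars false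

universe w v₁ v₂ v₃ v₄ v₅ v₆ u₁ u₂ u₃ u₄ u₅ u₆

open CategoryTheory TensorProduct

namespace Groth.Agent.Dual6Lib.BCFormal

open Groth.Agent.Dual22Lib

variable {A : Type u₁} [Category.{v₁} A] {B : Type u₂} [Category.{v₂} B]
  {A' : Type u₃} [Category.{v₃} A'] {B' : Type u₄} [Category.{v₄} B']
  {F : A ⥤ B} {G : B ⥤ A} {F' : A' ⥤ B'} {G' : B' ⥤ A'} {L : B ⥤ B'} {L' : A ⥤ A'}

/-- The base change map of the right adjoints. -/
noncomputable def bs (adj : F ⊣ G) (adj' : F' ⊣ G') (τ : F ⋙ L ⟶ L' ⋙ F') (hτ : ∀ E, IsIso (τ.app E)) (K : B) :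
    L'.obj (G.obj K) ⟶ G'.obj (L.obj K) :=
  haveI := hτ (G.obj K)
  adj'.homEquiv _ _ (inv (τ.app (G.obj K)) ≫ L.map (adj.counit.app K))

variable (adj : F ⊣ G) (adj' : F' ⊣ G') (τ : F ⋙ L ⟶ L' ⋙ F') (hτ : ∀ E, IsIso (τ.app E))

theorem bs_spec (K : B) :
    τ.app (G.obj K) ≫ F'.map (bs adj adj' τ hτ K) ≫ adj'.counit.app (L.obj K) = L.map (adj.counit.app K) := by
  haveI := hτ (G.obj K)
  have h := (adj'.homEquiv_counit _ _ (bs adj adj' τ hτ K)).symm
  rw [h, bs, Equiv.symm_apply_apply]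
  simp

theorem eq_bs {K : B} (χ : L'.obj (G.obj K) ⟶ G'.obj (L.obj K))
    (h : τ.app (G.obj K) ≫ F'.map χ ≫ adj'.counit.app (L.obj K) = L.map (adj.counit.app K)) :
    χ = bs adj adj' τ hτ K := by
  haveI := hτ (G.obj K)
  apply (adj'.homEquiv _ _).symm.injective
  rw [adj'.homEquiv_counit, bs, Equiv.symm_apply_apply, ← h]
  simp

/-- Transpose of a map followed by `bs`. -/
theorem transpose_bs {P : A} {K : B} (φ : P ⟶ G.obj K) :
    τ.app P ≫ (adj'.homEquiv _ _).symm (L'.map φ ≫ bs adj adj' τ hτ K) = L.map ((adj.homEquiv _ _).symm φ) := by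
  have h := τ.naturality φ
  dsimp at h
  rw [adj'.homEquiv_counit, adj.homEquiv_counit, Functor.map_comp, Category.assoc, ← reassoc_of% h, bs_spec,
    Functor.map_comp]

/-- `bs` is natural. -/
theorem bs_naturality {K₁ K₂ : B} (u : K₁ ⟶ K₂) :
    L'.map (G.map u) ≫ bs adj adj' τ hτ K₂ = bs adj adj' τ hτ K₁ ≫ G'.map (L.map u) := by
  haveI := hτ (G.obj K₁)
  haveI := hτ (G.obj K₂)
  have h := τ.naturality (G.map u)
  have hc := adj.counit.naturality u
  dsimp at h hc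
  simp only [bs]
  rw [← adj'.homEquiv_naturality_left, ← adj'.homEquiv_naturality_right]
  congr 1
  have h' : F'.map (L'.map (G.map u)) ≫ inv (τ.app (G.obj K₂)) =
      inv (τ.app (G.obj K₁)) ≫ L.map (F.map (G.map u)) := by
    rw [IsIso.comp_inv_eq, Category.assoc, h, IsIso.inv_hom_id_assoc]
  rw [reassoc_of% h', ← L.map_comp, hc, L.map_comp, Category.assoc]

section Iso

variable {M : B ⥤ B'} {M' : A ⥤ A'}

theorem bs_iso (α : L ≅ M) (α' : L' ≅ M') (σ : F ⋙ M ⟶ M' ⋙ F') (hσ : ∀ E, IsIso (σ.app E))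
    (hrel : ∀ E, σ.app E = α.inv.app (F.obj E) ≫ τ.app E ≫ F'.map (α'.hom.app E)) (K : B) :
    bs adj adj' σ hσ K = α'.inv.app (G.obj K) ≫ bs adj adj' τ hτ K ≫ G'.map (α.hom.app K) := by
  refine (eq_bs adj adj' σ hσ _ ?_).symm
  have h := α.hom.naturality (adj.counit.app K)
  have h1 := adj'.counit.naturality (α.hom.app K)
  dsimp at h h1
  rw [hrel, Functor.map_comp, Functor.map_comp, Category.assoc, Category.assoc, Category.assoc, Category.assoc,
    ← F'.map_comp_assoc, Iso.hom_inv_id_app, CategoryTheory.Functor.map_id]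
  erw [Category.id_comp, h1, reassoc_of% (bs_spec adj adj' τ hτ K)]
  rw [h, ← Category.assoc, Iso.inv_hom_id_app]
  simp

theorem isIso_bs_iff_of_iso (α : L ≅ M) (α' : L' ≅ M') (σ : F ⋙ M ⟶ M' ⋙ F') (hσ : ∀ E, IsIso (σ.app E))
    (hrel : ∀ E, σ.app E = α.inv.app (F.obj E) ≫ τ.app E ≫ F'.map (α'.hom.app E)) (K : B) :
    IsIso (bs adj adj' σ hσ K) ↔ IsIso (bs adj adj' τ hτ K) := by
  rw [bs_iso adj adj' τ hτ α α' σ hσ hrel]
  simp

end Iso

section Paste

variable {A'' : Type u₅} [Category.{v₅} A''] {B'' : Type u₆} [Category.{v₆} B'']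
  {F'' : A'' ⥤ B''} {G'' : B'' ⥤ A''} {L₂ : B' ⥤ B''} {L₂' : A' ⥤ A''}

theorem bs_comp (adj'' : F'' ⊣ G'') (τ₂ : F' ⋙ L₂ ⟶ L₂' ⋙ F'') (hτ₂ : ∀ E, IsIso (τ₂.app E))
    (σ : F ⋙ L ⋙ L₂ ⟶ (L' ⋙ L₂') ⋙ F'') (hσ : ∀ E, IsIso (σ.app E))
    (hrel : ∀ E, σ.app E = L₂.map (τ.app E) ≫ τ₂.app (L'.obj E)) (K : B) :
    bs adj adj'' (L := L ⋙ L₂) (L' := L' ⋙ L₂') σ hσ K =
      L₂'.map (bs adj adj' τ hτ K) ≫ bs adj' adj'' τ₂ hτ₂ (L.obj K) := by
  refine (eq_bs adj adj'' (L := L ⋙ L₂) (L' := L' ⋙ L₂') σ hσ _ ?_).symm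
  have h := τ₂.naturality (bs adj adj' τ hτ K)
  dsimp at h
  rw [hrel, Functor.map_comp, Category.assoc, Category.assoc]
  erw [← reassoc_of% h, bs_spec adj' adj'' τ₂ hτ₂ (L.obj K)]
  rw [← Functor.map_comp, ← Functor.map_comp, bs_spec]
  rfl

end Paste

section Xi

variable {R : B' ⥤ B} {R' : A' ⥤ A} (adjg : L ⊣ R) (adjg' : L' ⊣ R') (e : R' ⋙ F ≅ F' ⋙ R)

/-- The mate `R' G' ⟶ G R`. -/
noncomputable def xiA (M : B') : R'.obj (G'.obj M) ⟶ G.obj (R.obj M) :=
  (adj.homEquiv _ _) (e.hom.app (G'.obj M) ≫ R.map (adj'.counit.app M))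

/-- When `xiA` is invertible, `bs` is the usual composite. -/
theorem eq_bs_of_xi (K : B) [IsIso (xiA adj adj' e (L.obj K))] (h : ∀ E, IsIso ((BCAlg.bc adjg adjg' e).app E)) :
    L'.map (G.map (adjg.unit.app K)) ≫ L'.map (inv (xiA adj adj' e (L.obj K))) ≫
      adjg'.counit.app (G'.obj (L.obj K)) = bs adj adj' (BCAlg.bc adjg adjg' e) h K := by
  apply eq_bs
  set χ := L'.map (G.map (adjg.unit.app K)) ≫ L'.map (inv (xiA adj adj' e (L.obj K))) ≫
      adjg'.counit.app (G'.obj (L.obj K)) with hχ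
  apply (adjg.homEquiv _ _).injective
  erw [adjg.homEquiv_naturality_right, BCAlg.unit_bc, adjg.homEquiv_unit]
  refine Eq.trans ?_ (adjg.unit.naturality (adj.counit.app K))
  simp only [Functor.comp_obj, Functor.id_obj, Functor.id_map]
  have hn := e.hom.naturality χ
  simp only [Functor.comp_map, Functor.comp_obj] at hn
  rw [Functor.map_comp, Category.assoc, ← reassoc_of% hn, ← Functor.map_comp_assoc]
  have hb : adjg'.unit.app (G.obj K) ≫ R'.map χ = G.map (adjg.unit.app K) ≫ inv (xiA adj adj' e (L.obj K)) := by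
    rw [hχ, ← Category.assoc, ← L'.map_comp]
    refine (adjg'.homEquiv_unit _ _ _).symm.trans ?_
    apply (adjg'.homEquiv _ _).symm.injective
    rw [Equiv.symm_apply_apply, adjg'.homEquiv_counit]
    simp
  have hx : e.hom.app (G'.obj (L.obj K)) ≫ R.map (adj'.counit.app (L.obj K)) =
      F.map (xiA adj adj' e (L.obj K)) ≫ adj.counit.app _ :=
    ((adj.homEquiv _ _).symm_apply_apply _).symm.trans (adj.homEquiv_counit _ _ _)
  rw [hb, Functor.map_comp_assoc, hx, ← Functor.map_comp_assoc F (inv _), IsIso.inv_hom_id,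
    CategoryTheory.Functor.map_id, Category.id_comp]
  exact adj.counit.naturality (adjg.unit.app K)

end Xi

section Linear

variable {R₀ : Type w} [CommRing R₀] {S₀ : Type w} [CommRing S₀] [Algebra R₀ S₀]
  [Preadditive A] [Preadditive B] [Preadditive A'] [Preadditive B']
  [Linear R₀ A] [Linear R₀ B] [Linear R₀ A'] [Linear R₀ B'] [Linear S₀ A'] [Linear S₀ B']
  [F.Additive] [L.Additive] [L'.Additive] [F'.Additive]
  [Functor.Linear R₀ F] [Functor.Linear R₀ L] [Functor.Linear R₀ L'] [Functor.Linear S₀ F']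
  [∀ X Y : A', IsScalarTower R₀ S₀ (X ⟶ Y)] [∀ X Y : B', IsScalarTower R₀ S₀ (X ⟶ Y)]

variable (R₀ S₀) in
/-- The base change of the map on homomorphisms. -/
noncomputable def lift {C : Type u₅} [Category.{v₅} C] [Preadditive C] [Linear R₀ C]
    {D : Type u₆} [Category.{v₆} D] [Preadditive D] [Linear R₀ D] [Linear S₀ D]
    [∀ X Y : D, IsScalarTower R₀ S₀ (X ⟶ Y)] (T : C ⥤ D) [T.Additive] [T.Linear R₀] (P Q : C) :
    S₀ ⊗[R₀] (P ⟶ Q) →ₗ[S₀] (T.obj P ⟶ T.obj Q) :=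
  (T.mapLinearMap R₀ : (P ⟶ Q) →ₗ[R₀] (T.obj P ⟶ T.obj Q)).liftBaseChange S₀

/-- Testing against `P`. -/
theorem bijective_comp_bs (P : A) (K : B) (h₁ : Function.Bijective (lift R₀ S₀ L' P (G.obj K)))
    (h₂ : Function.Bijective (lift R₀ S₀ L (F.obj P) K)) :
    Function.Bijective (fun ψ : L'.obj P ⟶ L'.obj (G.obj K) => ψ ≫ bs adj adj' τ hτ K) := by
  haveI := hτ P
  let t : (P ⟶ G.obj K) ≃ₗ[R₀] (F.obj P ⟶ K) :=
    { toFun := fun φ => F.map φ ≫ adj.counit.app K
      map_add' := fun a b => by rw [Functor.map_add, Preadditive.add_comp]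
      map_smul' := fun r a => by rw [Functor.map_smul, Linear.smul_comp, RingHom.id_apply]
      invFun := adj.homEquiv _ _
      left_inv := fun φ => (congrArg (adj.homEquiv P K) (adj.homEquiv_counit P K φ).symm).trans
        ((adj.homEquiv P K).apply_symm_apply φ)
      right_inv := fun φ => (adj.homEquiv_counit P K (adj.homEquiv P K φ)).symm.trans
        ((adj.homEquiv P K).symm_apply_apply φ) }
  let Φ : (L'.obj P ⟶ L'.obj (G.obj K)) →ₗ[S₀] (L.obj (F.obj P) ⟶ L.obj K) :=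
    { toFun := fun ψ => τ.app P ≫ F'.map (ψ ≫ bs adj adj' τ hτ K) ≫ adj'.counit.app (L.obj K)
      map_add' := fun a b => by simp [Preadditive.add_comp, Preadditive.comp_add, Functor.map_add]
      map_smul' := fun r a => by
        rw [Linear.smul_comp, Functor.map_smul, Linear.smul_comp, Linear.comp_smul, RingHom.id_apply] }
  have key : Φ ∘ₗ lift R₀ S₀ L' P (G.obj K) =
      lift R₀ S₀ L (F.obj P) K ∘ₗ (LinearEquiv.baseChange R₀ S₀ _ _ t).toLinearMap := by
    ext φ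
    simp only [LinearMap.coe_comp, Function.comp_apply, TensorProduct.AlgebraTensorModule.curry_apply,
      LinearMap.coe_restrictScalars, TensorProduct.curry_apply, LinearEquiv.coe_coe,
      LinearEquiv.baseChange_tmul, lift, LinearMap.liftBaseChange_tmul, one_smul]
    show τ.app P ≫ F'.map (L'.map φ ≫ bs adj adj' τ hτ K) ≫ adj'.counit.app (L.obj K) =
      L.map (F.map φ ≫ adj.counit.app K)
    have h := transpose_bs adj adj' τ hτ φ
    rwa [adj'.homEquiv_counit, adj.homEquiv_counit] at h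
  have hΦ : Function.Bijective Φ := by
    have h3 : Function.Bijective (Φ ∘ lift R₀ S₀ L' P (G.obj K)) := by
      have := congrArg DFunLike.coe key
      simp only [LinearMap.coe_comp] at this
      rw [this]
      exact h₂.comp (LinearEquiv.baseChange R₀ S₀ _ _ t).bijective
    exact (Function.Bijective.of_comp_iff Φ h₁).1 h3
  let eτ : (L'.obj P ⟶ G'.obj (L.obj K)) ≃ (L.obj (F.obj P) ⟶ L.obj K) :=
    (adj'.homEquiv _ _).symm.trans ((asIso (τ.app P)).homFromEquiv).symm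
  have he : (Φ : _ → _) = eτ ∘ fun ψ : L'.obj P ⟶ L'.obj (G.obj K) => ψ ≫ bs adj adj' τ hτ K := by
    funext ψ
    simp [Φ, eτ, adj'.homEquiv_counit]
  rw [he] at hΦ
  exact (Function.Bijective.of_comp_iff' eτ.bijective _).1 hΦ

end Linear

end Groth.Agent.Dual6Lib.BCFormal

namespace Groth.Agent.Dual6Lib.BCFormal

section Factor

variable {A : Type u₁} [Category.{v₁} A] {B : Type u₂} [Category.{v₂} B]
  {A' : Type u₃} [Category.{v₃} A'] {B' : Type u₄} [Category.{v₄} B']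
  {A'' : Type u₅} [Category.{v₅} A''] {B'' : Type u₆} [Category.{v₆} B'']
  {F : A ⥤ B} {F' : A' ⥤ B'} {F'' : A'' ⥤ B''} {L : B ⥤ B'} {L' : A ⥤ A'} {R' : A' ⥤ A}
  {L₂ : B' ⥤ B''} {L₂' : A' ⥤ A''}

/-- A base change isomorphism of a composite factors through a localisation. -/
theorem exists_factor (adjg' : L' ⊣ R') [IsIso adjg'.counit] (τ : F ⋙ L ⟶ L' ⋙ F') (hτ : ∀ E, IsIso (τ.app E))
    (σ : F ⋙ L ⋙ L₂ ⟶ (L' ⋙ L₂') ⋙ F'') (hσ : ∀ E, IsIso (σ.app E)) :
    ∃ τ₂ : F' ⋙ L₂ ⟶ L₂' ⋙ F'', (∀ E, IsIso (τ₂.app E)) ∧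
      ∀ E, σ.app E = L₂.map (τ.app E) ≫ τ₂.app (L'.obj E) := by
  haveI := hτ
  haveI := hσ
  let ρ : ∀ E : A', L.obj (F.obj (R'.obj E)) ⟶ F'.obj E := fun E => τ.app (R'.obj E) ≫ F'.map (adjg'.counit.app E)
  haveI : ∀ E, IsIso (ρ E) := fun E => by dsimp only [ρ]; infer_instance
  have hρ : ∀ {E₁ E₂ : A'} (u : E₁ ⟶ E₂), F'.map u = inv (ρ E₁) ≫ L.map (F.map (R'.map u)) ≫ ρ E₂ := fun u => by
    rw [IsIso.eq_inv_comp]
    have h := τ.naturality (R'.map u)
    dsimp at h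
    simp only [ρ]
    rw [reassoc_of% h, Category.assoc, ← F'.map_comp, ← F'.map_comp, adjg'.counit_naturality]
  let τ₂ : F' ⋙ L₂ ⟶ L₂' ⋙ F'' :=
    { app := fun E => L₂.map (inv (ρ E)) ≫ σ.app (R'.obj E) ≫ F''.map (L₂'.map (adjg'.counit.app E))
      naturality := fun E₁ E₂ u => by
        have h := σ.naturality (R'.map u)
        dsimp at h
        dsimp
        rw [← L₂.map_comp_assoc, hρ u, Category.assoc, Category.assoc, IsIso.hom_inv_id, Category.comp_id,
          L₂.map_comp_assoc, reassoc_of% h, Category.assoc, Category.assoc, ← F''.map_comp, ← F''.map_comp,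
          ← L₂'.map_comp, ← L₂'.map_comp, adjg'.counit_naturality] }
  refine ⟨τ₂, fun E => ?_, fun E => ?_⟩
  · dsimp [τ₂]
    infer_instance
  · have h := τ.naturality (adjg'.unit.app E)
    have h2 := σ.naturality (adjg'.unit.app E)
    dsimp at h h2
    have h1 : τ.app E ≫ inv (ρ (L'.obj E)) = L.map (F.map (adjg'.unit.app E)) := by
      rw [IsIso.comp_inv_eq]
      simp only [ρ]
      rw [reassoc_of% h, ← F'.map_comp, adjg'.left_triangle_components, CategoryTheory.Functor.map_id]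
      exact (Category.comp_id _).symm
    show σ.app E = L₂.map (τ.app E) ≫ L₂.map (inv (ρ (L'.obj E))) ≫ _
    rw [← L₂.map_comp_assoc, h1, reassoc_of% h2, ← F''.map_comp, ← L₂'.map_comp,
      adjg'.left_triangle_components, CategoryTheory.Functor.map_id, CategoryTheory.Functor.map_id]
    exact (Category.comp_id _).symm

end Factor

end Groth.Agent.Dual6Lib.BCFormal
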