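import Groth.Agent.Dual6Lib.HomFlat
import Groth.Agent.Dual22Lib.ScalarD
import Groth.Agent.Dual22Lib.SumAdj
import Groth.Agent.DQCoh.PerfApprox
import Groth.Agent.DQCoh.AffinePush
import Groth.Agent.FlatBC14.Main
import Groth.Agent.S1008
import Groth.Prelude.Def_Dual3

/-!
# Base change of right adjoints of direct images along a flat map of affine schemes
-/

set_option autoImplicit false
set_option backward.isDefEq.respectTransparency false
set_option backward.defeqAttrib.useBackward true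
set_option linter.style.haveILetI false
set_option linter.unusedSectionVars false
set_option synthInstance.maxHeartbeats 100000

universe u

open CategoryTheory CategoryTheory.Limits CategoryTheory.Pretriangulated AlgebraicGeometry
open Groth.Agent.DCat Groth.Agent.Dual22Lib Groth.Agent.Dual6Lib.HomLift Groth.Agent.Dual6Lib.HomFlat

attribute [local instance] HasDerivedCategory.standard
attribute [-instance] Int.instConditionallyCompleteLinearOrder

namespace Groth.Agent.Dual6Lib.BCShriekAffine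

/-- Derived inverse image along a flat map is exact inverse image. -/
theorem nonempty_Lpull_Gd {X Y : Scheme.{u}} (g : X ⟶ Y) [Flat g] [DCoh.HasLpull g] :
    Nonempty (DCoh.Lpull g ≅ Gd g) := by
  let W := HomotopyCategory.quasiIso Y.Modules (ComplexShape.up ℤ)
  let c := (DCoh.pullKh g).totalLeftDerivedCounit DerivedCategory.Qh W
  haveI : ∀ N, IsIso (c.app N) := fun N =>
    isIso_counit_of_mem (P := fun _ : HomotopyCategory Y.Modules (ComplexShape.up ℤ) => True)
      (fun K => ⟨K, 𝟙 K, trivial, MorphismProperty.id_mem _ K⟩)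
      (fun K L s _ _ hs => FlatBC14.isIso_pullKh_of_flat g s hs) c (X := N) trivial
  haveI : IsIso c := NatIso.isIso_of_isIso_app c
  letI : Localization.Lifting DerivedCategory.Qh W (DCoh.pullKh g) (DCoh.Lpull g) := ⟨asIso c⟩
  exact ⟨Localization.liftNatIso DerivedCategory.Qh W (DCoh.pullKh g) (DCoh.pullKh g) _ _ (Iso.refl _)⟩

/-- Perfect objects detect isomorphisms in `D_QCoh`. -/
theorem isIso_of_perfect_bij {X : Scheme.{u}} [CompactSpace X] [QuasiSeparatedSpace X] {F G : DCoh.D X}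
    (hF : DCoh.IsQCohD F) (hG : DCoh.IsQCohD G) (φ : F ⟶ G)
    (key : ∀ P : DCoh.D X, DCoh.IsPerfect P → Function.Bijective fun y : P ⟶ F => y ≫ φ) : IsIso φ := by
  obtain ⟨P, hP, hgen⟩ := Groth.Agent.S1008.result X
  obtain ⟨C, g, d, hT⟩ := distinguished_cocone_triangle φ
  refine (Triangle.isZero₃_iff_isIso₁ _ hT).1 ((hgen C (DQCoh.isQCohD_obj₃ hT hF hG)).2 fun n x => ?_)
  have hd : x ≫ d = 0 := by
    let s : (P⟦n + -1⟧)⟦(1 : ℤ)⟧ ≅ P⟦n⟧ := ((shiftFunctorAdd' (DCoh.D X) (n + -1) 1 n (by omega)).app P).symm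
    obtain ⟨z, hz⟩ := ((shiftFunctor (DCoh.D X) (1 : ℤ)).map_surjective) (s.hom ≫ x ≫ d)
    have h0 : d ≫ φ⟦(1 : ℤ)⟧' = 0 := comp_distTriang_mor_zero₃₁ _ hT
    have hz0 : z = 0 := (key _ (PCTriangle.perfect_shift hP (n + -1))).1 (show z ≫ φ = (0 : _ ⟶ F) ≫ φ by
      rw [zero_comp]
      apply (shiftFunctor (DCoh.D X) (1 : ℤ)).map_injective
      rw [Functor.map_comp, hz, Functor.map_zero, Category.assoc, Category.assoc, h0, comp_zero, comp_zero])
    rw [hz0, Functor.map_zero] at hz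
    exact (cancel_epi s.hom).1 (by rw [← hz, comp_zero])
  obtain ⟨w, hw⟩ := Triangle.coyoneda_exact₃ _ hT x hd
  obtain ⟨v, rfl⟩ := (key _ (PCTriangle.perfect_shift hP n)).2 w
  rw [hw]
  show (v ≫ φ) ≫ g = 0
  exact (Category.assoc _ _ _).trans (by rw [show φ ≫ g = 0 from comp_distTriang_mor_zero₁₂ _ hT, comp_zero])

/-- Direct image is linear. -/
theorem linear_Rpush {A : Type u} [CommRing A] {X T : Scheme.{u}} [X.Over (Spec (CommRingCat.of A))]
    [T.Over (Spec (CommRingCat.of A))] (f : X ⟶ T) [f.IsOver (Spec (CommRingCat.of A))] [DCoh.HasRpush f]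
    [(DCoh.Rpush f).Additive] : (DCoh.Rpush f).Linear A :=
  (Functor.linear_iff A _).2 fun K a => ScalarD.Rpush_map_smul_id f K a

section DQ

variable {A B : Type u} [CommRing A] [CommRing B] [Algebra A B] {X' : Scheme.{u}}
  [X'.Over (Spec (CommRingCat.of A))] [X'.Over (Spec (CommRingCat.of B))] [Compat A B X']

instance isScalarTower_DQ (M N : DCoh.DQCoh X') : IsScalarTower A B (M ⟶ N) :=
  IsScalarTower.of_algebraMap_smul fun a f => InducedCategory.hom_ext (algebraMap_smul B a f.hom)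

variable {X : Scheme.{u}} [X.Over (Spec (CommRingCat.of A))] (g : X' ⟶ X) [Flat g] [DCoh.HasLpull g]
  [g.IsOver (Spec (CommRingCat.of A))] (hLg : Dual3.LpullPreservesQCoh g)

theorem linear_LpullQ [(Dual3.LpullQ g hLg).Additive] : (Dual3.LpullQ g hLg).Linear A where
  map_smul {P Q} f a := by
    obtain ⟨α⟩ := nonempty_Lpull_Gd g
    haveI : (DCoh.Lpull g).Additive := Functor.additive_of_iso α.symm
    haveI := Functor.linear_of_iso A α.symm
    exact InducedCategory.hom_ext ((DCoh.Lpull g).map_smul a f.hom)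

theorem additive_LpullQ : (Dual3.LpullQ g hLg).Additive where
  map_add {P Q f f'} := by
    obtain ⟨α⟩ := nonempty_Lpull_Gd g
    haveI : (DCoh.Lpull g).Additive := Functor.additive_of_iso α.symm
    exact InducedCategory.hom_ext ((DCoh.Lpull g).map_add)

theorem bij_LpullQ [(Dual3.LpullQ g hLg).Additive] [(Dual3.LpullQ g hLg).Linear A] {P Q : DCoh.DQCoh X}
    (h : Bij A B (Gd g) P.obj Q.obj) : Bij A B (Dual3.LpullQ g hLg) P Q := by
  obtain ⟨α⟩ := nonempty_Lpull_Gd g
  let ι := ObjectProperty.fullyFaithfulι (DCoh.IsQCohD (X := X))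
  let u : (P ⟶ Q) ≃ₗ[A] (P.obj ⟶ Q.obj) :=
    LinearEquiv.ofBijective
      { toFun := fun f => f.hom
        map_add' := fun _ _ => rfl
        map_smul' := fun _ _ => rfl }
      ⟨fun f f' e => InducedCategory.hom_ext e, fun f => ⟨ι.preimage f, ι.map_preimage f⟩⟩
  let v : ((Dual3.LpullQ g hLg).obj P ⟶ (Dual3.LpullQ g hLg).obj Q) → ((Gd g).obj P.obj ⟶ (Gd g).obj Q.obj) :=
    fun z => α.inv.app P.obj ≫ z.hom ≫ α.hom.app Q.obj
  have hv : Function.Bijective v :=
    (bijective_conj (α.inv.app P.obj) (α.hom.app Q.obj)).comp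
      ⟨fun f f' e => InducedCategory.hom_ext e, fun f => ⟨InducedCategory.homMk f, rfl⟩⟩
  have key : v ∘ BCFormal.lift A B (Dual3.LpullQ g hLg) P Q =
      BCFormal.lift A B (Gd g) P.obj Q.obj ∘ LinearEquiv.lTensor B u := by
    funext z
    induction z using TensorProduct.induction_on with
    | zero => simp [v]
    | add a b ha hb =>
      simp only [Function.comp_apply, map_add] at ha hb ⊢
      rw [← ha, ← hb]
      refine Eq.trans ?_ (Preadditive.comp_add _ _ _ _ _ _)
      exact congrArg (α.inv.app P.obj ≫ ·) (Preadditive.add_comp _ _ _ _ _ _)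
    | tmul b x =>
      simp only [Function.comp_apply, LinearEquiv.lTensor_tmul, lift_tmul, v]
      show α.inv.app P.obj ≫ (b • (DCoh.Lpull g).map x.hom) ≫ α.hom.app Q.obj = b • (Gd g).map x.hom
      rw [Linear.smul_comp, Linear.comp_smul]
      congr 1
      exact (α.inv.app P.obj ≫= α.hom.naturality x.hom).trans (α.inv_hom_id_app_assoc _ _)
  exact (Function.Bijective.of_comp_iff' hv _).1 (key ▸ h.comp (LinearEquiv.lTensor B u).bijective)

end DQ

variable {X Y X' Y' : Scheme.{u}} (f : X ⟶ Y) (g : Y' ⟶ Y) (f' : X' ⟶ Y') (g' : X' ⟶ X)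
  [DCoh.HasRpush f] [DCoh.HasRpush f'] [DCoh.HasRpush g'] [DCoh.HasLpull g] [DCoh.HasLpull g']
  {hf : DCoh.RpushPreservesQCoh f} {hf' : DCoh.RpushPreservesQCoh f'} {hg' : DCoh.RpushPreservesQCoh g'}
  {hLg : Dual3.LpullPreservesQCoh g} {hLg' : Dual3.LpullPreservesQCoh g'}
  {a : DCoh.DQCoh Y ⥤ DCoh.DQCoh X} {a' : DCoh.DQCoh Y' ⥤ DCoh.DQCoh X'}

/-- The hypothesis under which maps from direct images of perfect objects into `K` commute with flat base change. -/
def Testable (K : DCoh.D Y) : Prop :=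
  SumAdj.PP f ∨ ((∃ c : ℤ, K.IsGE c) ∧
    ∀ P : DCoh.D X, DCoh.IsPerfect P → ∀ m : ℤ, DCoh.IsPseudoCoherentD m ((DCoh.Rpush f).obj P))

/-- Base change of the right adjoint over affine bases. -/
theorem isIso_bs (hsq : IsPullback g' f' f g) [IsAffine Y] [IsAffine Y'] [Flat g]
    [CompactSpace X] [QuasiSeparatedSpace X]
    (adj : DCoh.RpushQ f hf ⊣ a) (adj' : DCoh.RpushQ f' hf' ⊣ a')
    (adjg' : Dual3.LpullQ g' hLg' ⊣ DCoh.RpushQ g' hg')
    (τ : DCoh.RpushQ f hf ⋙ Dual3.LpullQ g hLg ⟶ Dual3.LpullQ g' hLg' ⋙ DCoh.RpushQ f' hf')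
    (hτ : ∀ E, IsIso (τ.app E)) (K : DCoh.DQCoh Y) (hK : Testable f K.obj) :
    IsIso (BCFormal.bs adj adj' τ hτ K) := by
  haveI : Flat g' := MorphismProperty.of_isPullback hsq.flip inferInstance
  haveI : IsAffineHom g' := MorphismProperty.of_isPullback (P := @IsAffineHom) hsq.flip inferInstance
  let A : Type u := Γ(Y, ⊤)
  let B : Type u := Γ(Y', ⊤)
  letI : Algebra A B := g.appTop.hom.toAlgebra
  haveI : Module.Flat A B := by
    have h := Flat.flat_appLE g (isAffineOpen_top Y) (isAffineOpen_top Y') (le_refl _)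
    rw [show g.appLE ⊤ ⊤ (le_refl _) = g.appTop from g.app_eq_appLE.symm] at h
    exact h
  letI : Y.Over (Spec (CommRingCat.of A)) := ⟨Y.isoSpec.hom⟩
  letI : Y'.Over (Spec (CommRingCat.of B)) := ⟨Y'.isoSpec.hom⟩
  letI : Y'.Over (Spec (CommRingCat.of A)) := ⟨g ≫ Y.isoSpec.hom⟩
  letI : X.Over (Spec (CommRingCat.of A)) := ⟨f ≫ Y.isoSpec.hom⟩
  letI : X'.Over (Spec (CommRingCat.of A)) := ⟨g' ≫ f ≫ Y.isoSpec.hom⟩
  letI : X'.Over (Spec (CommRingCat.of B)) := ⟨f' ≫ Y'.isoSpec.hom⟩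
  haveI : f.IsOver (Spec (CommRingCat.of A)) := ⟨rfl⟩
  haveI : g.IsOver (Spec (CommRingCat.of A)) := ⟨rfl⟩
  haveI : g'.IsOver (Spec (CommRingCat.of A)) := ⟨rfl⟩
  haveI : f'.IsOver (Spec (CommRingCat.of B)) := ⟨rfl⟩
  haveI : IsIso (Y' ↘ Spec (CommRingCat.of B)) := inferInstanceAs (IsIso Y'.isoSpec.hom)
  haveI : IsIso (Y ↘ Spec (CommRingCat.of A)) := inferInstanceAs (IsIso Y.isoSpec.hom)
  have hY : IsPullback g (Y' ↘ Spec (CommRingCat.of B)) (Y ↘ Spec (CommRingCat.of A))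
      (Spec.map (CommRingCat.ofHom (algebraMap A B))) :=
    IsPullback.of_vert_isIso ⟨(Scheme.isoSpec_hom_naturality g).symm⟩
  have hX : IsPullback g' (X' ↘ Spec (CommRingCat.of B)) (X ↘ Spec (CommRingCat.of A))
      (Spec.map (CommRingCat.ofHom (algebraMap A B))) := hsq.paste_vert hY
  haveI : Compat A B Y' := ⟨fun r => (Coherent.appTop_toGlobal g hY r).symm⟩
  haveI : Compat A B X' := ⟨fun r => (Coherent.appTop_toGlobal g' hX r).symm⟩
  obtain ⟨_, _⟩ := exists_commShift_Rpush f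
  obtain ⟨_, _⟩ := exists_commShift_Rpush f'
  haveI := linear_Rpush (A := A) f
  haveI := linear_Rpush (A := B) f'
  haveI : (DCoh.RpushQ f hf).Additive := ⟨fun {_ _ _ _} => InducedCategory.hom_ext ((DCoh.Rpush f).map_add)⟩
  haveI : (DCoh.RpushQ f' hf').Additive := ⟨fun {_ _ _ _} => InducedCategory.hom_ext ((DCoh.Rpush f').map_add)⟩
  haveI : (DCoh.RpushQ f hf).Linear A := ⟨fun {_ _} x r => InducedCategory.hom_ext ((DCoh.Rpush f).map_smul r x.hom)⟩
  haveI : (DCoh.RpushQ f' hf').Linear B :=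
    ⟨fun {_ _} x r => InducedCategory.hom_ext ((DCoh.Rpush f').map_smul r x.hom)⟩
  haveI := additive_LpullQ g hLg
  haveI := additive_LpullQ g' hLg'
  haveI := linear_LpullQ (A := A) g hLg
  haveI := linear_LpullQ (A := A) g' hLg'
  suffices IsIso ((ObjectProperty.ι _).map (BCFormal.bs adj adj' τ hτ K)) from
    (ObjectProperty.fullyFaithfulι _).isIso_of_isIso_map _
  refine DQCoh.isIso_of_isIso_Rpush g' ((Dual3.LpullQ g' hLg').obj _).property (a'.obj _).property _ ?_
  refine isIso_of_perfect_bij (hg' _ ((Dual3.LpullQ g' hLg').obj _).property) (hg' _ (a'.obj _).property) _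
    fun P hP => ?_
  let P₀ : DCoh.DQCoh X := ⟨P, PerfLift.isQCohD_perfect hP⟩
  have h₁ : Bij A B (Dual3.LpullQ g' hLg') P₀ (a.obj K) :=
    bij_LpullQ g' hLg' (bij_perfect g' hX hP (a.obj K).property)
  have h₂ : Bij A B (Dual3.LpullQ g hLg) ((DCoh.RpushQ f hf).obj P₀) K := by
    refine bij_LpullQ g hLg ?_
    rcases hK with hpp | ⟨⟨c, hc⟩, hpsc⟩
    · exact bij_perfect g hY (hpp P hP) K.property
    haveI := hc
    let Qo : DCoh.D Y := (DCoh.Rpush f).obj P
    have hq : DCoh.IsQCohD Qo := hf P P₀.property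
    obtain ⟨r, hr⟩ := DQCoh.PerfApprox.full_of_top (DQCoh.PerfApprox.top (X := Y)) (⊥ : Y.Opens) (by simp)
    obtain ⟨P', β, hP', -, hβ⟩ := hr (c - 1) Qo hq (hpsc P hP _) fun i _ x hx => False.elim hx
    obtain ⟨C, v, w, hT⟩ := distinguished_cocone_triangle β
    haveI : (Triangle.mk β v w).obj₃.IsLE (c - 2) := by
      rw [show c - 2 = c - 1 - 1 by omega]
      exact (PullPerf.apx_iff_isLE _ _ hT).1 hβ
    exact bij_approx g hY (t := Triangle.mk β v w) hT hP' (c - 2) c K.property (by omega)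
  have hb := BCFormal.bijective_comp_bs (R₀ := A) (S₀ := B) adj adj' τ hτ P₀ K h₁ h₂
  let φ := BCFormal.bs adj adj' τ hτ K
  let T : ∀ E : DCoh.DQCoh X', ((Dual3.LpullQ g' hLg').obj P₀ ⟶ E) ≃ (P ⟶ (DCoh.Rpush g').obj E.obj) := fun E =>
    (adjg'.homEquiv P₀ E).trans
      { toFun := fun x => x.hom
        invFun := fun x => InducedCategory.homMk x
        left_inv := fun _ => rfl
        right_inv := fun _ => rfl }
  have e : (fun y : P ⟶ (DCoh.Rpush g').obj _ => y ≫ (DCoh.Rpush g').map φ.hom) ∘ T _ =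
      T _ ∘ fun ψ : (Dual3.LpullQ g' hLg').obj P₀ ⟶ (Dual3.LpullQ g' hLg').obj (a.obj K) => ψ ≫ φ := by
    funext ψ
    simp only [Function.comp_apply, T, Equiv.trans_apply, adjg'.homEquiv_naturality_right]
    rfl
  exact (Function.Bijective.of_comp_iff _ (T _).bijective).1 (e ▸ (T _).bijective.comp hb)

end Groth.Agent.Dual6Lib.BCShriekAffine
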