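import Groth.Agent.Dual6Lib.BCShriekAffine
import Groth.Agent.Dual22Lib.XiIso
import Groth.Agent.Dual22Lib.SupportAdj
import Groth.Agent.Dual22Lib.PushPerf
import Groth.Agent.DQCoh.PscNoeth

/-!
# Base change squares: the map `bcMap` and the map `bs`
-/

set_option autoImplicit false
set_option backward.isDefEq.respectTransparency false
set_option backward.defeqAttrib.useBackward true
set_option linter.style.haveILetI false
set_option linter.unusedSectionVars false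
set_option synthInstance.maxHeartbeats 100000

universe u

open CategoryTheory CategoryTheory.Limits AlgebraicGeometry
open Groth.Agent.DCat Groth.Agent.Dual22Lib

attribute [local instance] HasDerivedCategory.standard

namespace Groth.Agent.Dual6Lib.BCShriekSquare

theorem eq_ofNatIsoLeft {C D : Type*} [Category C] [Category D] {F F' : C ⥤ D} {G : D ⥤ C}
    (adj : F ⊣ G) (adj' : F' ⊣ G) : adj' = adj.ofNatIsoLeft (adj.leftAdjointUniq adj') := by
  refine Adjunction.ext ?_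
  ext x
  exact (Adjunction.unit_leftAdjointUniq_hom_app adj adj' x).symm

variable {X Y X' Y' : Scheme.{u}} {f : X ⟶ Y} {g : Y' ⟶ Y} {f' : X' ⟶ Y'} {g' : X' ⟶ X}
  [DCoh.HasRpush f] [DCoh.HasRpush f'] [DCoh.HasRpush g] [DCoh.HasRpush g']
  [DCoh.HasLpull g] [DCoh.HasLpull g']
  {hf : DCoh.RpushPreservesQCoh f} {hf' : DCoh.RpushPreservesQCoh f'}
  {hg : DCoh.RpushPreservesQCoh g} {hg' : DCoh.RpushPreservesQCoh g'}
  {hLg : Dual3.LpullPreservesQCoh g} {hLg' : Dual3.LpullPreservesQCoh g'}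

/-- Flat base change for direct images on `D_QCoh`, with given adjunctions. -/
theorem exists_bc (hsq : IsPullback g' f' f g) [QuasiCompact f] [QuasiSeparated f] [Flat g]
    (adjg : Dual3.LpullQ g hLg ⊣ DCoh.RpushQ g hg) (adjg' : Dual3.LpullQ g' hLg' ⊣ DCoh.RpushQ g' hg') :
    ∃ e : DCoh.RpushQ g' hg' ⋙ DCoh.RpushQ f hf ≅ DCoh.RpushQ f' hf' ⋙ DCoh.RpushQ g hg,
      ∀ E, IsIso ((BCAlg.bc adjg adjg' e).app E) := by
  obtain ⟨a, a', e, he⟩ := XiIso.exists_bcQ (hf := hf) (hf' := hf') (hg := hg) (hg' := hg') hLg hLg' hsq.w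
    (BCMain.good_of_flat f g hsq (Or.inr inferInstance))
  refine ⟨e, fun E => ?_⟩
  haveI := he E
  rw [eq_ofNatIsoLeft a adjg, eq_ofNatIsoLeft a' adjg', BCAlg.bc_ofNatIsoLeft]
  infer_instance

variable {a : DCoh.DQCoh Y ⥤ DCoh.DQCoh X} {a' : DCoh.DQCoh Y' ⥤ DCoh.DQCoh X'}

/-- `bcMap` is `bs`. -/
theorem bcMap_eq_bs (adj : DCoh.RpushQ f hf ⊣ a) (adj' : DCoh.RpushQ f' hf' ⊣ a')
    (adjg : Dual3.LpullQ g hLg ⊣ DCoh.RpushQ g hg) (adjg' : Dual3.LpullQ g' hLg' ⊣ DCoh.RpushQ g' hg')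
    (e : DCoh.RpushQ g' hg' ⋙ DCoh.RpushQ f hf ≅ DCoh.RpushQ f' hf' ⋙ DCoh.RpushQ g hg)
    (h : ∀ E, IsIso ((BCAlg.bc adjg adjg' e).app E)) (K : DCoh.DQCoh Y)
    (hξ : IsIso (Dual3.xi adj adj' e ((Dual3.LpullQ g hLg).obj K))) :
    Dual3.bcMap adj adj' e adjg adjg' K hξ = BCFormal.bs adj adj' (BCAlg.bc adjg adjg' e) h K := by
  haveI : IsIso (BCFormal.xiA adj adj' e ((Dual3.LpullQ g hLg).obj K)) := hξ
  exact BCFormal.eq_bs_of_xi adj adj' adjg adjg' e K h

omit [DCoh.HasRpush f'] [DCoh.HasRpush g] [DCoh.HasRpush g'] [DCoh.HasLpull g] [DCoh.HasLpull g'] in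
/-- Direct images of perfect objects along proper maps of Noetherian schemes are pseudo-coherent. -/
theorem psc_Rpush_perfect [IsNoetherian Y] [IsProper f] (P : DCoh.D X) (hP : DCoh.IsPerfect P) (m : ℤ) :
    DCoh.IsPseudoCoherentD m ((DCoh.Rpush f).obj P) := by
  haveI : IsLocallyNoetherian X := LocallyOfFiniteType.isLocallyNoetherian f
  haveI : CompactSpace X := QuasiCompact.compactSpace_of_compactSpace f
  haveI : QuasiSeparatedSpace X := quasiSeparatedSpace_of_quasiSeparated f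
  have hq : DCoh.IsQCohD P := PerfLift.isQCohD_perfect hP
  obtain ⟨a, ha⟩ := PushPerf.exists_isGE_perfect hP
  obtain ⟨b, hb⟩ := DQCoh.exists_isLE_perfect P hP
  have hcoh : DCoh.IsCohD P := fun i => DQCoh.isCoh_HD_of_psc P hq i (DQCoh.psc_of_perfect hP i) i le_rfl
  obtain ⟨N, hN⟩ := SupportAdj.exists_isLE_Rpush f
  haveI := hN P b hq hb
  haveI := ha
  have h := SupportAdj.isCohD_Rpush f P a hcoh
  exact DQCoh.psc_of_isCoh _ (fun i => (h i).1) (b + N) m fun i _ => h i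

end Groth.Agent.Dual6Lib.BCShriekSquare
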