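import Groth.Agent.S1811
import Groth.Agent.DualLib.Degree
import Groth.Agent.DualLib.OmegaStalk
import Groth.Agent.DQCoh.PerfectAffine
import Groth.Agent.DQCoh.RHomTilde
import Groth.Agent.Dual22Lib.AdjExists

/-!
# Independence of the dualizing complex of the base field
-/

set_option autoImplicit false
set_option backward.isDefEq.respectTransparency false
set_option backward.defeqAttrib.useBackward true
set_option linter.style.haveILetI false
set_option synthInstance.maxHeartbeats 100000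

universe u

open CategoryTheory CategoryTheory.Limits AlgebraicGeometry
open Groth.Agent Groth.Agent.DCat Groth.Agent.Dual22Lib

attribute [local instance] HasDerivedCategory.standard
attribute [-instance] Int.instConditionallyCompleteLinearOrder

namespace Groth.Agent.Dual6Lib.BaseField

/-- A nonempty scheme of finite type over `k` with a morphism to `Spec k'` forces `k'` to be finite over `k`. -/
theorem finite_of_nonempty {k k' : Type u} [Field k] [Field k'] (φ : k →+* k') {X : Scheme.{u}} [Nonempty X]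
    (f : X ⟶ Spec (CommRingCat.of k)) [LocallyOfFiniteType f] (f' : X ⟶ Spec (CommRingCat.of k'))
    (h : f' ≫ Spec.map (CommRingCat.ofHom φ) = f) : φ.Finite := by
  obtain ⟨x⟩ := ‹Nonempty X›
  obtain ⟨U, hU, hx, -⟩ := exists_isAffineOpen_mem_and_subset (U := (⊤ : X.Opens)) (x := x) trivial
  haveI : Nonempty U := ⟨⟨x, hx⟩⟩
  haveI : Nontrivial Γ(X, U) := Scheme.component_nontrivial X U
  let ψ := Spec.preimage (hU.fromSpec ≫ f')
  have hm : Spec.map (CommRingCat.ofHom φ ≫ ψ) = hU.fromSpec ≫ f := by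
    rw [Spec.map_comp, Spec.map_preimage, Category.assoc, h]
  haveI : LocallyOfFiniteType (Spec.map (CommRingCat.ofHom φ ≫ ψ)) := by
    rw [hm]; infer_instance
  have hft : (CommRingCat.ofHom φ ≫ ψ).hom.FiniteType :=
    (HasRingHomProperty.Spec_iff (P := @LocallyOfFiniteType)).1 inferInstance
  obtain ⟨m, hm'⟩ := Ideal.exists_maximal Γ(X, U)
  haveI := hm'
  letI : Field (Γ(X, U) ⧸ m) := Ideal.Quotient.field m
  letI : Algebra k k' := φ.toAlgebra
  letI : Algebra k' (Γ(X, U) ⧸ m) := ((Ideal.Quotient.mk m).comp ψ.hom).toAlgebra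
  letI : Algebra k (Γ(X, U) ⧸ m) := ((Ideal.Quotient.mk m).comp (CommRingCat.ofHom φ ≫ ψ).hom).toAlgebra
  haveI : IsScalarTower k k' (Γ(X, U) ⧸ m) := IsScalarTower.of_algebraMap_eq' rfl
  haveI : Algebra.FiniteType k (Γ(X, U) ⧸ m) :=
    (RingHom.FiniteType.of_surjective (Ideal.Quotient.mk m) Ideal.Quotient.mk_surjective).comp hft
  haveI : Module.Finite k (Γ(X, U) ⧸ m) := finite_of_finite_type_of_isJacobsonRing k _
  haveI : Module.Finite k k' := Module.Finite.of_injective
    (IsScalarTower.toAlgHom k k' (Γ(X, U) ⧸ m)).toLinearMap (RingHom.injective _)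
  exact this

/-- A dualizing complex over a field concentrated in degree zero is the field itself. -/
theorem nonempty_iso_inD {k : Type u} [Field k] {ω : Dual.D k} (hω : Dual.IsDualizing k ω)
    (h : ∀ i : ℤ, i ≠ 0 → IsZero ((DerivedCategory.homologyFunctor (ModuleCat.{u} k) i).obj ω)) : Nonempty (ω ≅ Dual.inD k k) := by
  obtain ⟨n, h1, ⟨h2⟩⟩ := DualLib.exists_degree_maximal (⊥ : Ideal k) hω
  haveI : Nontrivial (k ⧸ (⊥ : Ideal k)) := Ideal.Quotient.nontrivial_iff.2 bot_ne_top
  let q : (k ⧸ (⊥ : Ideal k)) ≃ₗ[k] k := Submodule.quotEquivOfEqBot _ rfl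
  let e : Dual.HD k ω n ≃ₗ[k] k :=
    (DualLib.eSelf (W := ω) n).symm.trans ((DualLib.econgr ω q n).trans (h2.trans q))
  have hn : n = 0 := by
    by_contra hne
    haveI := ModuleCat.subsingleton_of_isZero (h n hne)
    exact not_subsingleton k e.symm.toEquiv.subsingleton
  subst hn
  haveI : ω.IsGE 0 := (DerivedCategory.isGE_iff _ _).2 fun i hi => h i (by omega)
  haveI : ω.IsLE 0 := (DerivedCategory.isLE_iff _ _).2 fun i hi => h i (by omega)
  obtain ⟨N, ⟨eN⟩⟩ := DerivedCategory.exists_iso_singleFunctor_obj_of_isGE_of_isLE ω 0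
  let eN' : N ≅ ModuleCat.of k k := ((DerivedCategory.singleFunctorCompHomologyFunctorIso (ModuleCat.{u} k) 0).app N).symm ≪≫
    (DerivedCategory.homologyFunctor (ModuleCat.{u} k) 0).mapIso eN.symm ≪≫ e.toModuleIso
  exact ⟨eN ≪≫ (DerivedCategory.singleFunctor (ModuleCat.{u} k) 0).mapIso eN'⟩

/-- Cancel restriction along an isomorphism. -/
theorem nonempty_iso_of_restrict {X Y : Scheme.{u}} (e : X ⟶ Y) [IsIso e] {A B : DCoh.D Y}
    (h : Nonempty ((DCoh.restrictD e).obj A ≅ (DCoh.restrictD e).obj B)) : Nonempty (A ≅ B) := by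
  haveI := DCat.hasRpush e
  obtain ⟨adj, -⟩ := AdjGeom.exists_adj e
  haveI := RepLib.isIso_unit e (Scheme.Hom.opensRange_of_isIso e) adj A
  haveI := RepLib.isIso_unit e (Scheme.Hom.opensRange_of_isIso e) adj B
  obtain ⟨i⟩ := h
  exact ⟨asIso (adj.unit.app A) ≪≫ (DCoh.Rpush e).mapIso i ≪≫ (asIso (adj.unit.app B)).symm⟩

/-- `g^! k = k'` for a finite extension `k'` of `k`. -/
theorem repObj_structure {k k' : Type u} [Field k] [Field k'] (φ : k →+* k') (hφ : φ.Finite)
    (Q : DCoh.DQCoh (Spec (CommRingCat.of k)))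
    (hQ : Nonempty (Q.obj ≅ DCoh.inD (Spec (CommRingCat.of k)) (Coh.structureModule (Spec (CommRingCat.of k)))))
    (Q' : DCoh.D (Spec (CommRingCat.of k')))
    (hQ' : Nonempty (Q' ≅ DCoh.inD (Spec (CommRingCat.of k')) (Coh.structureModule (Spec (CommRingCat.of k'))))) :
    RepLib.RepObj (Spec.map (CommRingCat.ofHom φ)) Q.obj Q' := by
  haveI : ∀ (U V : Scheme.{u}) (j : U ⟶ V) [IsOpenImmersion j],
      PreservesFiniteLimits (Scheme.Modules.restrictFunctor j) := fun U V j _ =>
    DCat.PullPerf.preservesFiniteLimits_restrict j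
  haveI : ∀ (R : CommRingCat.{u}), PreservesFiniteLimits (tilde.functor R) := fun R =>
    AffSchLib.preservesFiniteLimits_tilde R
  let g := Spec.map (CommRingCat.ofHom φ)
  haveI : IsFinite g := (IsFinite.SpecMap_iff _).2 hφ
  letI : (Spec (CommRingCat.of k')).Over (Spec (CommRingCat.of k)) := ⟨g⟩
  haveI : IsProper (Spec (CommRingCat.of k') ↘ Spec (CommRingCat.of k)) := inferInstanceAs (IsProper g)
  haveI := DCat.hasRpush g
  haveI : QuasiSeparatedSpace (Spec (CommRingCat.of k)) := inferInstance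
  have hg : ∀ K : DCoh.D (Spec (CommRingCat.of k')), DCoh.IsQCohD K → DCoh.IsQCohD ((DCoh.Rpush g).obj K) :=
    fun K hK => DQCoh.isQCohD_Rpush g K hK
  haveI := AdjGeom.isLeftAdjoint_RpushQ g hg
  have hd : topologicalKrullDim (Spec (CommRingCat.of k')) = (0 : ℕ) :=
    (PrimeSpectrum.topologicalKrullDim_eq_ringKrullDim k').trans (ringKrullDim_eq_zero_of_field k')
  obtain ⟨hD, hz, -⟩ := Groth.Agent.S1811.result k (Spec (CommRingCat.of k')) 0 hd g rfl hg _
    (Adjunction.ofIsLeftAdjoint _) Q hQ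
  let B := (Functor.rightAdjoint (ObjectProperty.lift DCoh.IsQCohD (ObjectProperty.ι DCoh.IsQCohD ⋙ DCoh.Rpush g)
    (fun K => hg K.obj K.property))).obj Q
  have hB : RepLib.RepObj g Q.obj B.obj := ⟨fun {_} =>
    ⟨B.property, ((Adjunction.ofIsLeftAdjoint (ObjectProperty.lift DCoh.IsQCohD
      (ObjectProperty.ι DCoh.IsQCohD ⋙ DCoh.Rpush g) (fun K => hg K.obj K.property))).counit.app Q).hom,
      fun L hL => SupportAdj.rep_counit g hg _ _ Q L hL⟩⟩
  obtain ⟨ω, hω, ⟨eω⟩⟩ := hD k' (𝟙 (Spec (CommRingCat.of k')))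
  haveI : (tilde.functor (CommRingCat.of k')).Additive :=
    DQCoh.RHomTilde.additive_tilde_functor (R := CommRingCat.of k')
  haveI : PreservesFiniteColimits (tilde.functor (CommRingCat.of k')) :=
    haveI := (tilde.adjunction (R := CommRingCat.of k')).leftAdjoint_preservesColimits
    inferInstance
  have hω0 : ∀ i : ℤ, i ≠ 0 → IsZero ((DerivedCategory.homologyFunctor (ModuleCat.{u} k') i).obj ω) := fun i hi => by
    obtain ⟨η⟩ := DQCoh.nonempty_homology_natIso (tilde.functor (CommRingCat.of k')) i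
    exact DQCoh.isZero_of_isZero_tilde (A := CommRingCat.of k')
      (((Scheme.Modules.restrictFunctor (𝟙 (Spec (CommRingCat.of k')))).map_isZero (hz i (by omega))).of_iso
        ((SuppOpen.hdMapIso _ _ i).symm ≪≫ (DerivedCategory.homologyFunctor _ i).mapIso eω ≪≫ η.app ω).symm)
  obtain ⟨ek⟩ := nonempty_iso_inD hω hω0
  obtain ⟨eR⟩ := DualLib.ShriekLocal.nonempty_structure_tilde k'
  obtain ⟨eQ'⟩ := hQ'
  exact hB.ofIso (nonempty_iso_of_restrict (𝟙 _) ⟨eω ≪≫ (DCoh.tildeD (CommRingCat.of k')).mapIso ek ≪≫ eR ≪≫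
    (Dual22Lib.restrictZeroIso (𝟙 _)).symm ≪≫ (DCoh.restrictD (𝟙 _)).mapIso eQ'.symm⟩).some

/-- The dualizing complex of a proper `k`-scheme does not depend on the base field. -/
theorem nonempty_iso {k k' : Type u} [Field k] [Field k'] (φ : k →+* k') {X : Scheme.{u}}
    (f : X ⟶ Spec (CommRingCat.of k)) [IsProper f] (f' : X ⟶ Spec (CommRingCat.of k'))
    (hff' : f' ≫ Spec.map (CommRingCat.ofHom φ) = f) [DCoh.HasRpush f] (hf : DCoh.RpushPreservesQCoh f)
    (a : DCoh.DQCoh (Spec (CommRingCat.of k)) ⥤ DCoh.DQCoh X) (adj : DCoh.RpushQ f hf ⊣ a) [DCoh.HasRpush f']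
    (hf' : DCoh.RpushPreservesQCoh f') (a' : DCoh.DQCoh (Spec (CommRingCat.of k')) ⥤ DCoh.DQCoh X)
    (adj' : DCoh.RpushQ f' hf' ⊣ a') (O : DCoh.DQCoh (Spec (CommRingCat.of k)))
    (hO : Nonempty (O.obj ≅ DCoh.inD (Spec (CommRingCat.of k)) (Coh.structureModule (Spec (CommRingCat.of k)))))
    (O' : DCoh.DQCoh (Spec (CommRingCat.of k')))
    (hO' : Nonempty (O'.obj ≅ DCoh.inD (Spec (CommRingCat.of k')) (Coh.structureModule (Spec (CommRingCat.of k'))))) :
    Nonempty ((a.obj O).obj ≅ (a'.obj O').obj) := by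
  rcases isEmpty_or_nonempty X with hX | hX
  · have hz : ∀ K : DCoh.D X, IsZero K := fun K => SuppOpen.isZero_of_hd _ fun i =>
      ModStalk.isZero_of_stalks fun x => isEmptyElim x
    exact ⟨(hz _).iso (hz _)⟩
  have hfin := finite_of_nonempty φ f f' hff'
  haveI : IsSeparated f' := by
    haveI : IsSeparated (f' ≫ Spec.map (CommRingCat.ofHom φ)) := hff' ▸ inferInstance
    exact IsSeparated.of_comp f' (Spec.map (CommRingCat.ofHom φ))
  haveI : QuasiCompact f' := by
    haveI : CompactSpace X := QuasiCompact.compactSpace_of_compactSpace f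
    infer_instance
  have hA : RepLib.RepObj f O.obj (a.obj O).obj := ⟨fun {_} =>
    ⟨(a.obj O).property, (adj.counit.app O).hom, fun L hL => SupportAdj.rep_counit f hf a adj O L hL⟩⟩
  have hA' : RepLib.RepObj f' O'.obj (a'.obj O').obj := ⟨fun {_} =>
    ⟨(a'.obj O').property, (adj'.counit.app O').hom, fun L hL => SupportAdj.rep_counit f' hf' a' adj' O' L hL⟩⟩
  exact hA.unique (((repObj_structure φ hfin O hO _ hO').comp _ hA').congr hff')

end Groth.Agent.Dual6Lib.BaseField
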