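import Groth.Agent.DualLib.DeligneHom
import Groth.Agent.DQCoh.ResProp17
import Groth.Agent.H8Lim.ModEq

/-! Artin-Rees for the cohomology of a complex of coherent sheaves: `(H^p(I^n F))` and `(I^n H^p(F))` are pro-isomorphic. -/

set_option autoImplicit false
set_option backward.isDefEq.respectTransparency false
set_option linter.style.haveILetI false

universe u

open CategoryTheory CategoryTheory.Limits AlgebraicGeometry TopologicalSpace
open Groth.Agent.Coherent Groth.Agent.SubAvoid14

namespace Groth.Agent.Dual6Lib.DeligneHomology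

variable {X : Scheme.{u}} [AlgebraicGeometry.IsNoetherian X] (I : X.IdealSheafData)

omit [AlgebraicGeometry.IsNoetherian X] in
theorem comp_app {A B C : X.Modules} (f : A ⟶ B) (g : B ⟶ C) (U : X.Opens) (a : Γ(A, U)) :
    (f ≫ g).app U a = g.app U (f.app U a) := rfl

theorem mem_iff_pow (n : ℕ) (G : X.Modules) [Coh.IsQCoh G] {U : X.Opens} (hU : IsAffineOpen U) (m : Γ(G, U)) :
    m ∈ Set.range ((Dual3.idealMulι (I ^ n) G).app U) ↔ m ∈ I.ideal ⟨U, hU⟩ ^ n • (⊤ : Submodule Γ(X, U) Γ(G, U)) := by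
  refine (mem_range_idealMulι_iff (I ^ n) G hU m).trans (iff_of_eq ?_)
  rw [Scheme.IdealSheafData.ideal_pow, Pi.pow_apply]

omit [AlgebraicGeometry.IsNoetherian X] in
theorem epi_of_app_surjective {A B : X.Modules} [Coh.IsQCoh B] (g : A ⟶ B)
    (h : ∀ U : X.Opens, IsAffineOpen U → Function.Surjective (g.app U)) : Epi g := by
  obtain ⟨c, hc⟩ := exists_le_of_range_le (𝟙 B) (Abelian.image.ι g) fun U hU b _ => by
    obtain ⟨a, rfl⟩ := h U hU b
    exact ⟨(Abelian.factorThruImage g).app U a, by rw [← comp_app, Abelian.image.fac]⟩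
  haveI : IsSplitEpi (Abelian.image.ι g) := IsSplitEpi.mk' ⟨c, hc⟩
  haveI : IsIso (Abelian.image.ι g) := isIso_of_mono_of_isSplitEpi _
  rw [← Abelian.image.fac g]
  infer_instance

/-- Multiplication by `I^n` preserves epimorphisms of coherent modules. -/
theorem epi_map_idealMul {A B : X.Modules} [Coh.IsQCoh A] [Coh.IsQCoh B] (g : A ⟶ B) [Epi g] (n : ℕ) :
    Epi ((Dual3.idealMul (I ^ n)).map g) := by
  haveI := isQCoh_idealMul (I ^ n) B
  refine epi_of_app_surjective _ fun U hU y => ?_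
  have h1 := (mem_iff_pow I n B hU _).1 ⟨y, rfl⟩
  have h2 : LinearMap.range (appLin g U) = ⊤ := LinearMap.range_eq_top.2 (H8Lim.app_surjective_of_epi g hU)
  rw [← h2, LinearMap.range_eq_map, ← Submodule.map_smul''] at h1
  obtain ⟨m, hm, hgm⟩ := h1
  obtain ⟨x, rfl⟩ := (mem_iff_pow I n A hU m).2 hm
  refine ⟨x, app_injective_of_mono (Dual3.idealMulι (I ^ n) B) U ?_⟩
  rw [← comp_app, Dual3.idealMul_map_ι]
  exact hgm

/-- Uniform Artin–Rees bound for the image of a map to a coherent module. -/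
theorem exists_AR {A B : X.Modules} (hB : Coh.IsCoh B) (g : A ⟶ B) {ι : Type*} [Finite ι] (V : ι → X.affineOpens) :
    ∃ c : ℕ, ∀ d, c ≤ d → ∀ i, ∀ n ≥ d,
      (I.ideal (V i) ^ n • (⊤ : Submodule Γ(X, (V i).1) Γ(B, (V i).1))) ⊓ LinearMap.range (appLin g (V i).1) ≤
        Submodule.map (appLin g (V i).1) (I.ideal (V i) ^ (n - d) • (⊤ : Submodule Γ(X, (V i).1) Γ(A, (V i).1))) := by
  classical
  haveI := hB.1
  have hAR : ∀ i, ∃ k : ℕ, ∀ n ≥ k,
      (I.ideal (V i) ^ n • (⊤ : Submodule Γ(X, (V i).1) Γ(B, (V i).1))) ⊓ LinearMap.range (appLin g (V i).1) =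
        I.ideal (V i) ^ (n - k) •
          ((I.ideal (V i) ^ k • ⊤) ⊓ LinearMap.range (appLin g (V i).1)) := fun i => by
    haveI : IsNoetherianRing Γ(X, (V i).1) := IsLocallyNoetherian.component_noetherian (V i)
    haveI := ((isCoh_iff_finite_sections B).1 hB).2 (V i).1 (V i).2
    exact Ideal.exists_pow_inf_eq_pow_smul _ _
  choose k hk using hAR
  haveI := Fintype.ofFinite ι
  refine ⟨Finset.univ.sup k, fun d hd i n hn => ?_⟩
  have hki : k i ≤ d := (Finset.le_sup (Finset.mem_univ i)).trans hd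
  rw [hk i n (hki.trans hn), Submodule.map_smul'', Submodule.map_top]
  exact Submodule.smul_mono (Ideal.pow_le_pow_right (by omega)) inf_le_right

/-- Both factorisations, uniform in `n`. -/
theorem exists_bound (F : CochainComplex X.Modules ℤ) (hF : ∀ q, Coh.IsCoh (F.X q)) (p : ℤ) :
    ∃ c : ℕ, 0 < c ∧
      (∀ n, c ≤ n → ∃ u : ((Dual3.deligne I n).obj F).cycles p ⟶ (Dual3.idealMul (I ^ (n - c))).obj (F.cycles p),
        u ≫ Dual3.idealMulι (I ^ (n - c)) (F.cycles p) = HomologicalComplex.cyclesMap (Dual3.deligneι I n F) p) ∧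
      ∀ n, c ≤ n → ∃ v : (Dual3.idealMul (I ^ n)).obj (F.cycles p) ⟶ ((Dual3.deligne I (n - c)).obj F).cycles p,
        v ≫ HomologicalComplex.cyclesMap (Dual3.deligneι I (n - c) F) p = Dual3.idealMulι (I ^ n) (F.cycles p) ∧
        kernel.ι ((Dual3.idealMul (I ^ n)).map (F.homologyπ p)) ≫ v ≫
          ((Dual3.deligne I (n - c)).obj F).homologyπ p = 0 := by
  classical
  have hq : ∀ i, Coh.IsQCoh (F.X i) := fun i => (hF i).1
  haveI hZq : Coh.IsQCoh (F.cycles p) := DQCoh.ResProp17.isQCoh_cycles F hq p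
  have hZ : Coh.IsCoh (F.cycles p) := Coherent.isCoh_of_mono (F.iCycles p) (hF p) hZq
  haveI := hq p
  haveI hHq : Coh.IsQCoh (F.homology p) := DQCoh.ResProp17.isQCoh_homology F hq p
  have hDq : ∀ n i, Coh.IsQCoh (((Dual3.deligne I n).obj F).X i) := fun n i =>
    haveI := hq i
    isQCoh_idealMul (I ^ n) (F.X i)
  obtain ⟨t, ht, hcov⟩ := isCompact_iff_finite_and_eq_biUnion_affineOpens.1
    (show IsCompact ((⊤ : X.Opens) : Set X) from isCompact_univ)
  haveI := ht.to_subtype
  let V : t → X.affineOpens := fun i => i.1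
  have hV : ∀ x : X, ∃ i : t, x ∈ (V i).1 := fun x => by
    have hx : x ∈ ((⊤ : X.Opens) : Set X) := trivial
    rw [hcov] at hx
    simp only [Opens.coe_iSup, Set.mem_iUnion, SetLike.mem_coe] at hx
    obtain ⟨i, hi, hxi⟩ := hx
    exact ⟨⟨i, hi⟩, hxi⟩
  obtain ⟨c₁, hc₁⟩ := exists_AR I (hF p) (F.iCycles p) V
  obtain ⟨c₂, hc₂⟩ := exists_AR I hZ (F.toCycles (p - 1) p) V
  let c := c₁ + c₂ + 1
  refine ⟨c, by omega, fun n hn => ?_, fun n hn => ?_⟩
  · haveI := DQCoh.ResProp17.isQCoh_cycles _ (hDq n) p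
    refine exists_le_of_range_le_cover _ _ (fun i => (V i).1) (fun i => (V i).2) hV fun i => ?_
    rintro _ ⟨z, rfl⟩
    refine (mem_iff_pow I (n - c) _ (V i).2 _).2 ?_
    have h2 : (F.iCycles p).app (V i).1 ((HomologicalComplex.cyclesMap (Dual3.deligneι I n F) p).app (V i).1 z) =
        (Dual3.idealMulι (I ^ n) (F.X p)).app (V i).1
          ((((Dual3.deligne I n).obj F).iCycles p).app (V i).1 z) := by
      rw [← comp_app, HomologicalComplex.cyclesMap_i]
      rfl
    obtain ⟨m, hm, hme⟩ := hc₁ c (by omega) i n hn ⟨(mem_iff_pow I n _ (V i).2 _).1 ⟨_, h2.symm⟩, ⟨_, rfl⟩⟩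
    have := app_injective_of_mono (F.iCycles p) (V i).1 hme
    rwa [← this]
  · haveI := hq p
    obtain ⟨tr, htr⟩ := DualLib.DeligneHom.exists_tr I (F.X p) (show n - c ≤ n by omega)
    let G := (Dual3.deligne I (n - c)).obj F
    let w : (Dual3.idealMul (I ^ n)).obj (F.cycles p) ⟶ G.X p :=
      (Dual3.idealMul (I ^ n)).map (F.iCycles p) ≫ tr
    have hw : w ≫ Dual3.idealMulι (I ^ (n - c)) (F.X p) = Dual3.idealMulι (I ^ n) (F.cycles p) ≫ F.iCycles p := by
      rw [Category.assoc, htr, Dual3.idealMul_map_ι]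
    have hd : w ≫ G.d p (p + 1) = 0 := by
      rw [← cancel_mono (Dual3.idealMulι (I ^ (n - c)) (F.X (p + 1))), zero_comp, Category.assoc]
      have : G.d p (p + 1) ≫ Dual3.idealMulι (I ^ (n - c)) (F.X (p + 1)) =
          Dual3.idealMulι (I ^ (n - c)) (F.X p) ≫ F.d p (p + 1) := Dual3.idealMul_map_ι _ _
      rw [this, ← Category.assoc, hw, Category.assoc, HomologicalComplex.iCycles_d, comp_zero]
    let v := G.liftCycles w (p + 1) (by simp) hd
    have hv : v ≫ HomologicalComplex.cyclesMap (Dual3.deligneι I (n - c) F) p =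
        Dual3.idealMulι (I ^ n) (F.cycles p) := by
      rw [← cancel_mono (F.iCycles p), Category.assoc, HomologicalComplex.cyclesMap_i, ← Category.assoc,
        HomologicalComplex.liftCycles_i]
      exact hw
    refine ⟨v, hv, ?_⟩
    let κ := kernel.ι ((Dual3.idealMul (I ^ n)).map (F.homologyπ p))
    haveI := isQCoh_idealMul (I ^ n) (F.cycles p)
    haveI := isQCoh_idealMul (I ^ n) (F.homology p)
    haveI : Coh.IsQCoh (kernel ((Dual3.idealMul (I ^ n)).map (F.homologyπ p))) := isQCoh_kernel _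
    let cM := HomologicalComplex.cyclesMap (Dual3.deligneι I (n - c) F) p
    haveI : Mono cM := by
      haveI : Mono ((Dual3.deligneι I (n - c) F).f p) := Dual3.mono_idealMulι _ _
      have : Mono (cM ≫ F.iCycles p) := by
        rw [HomologicalComplex.cyclesMap_i]
        exact mono_comp _ _
      exact mono_of_mono cM (F.iCycles p)
    let g := G.toCycles (p - 1) p
    obtain ⟨e, he⟩ := exists_le_of_range_le_cover (κ ≫ Dual3.idealMulι (I ^ n) (F.cycles p))
      (Abelian.image.ι (g ≫ cM)) (fun i => (V i).1) (fun i => (V i).2) hV fun i => by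
        rintro _ ⟨z, rfl⟩
        let b : Γ(F.cycles p, (V i).1) := (κ ≫ Dual3.idealMulι (I ^ n) (F.cycles p)).app (V i).1 z
        have h0 : (F.homologyπ p).app (V i).1 b = 0 := by
          rw [← comp_app, Category.assoc, ← Dual3.idealMul_map_ι, kernel.condition_assoc, zero_comp]
          simp
        have h1 : b ∈ LinearMap.range (appLin (F.toCycles (p - 1) p) (V i).1) := by
          haveI := hq (p - 1)
          obtain ⟨k, hk⟩ := kernel_sections_exact (F.homologyπ p) b h0
          let S := ShortComplex.mk (F.toCycles (p - 1) p) (F.homologyπ p) (by simp)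
          have hS : S.Exact := S.exact_of_g_is_cokernel (F.homologyIsCokernel (p - 1) p (by simp))
          haveI : Epi (kernel.lift (F.homologyπ p) (F.toCycles (p - 1) p) (by simp)) := hS.epi_kernelLift
          haveI : Coh.IsQCoh (kernel (F.homologyπ p)) := isQCoh_kernel _
          obtain ⟨a, rfl⟩ := H8Lim.app_surjective_of_epi
            (kernel.lift (F.homologyπ p) (F.toCycles (p - 1) p) S.zero) (V i).2 k
          refine ⟨a, ?_⟩
          rw [← comp_app, kernel.lift_ι] at hk
          exact hk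
        obtain ⟨m, hm, hme⟩ := hc₂ c (by omega) i n hn ⟨(mem_iff_pow I n _ (V i).2 _).1 ⟨κ.app (V i).1 z, rfl⟩, h1⟩
        haveI := hq (p - 1)
        obtain ⟨x, rfl⟩ := (mem_iff_pow I (n - c) _ (V i).2 m).2 hm
        refine ⟨(Abelian.factorThruImage (g ≫ cM)).app (V i).1 x, ?_⟩
        rw [← comp_app, Abelian.image.fac]
        have hg : g ≫ cM = Dual3.idealMulι (I ^ (n - c)) (F.X (p - 1)) ≫ F.toCycles (p - 1) p := by
          rw [← cancel_mono (F.iCycles p), Category.assoc, Category.assoc, HomologicalComplex.cyclesMap_i,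
            HomologicalComplex.toCycles_i_assoc, HomologicalComplex.toCycles_i]
          exact Dual3.idealMul_map_ι _ _
        rw [hg, comp_app]
        exact hme
    have h3 : Abelian.image.ι (g ≫ cM) ≫ cokernel.π cM = 0 := by
      rw [← cancel_epi (Abelian.factorThruImage (g ≫ cM)), ← Category.assoc, Abelian.image.fac, comp_zero,
        Category.assoc, cokernel.condition, comp_zero]
    let w' := Abelian.monoLift cM _ h3
    have hw' : w' ≫ cM = Abelian.image.ι (g ≫ cM) := Abelian.monoLift_comp cM _ h3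
    have h4 : Abelian.factorThruImage (g ≫ cM) ≫ w' = g := by
      rw [← cancel_mono cM, Category.assoc, hw', Abelian.image.fac]
    have h5 : w' ≫ G.homologyπ p = 0 := by
      rw [← cancel_epi (Abelian.factorThruImage (g ≫ cM)), ← Category.assoc, h4,
        HomologicalComplex.toCycles_comp_homologyπ, comp_zero]
    have h6 : κ ≫ v = e ≫ w' := by
      rw [← cancel_mono cM, Category.assoc, Category.assoc, hv, hw', he]
    show κ ≫ v ≫ G.homologyπ p = 0
    rw [← Category.assoc, h6, Category.assoc, h5, comp_zero]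

theorem exists_control (F : CochainComplex X.Modules ℤ) (hFc : ∀ q : ℤ, Coh.IsCoh (F.X q)) (p : ℤ) :
    ∃ (c : ℕ) (φ : ∀ n : ℕ, ((Dual3.deligne I n).obj F).homology p ⟶ (Dual3.idealMul (I ^ (n - c))).obj (F.homology p))
      (ψ : ∀ n : ℕ, (Dual3.idealMul (I ^ n)).obj (F.homology p) ⟶ ((Dual3.deligne I (n - c)).obj F).homology p),
      0 < c ∧
      (∀ n : ℕ, c ≤ n → φ n ≫ Dual3.idealMulι (I ^ (n - c)) (F.homology p) =
        HomologicalComplex.homologyMap (Dual3.deligneι I n F) p) ∧
      (∀ n : ℕ, c ≤ n → ψ n ≫ HomologicalComplex.homologyMap (Dual3.deligneι I (n - c) F) p =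
        Dual3.idealMulι (I ^ n) (F.homology p)) ∧
      (∀ n : ℕ, 2 * c ≤ n → (ψ n ≫ φ (n - c)) ≫ Dual3.idealMulι (I ^ (n - c - c)) (F.homology p) =
        Dual3.idealMulι (I ^ n) (F.homology p)) ∧
      ∀ (n : ℕ), 2 * c ≤ n → ∀ t : (Dual3.deligne I n).obj F ⟶ (Dual3.deligne I (n - c - c)).obj F,
        t ≫ Dual3.deligneι I (n - c - c) F = Dual3.deligneι I n F →
          φ n ≫ ψ (n - c) = HomologicalComplex.homologyMap t p := by
  classical
  obtain ⟨c, hc, hu, hv⟩ := exists_bound I F hFc p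
  choose u hu using hu
  choose v hv hker using hv
  have hq : ∀ i, Coh.IsQCoh (F.X i) := fun i => (hFc i).1
  haveI hZq : Coh.IsQCoh (F.cycles p) := DQCoh.ResProp17.isQCoh_cycles F hq p
  haveI hHq : Coh.IsQCoh (F.homology p) := DQCoh.ResProp17.isQCoh_homology F hq p
  haveI : ∀ n, Epi ((Dual3.idealMul (I ^ n)).map (F.homologyπ p)) := fun n => epi_map_idealMul I _ n
  have hφ0 : ∀ n (hn : c ≤ n), ((Dual3.deligne I n).obj F).toCycles (p - 1) p ≫ u n hn ≫
      (Dual3.idealMul (I ^ (n - c))).map (F.homologyπ p) = 0 := fun n hn => by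
    rw [← cancel_mono (Dual3.idealMulι (I ^ (n - c)) (F.homology p)), zero_comp, Category.assoc, Category.assoc,
      Dual3.idealMul_map_ι, reassoc_of% (hu n hn), ← HomologicalComplex.homologyπ_naturality,
      HomologicalComplex.toCycles_comp_homologyπ_assoc, zero_comp]
  let φ : ∀ n : ℕ, ((Dual3.deligne I n).obj F).homology p ⟶ (Dual3.idealMul (I ^ (n - c))).obj (F.homology p) :=
    fun n => if hn : c ≤ n then (((Dual3.deligne I n).obj F).homologyIsCokernel (p - 1) p (by simp)).desc
      (CokernelCofork.ofπ _ (hφ0 n hn)) else 0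
  let ψ : ∀ n : ℕ, (Dual3.idealMul (I ^ n)).obj (F.homology p) ⟶ ((Dual3.deligne I (n - c)).obj F).homology p :=
    fun n => if hn : c ≤ n then Abelian.epiDesc ((Dual3.idealMul (I ^ n)).map (F.homologyπ p))
      (v n hn ≫ ((Dual3.deligne I (n - c)).obj F).homologyπ p) (hker n hn) else 0
  have eφ : ∀ n (hn : c ≤ n), ((Dual3.deligne I n).obj F).homologyπ p ≫ φ n =
      u n hn ≫ (Dual3.idealMul (I ^ (n - c))).map (F.homologyπ p) := fun n hn => by
    simp only [φ, dif_pos hn]
    exact (((Dual3.deligne I n).obj F).homologyIsCokernel (p - 1) p (by simp)).fac _ WalkingParallelPair.one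
  have eψ : ∀ n (hn : c ≤ n), (Dual3.idealMul (I ^ n)).map (F.homologyπ p) ≫ ψ n =
      v n hn ≫ ((Dual3.deligne I (n - c)).obj F).homologyπ p := fun n hn => by
    simp only [ψ, dif_pos hn]
    exact Abelian.comp_epiDesc _ _ _
  have h1 : ∀ n : ℕ, c ≤ n → φ n ≫ Dual3.idealMulι (I ^ (n - c)) (F.homology p) =
      HomologicalComplex.homologyMap (Dual3.deligneι I n F) p := fun n hn => by
    rw [← cancel_epi (((Dual3.deligne I n).obj F).homologyπ p), reassoc_of% (eφ n hn), Dual3.idealMul_map_ι,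
      reassoc_of% (hu n hn), HomologicalComplex.homologyπ_naturality]
  have h2 : ∀ n : ℕ, c ≤ n → ψ n ≫ HomologicalComplex.homologyMap (Dual3.deligneι I (n - c) F) p =
      Dual3.idealMulι (I ^ n) (F.homology p) := fun n hn => by
    rw [← cancel_epi ((Dual3.idealMul (I ^ n)).map (F.homologyπ p)), reassoc_of% (eψ n hn),
      HomologicalComplex.homologyπ_naturality, reassoc_of% (hv n hn), Dual3.idealMul_map_ι]
  refine ⟨c, φ, ψ, hc, h1, h2, fun n hn => ?_, fun n hn t ht => ?_⟩
  · rw [Category.assoc, h1 (n - c) (by omega), h2 n (by omega)]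
  · haveI : Mono (HomologicalComplex.cyclesMap (Dual3.deligneι I (n - c - c) F) p) := by
      haveI : Mono ((Dual3.deligneι I (n - c - c) F).f p) := Dual3.mono_idealMulι _ _
      have : Mono (HomologicalComplex.cyclesMap (Dual3.deligneι I (n - c - c) F) p ≫ F.iCycles p) := by
        rw [HomologicalComplex.cyclesMap_i]
        exact mono_comp _ _
      exact mono_of_mono _ (F.iCycles p)
    have h3 : u n (by omega) ≫ v (n - c) (by omega) = HomologicalComplex.cyclesMap t p := by
      rw [← cancel_mono (HomologicalComplex.cyclesMap (Dual3.deligneι I (n - c - c) F) p), Category.assoc,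
        hv (n - c) (by omega), hu n (by omega), ← HomologicalComplex.cyclesMap_comp, ht]
    rw [← cancel_epi (((Dual3.deligne I n).obj F).homologyπ p), reassoc_of% (eφ n (by omega)),
      eψ (n - c) (by omega), reassoc_of% h3, HomologicalComplex.homologyπ_naturality]

end Groth.Agent.Dual6Lib.DeligneHomology
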