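import Groth.Agent.Dual6Lib.FlatShriek
import Groth.Agent.DualLib.ShriekNat
import Groth.Agent.S3630
import Groth.Agent.S3634
import Groth.Agent.Dual22Lib.SuppAdjQC

/-!
# Rigidity of `f^! O` along the diagonal for flat `f`
-/

set_option autoImplicit false
set_option backward.isDefEq.respectTransparency false
set_option backward.defeqAttrib.useBackward true
set_option linter.style.haveILetI false
set_option linter.unusedSectionVars false
set_option synthInstance.maxHeartbeats 100000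

universe u

open CategoryTheory CategoryTheory.Limits AlgebraicGeometry HomologicalComplex
open Groth.Agent.DCat Groth.Agent.DCat.PerfLocal Groth.Agent.DCat.ProjPerf Groth.Agent.DualLib Groth.Agent.Dual22Lib

attribute [local instance] HasDerivedCategory.standard
attribute [-instance] Int.instConditionallyCompleteLinearOrder

namespace Groth.Agent.Dual6Lib.RelRigid

variable {X Y : Scheme.{u}}

/-- `Lf^* O = O`. -/
theorem nonempty_Lpull_structure (f : X ⟶ Y) [DCoh.HasLpull f] :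
    Nonempty ((DCoh.Lpull f).obj (DCoh.inD Y (Coh.structureModule Y)) ≅ DCoh.inD X (Coh.structureModule X)) := by
  let P := (single Y.Modules (ComplexShape.up ℤ) 0).obj (Coh.structureModule Y)
  have hP : IsKFlatFor (shT Y) P := RHomLeft.isKFlatFor_structure Y
  let p : (pullC f).obj P ≅ (single X.Modules (ComplexShape.up ℤ) 0).obj (Coh.structureModule X) :=
    (singleMapHomologicalComplex (Scheme.Modules.pullback f) (ComplexShape.up ℤ) 0).app _ ≪≫
      (single X.Modules (ComplexShape.up ℤ) 0).mapIso ((Scheme.Modules.pullback f).mapIso (DQCoh.topStructIso Y).symm ≪≫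
        DQCoh.pullFreeIso f ⊤ ≪≫ DQCoh.topStructIso X)
  exact ⟨(DCoh.Lpull f).mapIso ((DerivedCategory.singleFunctorIsoCompQ Y.Modules 0).app _) ≪≫
    PullPerf.lpullIso f hP ≪≫ DerivedCategory.Q.mapIso p ≪≫
    ((DerivedCategory.singleFunctorIsoCompQ X.Modules 0).app _).symm⟩

/-- Restriction to opens is derived pullback. -/
theorem nonempty_res_iso (j : X ⟶ Y) [IsOpenImmersion j] [DCoh.HasLpull j]
    [PreservesFiniteLimits (Scheme.Modules.restrictFunctor j)] (K : DCoh.D Y) :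
    Nonempty ((DCoh.Lpull j).obj K ≅ (DCoh.restrictD j).obj K) :=
  DQCoh.nonempty_Lpull_restrict j K

variable [∀ (U V : Scheme.{u}) (j : U ⟶ V) [IsOpenImmersion j], PreservesFiniteLimits (Scheme.Modules.restrictFunctor j)]

/-- `R Hom(O_X, L pr₁^* f^! O) = O_X` on `X ×_Y X`. -/
theorem nonempty_diag [IsNoetherian Y] (f : X ⟶ Y) [Flat f] [IsSeparated f] [LocallyOfFiniteType f] [QuasiCompact f]
    (c : DEt.Compactification f) [DCoh.HasRpush c.fbar] (hc : DCoh.RpushPreservesQCoh c.fbar)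
    (a : DCoh.DQCoh Y ⥤ DCoh.DQCoh c.Xbar) (adj : DCoh.RpushQ c.fbar hc ⊣ a)
    (O : DCoh.DQCoh Y) (hO : Nonempty (O.obj ≅ DCoh.inD Y (Coh.structureModule Y)))
    [DCoh.HasLpull (pullback.fst f f)] [Dual3.HasHomO (pullback.diagonal f)] :
    Nonempty ((ClosedShriek.RHomOD (pullback.diagonal f)).obj
        ((DCoh.Lpull (pullback.fst f f)).obj ((Dual3.shriekC c a).obj O)) ≅
      DCoh.inD X (Coh.structureModule X)) := by
  haveI : IsLocallyNoetherian X := LocallyOfFiniteType.isLocallyNoetherian f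
  haveI : CompactSpace X := QuasiCompact.compactSpace_of_compactSpace f
  haveI : IsNoetherian X := { }
  haveI : IsLocallyNoetherian c.Xbar := LocallyOfFiniteType.isLocallyNoetherian c.fbar
  haveI : CompactSpace c.Xbar := QuasiCompact.compactSpace_of_compactSpace c.fbar
  haveI : IsNoetherian c.Xbar := { }
  let P := pullback c.fbar f
  let q₁ : P ⟶ c.Xbar := pullback.fst c.fbar f
  let q₂ : P ⟶ X := pullback.snd c.fbar f
  have hsq : IsPullback q₁ q₂ c.fbar f := IsPullback.of_hasPullback c.fbar f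
  haveI : IsProper q₂ := inferInstanceAs (IsProper (pullback.snd c.fbar f))
  haveI : IsLocallyNoetherian P := LocallyOfFiniteType.isLocallyNoetherian q₂
  haveI : CompactSpace P := QuasiCompact.compactSpace_of_compactSpace q₂
  haveI : IsNoetherian P := { }
  let W := pullback f f
  haveI : IsLocallyNoetherian W := LocallyOfFiniteType.isLocallyNoetherian (pullback.fst f f)
  haveI : CompactSpace W := QuasiCompact.compactSpace_of_compactSpace (pullback.fst f f)
  haveI : IsNoetherian W := { }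
  let k : W ⟶ P := pullback.map f f c.fbar f c.j (𝟙 X) (𝟙 Y)
    (by rw [Category.comp_id, c.fac]) (by rw [Category.comp_id, Category.id_comp])
  haveI : IsOpenImmersion k := inferInstanceAs (IsOpenImmersion (pullback.map f f c.fbar f c.j (𝟙 X) (𝟙 Y) _ _))
  let σ : X ⟶ P := pullback.diagonal f ≫ k
  have hσ₂ : σ ≫ q₂ = 𝟙 X := by
    show (pullback.diagonal f ≫ pullback.map _ _ _ _ _ _ _ _ _) ≫ pullback.snd c.fbar f = _
    simp [pullback.map]
  haveI : IsClosedImmersion (σ ≫ q₂) := by rw [hσ₂]; infer_instance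
  haveI : IsClosedImmersion σ := IsClosedImmersion.of_comp σ q₂
  haveI := S3630.result X P σ
  -- the value on `P`
  haveI := DCat.hasLpull f
  haveI := DCat.hasLpull q₁
  haveI := DCat.hasLpull k
  haveI := DCat.hasLpull (k ≫ q₁)
  haveI := DCat.hasLpull c.j
  haveI := DCat.hasLpull (pullback.fst f f ≫ c.j)
  haveI : Flat q₁ := MorphismProperty.of_isPullback hsq.flip inferInstance
  have hLf : Dual3.LpullPreservesQCoh f := fun K hK => DQCoh.isQCohD_Lpull f K hK
  have hLq : Dual3.LpullPreservesQCoh q₁ := fun K hK => DQCoh.isQCohD_Lpull q₁ K hK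
  obtain ⟨t⟩ := FlatShriek.nonempty_iso hsq (hLg := hLf) (hLg' := hLq)
    (fun K hK => DQCoh.isQCohD_Rpush f K hK) (fun K hK => DQCoh.isQCohD_Rpush q₁ K hK)
    adj (ShriekNat.adjA q₂)
  obtain ⟨eO⟩ := hO
  haveI : (DCoh.inD Y (Coh.structureModule Y)).IsGE 0 :=
    (inferInstance : ((DerivedCategory.singleFunctor Y.Modules 0).obj (Coh.structureModule Y)).IsGE 0)
  have hOb : Dual3.IsBddBelowQ Y O := ⟨0, DerivedCategory.TStructure.t.isGE_of_iso eO.symm 0⟩
  let O' : DCoh.DQCoh X := (Dual3.LpullQ f hLf).obj O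
  let t' : (DCoh.Lpull q₁).obj (a.obj O).obj ≅ ((ShriekNat.A q₂).obj O').obj :=
    (ObjectProperty.ι _).mapIso (t.app ⟨O, hOb⟩)
  obtain ⟨eO'⟩ := nonempty_Lpull_structure f
  let eX : O'.obj ≅ DCoh.inD X (Coh.structureModule X) := (DCoh.Lpull f).mapIso eO ≪≫ eO'
  haveI : (DCoh.inD X (Coh.structureModule X)).IsGE 0 :=
    (inferInstance : ((DerivedCategory.singleFunctor X.Modules 0).obj (Coh.structureModule X)).IsGE 0)
  have hO'b : Dual3.IsBddBelowQ X O' := ⟨0, DerivedCategory.TStructure.t.isGE_of_iso eX.symm 0⟩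
  let H : DCoh.DQCoh P := (ShriekNat.A q₂).obj O'
  have hHb : Dual3.IsBddBelowQ P H := ShriekNat.isBddBelow_A q₂ hO'b
  let G₀ := (DCoh.Lpull (pullback.fst f f)).obj ((Dual3.shriekC c a).obj O)
  -- restricted to `X ×_Y X`
  obtain ⟨r₁⟩ := nonempty_res_iso k H.obj
  obtain ⟨r₂⟩ := DCat.nonempty_LpullComp k q₁
  have hk : k ≫ q₁ = pullback.fst f f ≫ c.j := pullback.lift_fst _ _ _
  let r₃ : DCoh.Lpull (k ≫ q₁) ≅ DCoh.Lpull (pullback.fst f f ≫ c.j) := eqToIso (by congr 1)
  obtain ⟨r₄⟩ := DCat.nonempty_LpullComp (pullback.fst f f) c.j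
  obtain ⟨r₅⟩ := nonempty_res_iso c.j (a.obj O).obj
  let eG : G₀ ≅ ((ShriekNat.res k).obj H).obj :=
    (DCoh.Lpull (pullback.fst f f)).mapIso r₅.symm ≪≫ r₄.app _ ≪≫ r₃.symm.app _ ≪≫ r₂.symm.app _ ≪≫
      (DCoh.Lpull k).mapIso t' ≪≫ r₁
  -- the right adjoint along the diagonal
  have hGb : Dual3.IsBddBelowQ W ((ShriekNat.res k).obj H) := ShriekNat.isBddBelow_res k hHb
  obtain ⟨d₁⟩ := S3634.result X W (pullback.diagonal f) (fun K hK => DQCoh.isQCohD_Rpush _ K hK)
    (ShriekNat.A (pullback.diagonal f)) (ShriekNat.adjA (pullback.diagonal f))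
  obtain ⟨d₂⟩ := ClosedShriek.nonempty_plus (pullback.diagonal f)
  let eA : (ClosedShriek.RHomOD (pullback.diagonal f)).obj ((ShriekNat.res k).obj H).obj ≅
      ((ShriekNat.A (pullback.diagonal f)).obj ((ShriekNat.res k).obj H)).obj :=
    (d₂.app ((Dual3.bddToPlus W).obj ⟨_, hGb⟩)).symm ≪≫ (d₁.app ⟨_, hGb⟩).symm
  -- change to `σ`
  have hr : (𝟙 X : X ⟶ X).opensRange = σ ⁻¹ᵁ k.opensRange :=
    (Scheme.Hom.opensRange_of_isIso _).trans (eq_top_iff.2 fun x _ => ⟨pullback.diagonal f x, rfl⟩).symm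
  obtain ⟨s₁⟩ := ShriekNat.nonempty_restrict σ k (𝟙 X) (pullback.diagonal f) (Category.id_comp σ) hr
    (Dual3.bddι P) (fun K => K.property)
  obtain ⟨s₂⟩ := ShriekNat.nonempty_res_id (X := X)
  obtain ⟨s₃⟩ := ShriekNat.nonempty_A_comp σ q₂
  obtain ⟨s₄⟩ := ShriekNat.nonempty_A_isIso (𝟙 X)
  let eσ : (ShriekNat.A (pullback.diagonal f)).obj ((ShriekNat.res k).obj H) ≅ O' :=
    (s₁.app ⟨H, hHb⟩).symm ≪≫ s₂.app ((ShriekNat.A σ).obj H) ≪≫ s₃.app O' ≪≫
      (ShriekNat.aCongr hσ₂).app O' ≪≫ s₄.app O' ≪≫ s₂.app O'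
  exact ⟨(ClosedShriek.RHomOD (pullback.diagonal f)).mapIso eG ≪≫ eA ≪≫
    (ObjectProperty.ι _).mapIso eσ ≪≫ eX⟩

/-- A map through which `O_X` represents maps out of direct images along the diagonal. -/
theorem exists_xi {W : Scheme.{u}} (Δ : X ⟶ W) [IsClosedImmersion Δ] [Dual3.HasHomO Δ]
    [PreservesFiniteLimits (Scheme.Modules.pushforward Δ)] [PreservesFiniteColimits (Scheme.Modules.pushforward Δ)]
    (O : DCoh.D X) (G : DCoh.D W) (e : (ClosedShriek.RHomOD Δ).obj G ≅ O) :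
    ∃ ξ : (Dual3.pushD Δ).obj O ⟶ G, ∀ (M : DCoh.D X) (j : ℤ), Function.Bijective fun φ : M ⟶ O⟦j⟧ =>
      (Dual3.pushD Δ).map φ ≫ ((Dual3.pushD Δ).commShiftIso j).hom.app O ≫ (shiftFunctor (DCoh.D W) j).map ξ := by
  obtain ⟨o⟩ := ClosedShriek.nonempty_adj Δ
  letI := o.rightAdjointCommShift ℤ
  haveI := o.commShift_of_leftAdjoint ℤ
  let ξ := (Dual3.pushD Δ).map e.inv ≫ o.counit.app G
  refine ⟨ξ, fun M j => ?_⟩
  let E : (M ⟶ O⟦j⟧) ≃ ((Dual3.pushD Δ).obj M ⟶ G⟦j⟧) :=
    (Iso.homToEquiv (Z := M) ((shiftFunctor (DCoh.D X) j).mapIso e.symm ≪≫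
      (((ClosedShriek.RHomOD Δ).commShiftIso j).app G).symm)).trans (o.homEquiv _ _).symm
  convert E.bijective using 1
  funext φ
  show _ = (o.homEquiv _ _).symm (φ ≫ (e.inv⟦j⟧' ≫ ((ClosedShriek.RHomOD Δ).commShiftIso j).inv.app G))
  rw [o.homEquiv_counit]
  have h := NatTrans.shift_app_comm o.counit j G
  have hn := ((Dual3.pushD Δ).commShiftIso j).hom.naturality e.inv
  simp only [Functor.commShiftIso_comp_hom_app, Functor.commShiftIso_id_hom_app, Category.comp_id,
    Functor.id_obj, Functor.comp_obj] at h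
  simp only [Functor.comp_map] at hn
  simp only [ξ, Functor.map_comp, Category.assoc]
  rw [← reassoc_of% hn]
  congr 2
  rw [← h]
  simp [← Functor.map_comp_assoc]

end Groth.Agent.Dual6Lib.RelRigid
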