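import Groth.Agent.Dual22Lib.ProjQCoh
import Groth.Agent.Dual22Lib.TensorNat
import Groth.Agent.Dual22Lib.ThetaNat
import Groth.Agent.Dual22Lib.SumAdj
import Groth.Agent.Dual22Lib.SupportAdj
import Groth.Agent.Dual22Lib.PerfExtend
import Groth.Agent.Dual22Lib.BCSquare
import Groth.Prelude.Def_Dual3
import Groth.Agent.Dual22Lib.RightAdjTensor

/-!
# The map `Lf^*(-) ⊗^L a(O) ⟶ a`
-/

set_option autoImplicit false
set_option backward.isDefEq.respectTransparency false
set_option backward.defeqAttrib.useBackward true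
set_option linter.style.haveILetI false
set_option linter.unusedSectionVars false
set_option synthInstance.maxHeartbeats 100000

universe u

open CategoryTheory CategoryTheory.Limits CategoryTheory.Pretriangulated AlgebraicGeometry HomologicalComplex
open Groth.Agent.DCat Groth.Agent.DCat.PerfLocal Groth.Agent.DCat.ProjPerf
open Groth.Agent.Dual22Lib.WeakExact Groth.Agent.Dual22Lib.AdjGeom

attribute [local instance] HasDerivedCategory.standard
attribute [-instance] Int.instConditionallyCompleteLinearOrder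

open Groth.Agent.Dual22Lib Groth.Agent.Dual22Lib.RightAdjTensor

namespace Groth.Agent.Dual6Lib.ThetaMap

variable {X Y : Scheme.{u}} (f : X ⟶ Y) [QuasiCompact f] [QuasiSeparated f] [DCoh.HasRpush f]
  {hf : DCoh.RpushPreservesQCoh f} {a : DCoh.DQCoh Y ⥤ DCoh.DQCoh X} (adj : DCoh.RpushQ f hf ⊣ a) [DCoh.HasLpull f]

/-- `K ↦ Lf^* K ⊗^L I` on `D_QCoh`. -/
noncomputable abbrev tensF (I : CochainComplex X.Modules ℤ) [DCoh.HasLTensorCx I]
    (hIq : DCoh.IsQCohD (DerivedCategory.Q.obj I)) : DCoh.DQCoh Y ⥤ DCoh.DQCoh X :=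
  ObjectProperty.lift DCoh.IsQCohD (ObjectProperty.ι _ ⋙ DCoh.Lpull f ⋙ DCoh.LTensorCx I)
    (fun K => DQCoh.isQCohD_LTensorCx I hIq _ (DQCoh.isQCohD_Lpull f _ K.property))

include adj in
/-- The natural map, invertible at shifts of `O`. -/
theorem exists_theta [CompactSpace X] [QuasiSeparatedSpace X] [CompactSpace Y] [QuasiSeparatedSpace Y]
    (O : DCoh.DQCoh Y) (eO : O.obj ≅ DCoh.inD Y (Coh.structureModule Y))
    (I : CochainComplex X.Modules ℤ) [hI : I.IsKInjective] [DCoh.HasLTensorCx I]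
    (hIq : DCoh.IsQCohD (DerivedCategory.Q.obj I)) (eI : DerivedCategory.Q.obj I ≅ (a.obj O).obj) :
    ∃ θ : tensF f I hIq ⟶ a, ∀ (K : DCoh.DQCoh Y) (k : ℤ),
      (DerivedCategory.Q.obj ((single Y.Modules (ComplexShape.up ℤ) k).obj (Coh.structureModule Y)) ≅ K.obj) →
      IsIso (θ.app K) := by
  haveI := LTensorSheaf.hasLTensorCx ((pushC f).obj I)
  obtain ⟨τ, hτ⟩ := ProjQCoh.exists_tau f I
  let S : CochainComplex Y.Modules ℤ := (single Y.Modules (ComplexShape.up ℤ) 0).obj (Coh.structureModule Y)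
  let eS : DerivedCategory.Q.obj S ≅ O.obj :=
    ((DerivedCategory.singleFunctorIsoCompQ Y.Modules 0).app (Coh.structureModule Y)).symm ≪≫ eO.symm
  -- the trace
  obtain ⟨J, r, hJ, hr⟩ := modules_enoughKInj Y S
  haveI := hJ
  haveI := hr
  haveI := LTensorSheaf.hasLTensorCx J
  haveI := LTensorSheaf.hasLTensorCx S
  obtain ⟨tS⟩ := TensorCongr.nonempty_congr (E := J) (E' := S) (asIso (DerivedCategory.Q.map r)).symm
  obtain ⟨uS⟩ := RHomLeft.nonempty_LTensor_structure (X := Y)
  haveI := isIso_unitD f I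
  let eJ : O.obj ≅ DerivedCategory.Q.obj J := eS.symm ≪≫ asIso (DerivedCategory.Q.map r)
  obtain ⟨c, hc⟩ := TensorNat.exists_chain ((pushC f).obj I) J
    ((unitD f).app I ≫ (DCoh.Rpush f).map eI.hom ≫ (adj.counit.app O).hom ≫ eJ.hom)
  obtain ⟨τl, hτl⟩ := TensorNat.exists_lift ((pushC f).obj I) J c
  let ν : DCoh.LTensorCx ((pushC f).obj I) ⟶ 𝟭 (DCoh.D Y) := τl ≫ (tS ≪≫ uS).hom
  have hrep : ∀ Z, DCoh.IsQCohD Z → AdjGlue.Rep (DCoh.Rpush f) (DerivedCategory.Q.obj J)
      (inv ((unitD f).app I) ≫ DerivedCategory.Q.map c) Z := fun Z hZ => by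
    have h := SupportAdj.rep_counit f hf a adj O Z hZ
    refine ⟨fun x y hxy => ?_, fun w => ?_⟩
    · simp only [hc, IsIso.inv_hom_id_assoc, ← Functor.map_comp_assoc] at hxy
      rw [← cancel_mono eI.hom]
      refine h.1 ?_
      rw [← cancel_mono eJ.hom]
      simpa only [Category.assoc] using hxy
    · obtain ⟨g, hg⟩ := h.2 (w ≫ eJ.inv)
      refine ⟨g ≫ eI.inv, ?_⟩
      simp only at hg ⊢
      simp only [hc, IsIso.inv_hom_id_assoc, ← Functor.map_comp_assoc, Category.assoc, Iso.inv_hom_id, Category.comp_id]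
      rw [reassoc_of% hg, Iso.inv_hom_id, Category.comp_id]
  haveI hτi : ∀ K : DCoh.DQCoh Y, IsIso (τ.app K.obj) := fun K => isIso_tau f I hIq τ hτ K.obj K.property
  let G : DCoh.DQCoh Y ⥤ DCoh.DQCoh X := tensF f I hIq
  let β : ∀ K : DCoh.DQCoh Y, (DCoh.RpushQ f hf).obj (G.obj K) ⟶ K := fun K =>
    ObjectProperty.homMk (inv (τ.app K.obj) ≫ ν.app K.obj)
  have hβ : ∀ {K L : DCoh.DQCoh Y} (g : K ⟶ L), (DCoh.RpushQ f hf).map (G.map g) ≫ β L = β K ≫ g := fun {K L} g => by
    refine ObjectProperty.hom_ext _ ?_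
    show (ProjQCoh.tgtF f I).map g.hom ≫ inv (τ.app L.obj) ≫ ν.app L.obj = (inv (τ.app K.obj) ≫ ν.app K.obj) ≫ g.hom
    have h : (ProjQCoh.srcF f I).map g.hom ≫ τ.app L.obj = τ.app K.obj ≫ (ProjQCoh.tgtF f I).map g.hom :=
      τ.naturality g.hom
    rw [← cancel_epi (τ.app K.obj), ← Category.assoc (τ.app K.obj) ((ProjQCoh.tgtF f I).map g.hom), ← h,
      Category.assoc, IsIso.hom_inv_id_assoc, ν.naturality,
      Category.assoc, IsIso.hom_inv_id_assoc]
    rfl
  let θ : G ⟶ a :=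
    { app := fun K => adj.homEquiv _ _ (β K)
      naturality := fun K L g => by
        rw [← adj.homEquiv_naturality_left, hβ g, adj.homEquiv_naturality_right] }
  let θ' : G ⋙ ObjectProperty.ι _ ⟶ a ⋙ ObjectProperty.ι _ := Functor.whiskerRight θ (ObjectProperty.ι _)
  -- at shifts of `O`
  have hθS : ∀ (K : DCoh.DQCoh Y) (k : ℤ),
      (DerivedCategory.Q.obj ((single Y.Modules (ComplexShape.up ℤ) k).obj (Coh.structureModule Y)) ≅ K.obj) →
      IsIso (θ.app K) := by
    intro K k eK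
    let P := (single Y.Modules (ComplexShape.up ℤ) k).obj (Coh.structureModule Y)
    have hP : IsKFlatFor (shT Y) P := ((RHomLeft.isKFlatFor_structure Y).shift (-k)).of_iso
      (((CochainComplex.singleFunctors Y.Modules).shiftIso (-k) k 0 (by omega)).app (Coh.structureModule Y))
    have hPq : DCoh.IsQCohD (DerivedCategory.Q.obj P) := DQCoh.isQCohD_of_iso eK.symm K.property
    obtain ⟨σ⟩ : Nonempty ((shT X).map₂CochainComplex.flip.obj ((pullC f).obj P) ≅
        shiftFunctor (CochainComplex X.Modules ℤ) (-k)) := by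
      obtain ⟨r₀⟩ := RHomLeft.nonempty_flip_single ((shT X).map₂CochainComplex) rfl (X := X)
      obtain ⟨r₁⟩ := RHomLeft.nonempty_flip_shift ((shT X).map₂CochainComplex) rfl
        ((single X.Modules (ComplexShape.up ℤ) 0).obj (Coh.structureModule X)) (-k)
      let p : (pullC f).obj P ≅ ((single X.Modules (ComplexShape.up ℤ) 0).obj (Coh.structureModule X))⟦-k⟧ :=
        (singleMapHomologicalComplex (Scheme.Modules.pullback f) (ComplexShape.up ℤ) k).app _ ≪≫
          (single X.Modules (ComplexShape.up ℤ) k).mapIso ((Scheme.Modules.pullback f).mapIso (DQCoh.topStructIso Y).symm ≪≫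
            DQCoh.pullFreeIso f ⊤ ≪≫ DQCoh.topStructIso X) ≪≫
          (((CochainComplex.singleFunctors X.Modules).shiftIso (-k) k 0 (by omega)).app _).symm
      exact ⟨(shT X).map₂CochainComplex.flip.mapIso p ≪≫ r₁ ≪≫ Functor.isoWhiskerRight r₀ _ ≪≫ Functor.leftUnitor _⟩
    obtain ⟨σ'⟩ : Nonempty ((shT Y).map₂CochainComplex.flip.obj P ≅
        shiftFunctor (CochainComplex Y.Modules ℤ) (-k)) := by
      obtain ⟨r₀⟩ := RHomLeft.nonempty_flip_single ((shT Y).map₂CochainComplex) rfl (X := Y)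
      obtain ⟨r₁⟩ := RHomLeft.nonempty_flip_shift ((shT Y).map₂CochainComplex) rfl
        ((single Y.Modules (ComplexShape.up ℤ) 0).obj (Coh.structureModule Y)) (-k)
      exact ⟨(shT Y).map₂CochainComplex.flip.mapIso
        (((CochainComplex.singleFunctors Y.Modules).shiftIso (-k) k 0 (by omega)).app _).symm ≪≫ r₁ ≪≫
          Functor.isoWhiskerRight r₀ _ ≪≫ Functor.leftUnitor _⟩
    haveI := ProjQCoh.isIso_eta_qcoh f I hIq hP hPq
    haveI := isIso_tau f I hIq τ hτ (DerivedCategory.Q.obj P) hPq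
    -- the trace at `P`
    let b := LTensorSheaf.ltensorCxIso J hP
    let post : DerivedCategory.Q.obj (tot (shT Y) J P) ≅ DerivedCategory.Q.obj P :=
      DerivedCategory.Q.mapIso (ShSymm.symm P J).symm ≪≫ b.symm ≪≫ (tS ≪≫ uS).app _
    have hν : ν.app (DerivedCategory.Q.obj P) =
        (ProjQCoh.srcIso f I hP).hom ≫ DerivedCategory.Q.map (totMap₁ (shT Y) c P) ≫ post.hom := by
      have h := hτl P hP
      rw [← Iso.eq_comp_inv] at h
      have h' := ShSymm.symm_natural₂ P c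
      rw [← Iso.eq_comp_inv] at h'
      show τl.app _ ≫ (tS ≪≫ uS).hom.app _ = _
      rw [h, h']
      simp only [ProjQCoh.srcIso, post, b, Iso.trans_hom, Functor.mapIso_hom, Category.assoc, Iso.symm_hom, Iso.app_hom,
        Functor.map_comp]
    have hβP : inv (τ.app (DerivedCategory.Q.obj P)) ≫ ν.app (DerivedCategory.Q.obj P) =
        (ProjQCoh.tgtIso f I hP).hom ≫ inv (eta f I P) ≫ DerivedCategory.Q.map (totMap₁ (shT Y) c P) ≫ post.hom := by
      rw [IsIso.inv_comp_eq, hν, hτ P hP]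
      simp
    have hβK : (β K).hom = (ProjQCoh.tgtF f I).map eK.inv ≫ inv (τ.app (DerivedCategory.Q.obj P)) ≫
        ν.app (DerivedCategory.Q.obj P) ≫ eK.hom := by
      show inv (τ.app K.obj) ≫ ν.app K.obj = _
      have h₁ : (ProjQCoh.srcF f I).map eK.inv ≫ τ.app (DerivedCategory.Q.obj P) =
          τ.app K.obj ≫ (ProjQCoh.tgtF f I).map eK.inv := τ.naturality eK.inv
      rw [IsIso.inv_comp_eq, ← Category.assoc (τ.app K.obj) ((ProjQCoh.tgtF f I).map eK.inv), ← h₁,
        Category.assoc, IsIso.hom_inv_id_assoc, reassoc_of% (ν.naturality eK.inv)]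
      simp
    let pre : (G.obj K).obj ≅ DerivedCategory.Q.obj (tot (shT X) I ((pullC f).obj P)) :=
      (DCoh.Lpull f ⋙ DCoh.LTensorCx I).mapIso eK.symm ≪≫
        ((DCoh.LTensorCx I).mapIso (PullPerf.lpullIso f hP) ≪≫
          LTensorSheaf.ltensorCxIso I (PullTot.isKFlatFor_pullback f hP) ≪≫
          DerivedCategory.Q.mapIso (ShSymm.symm ((pullC f).obj P) I))
    have hrepK : ∀ Z : DCoh.D X, DCoh.IsQCohD Z → AdjGlue.Rep (DCoh.Rpush f) K.obj (A := (G.obj K).obj) (β K).hom Z := by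
      intro Z hZ
      have h := bijective_trace f P hP hPq (-k) σ σ' I hIq c hrep Z hZ
      have e : (β K).hom = (DCoh.Rpush f).map pre.hom ≫
          (inv (eta f I P) ≫ DerivedCategory.Q.map (totMap₁ (shT Y) c P)) ≫ (post ≪≫ eK).hom := by
        rw [hβK, reassoc_of% hβP]
        simp only [pre, ProjQCoh.tgtIso, Iso.trans_hom, Functor.mapIso_hom, Functor.map_comp, Category.assoc]
        rfl
      unfold AdjGlue.Rep at h ⊢
      refine ⟨fun x y hxy => ?_, fun w => ?_⟩
      · simp only [e, ← Functor.map_comp_assoc] at hxy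
        rw [← cancel_mono pre.hom]
        refine h.1 ?_
        rw [← cancel_mono (post ≪≫ eK).hom]
        simpa only [Category.assoc] using hxy
      · obtain ⟨g, hg⟩ := h.2 (w ≫ (post ≪≫ eK).inv)
        refine ⟨g ≫ pre.inv, ?_⟩
        simp only at hg ⊢
        simp only [e, ← Functor.map_comp_assoc, Category.assoc, Iso.inv_hom_id, Category.comp_id]
        rw [reassoc_of% hg, Iso.inv_hom_id, Category.comp_id]
    refine (isIso_iff_yoneda_map_bijective (θ.app K)).2 fun Z => ?_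
    have hb : ∀ x : Z ⟶ G.obj K, x ≫ θ.app K = adj.homEquiv _ _ ((DCoh.RpushQ f hf).map x ≫ β K) := fun x =>
      (adj.homEquiv_naturality_left _ _).symm
    have h := hrepK Z.obj Z.property
    refine ⟨fun x y hxy => ObjectProperty.hom_ext _ (h.1 ?_), fun w => ?_⟩
    · simp only [hb] at hxy
      exact congrArg InducedCategory.Hom.hom ((adj.homEquiv _ _).injective hxy)
    · obtain ⟨x, hx⟩ := h.2 ((adj.homEquiv _ _).symm w).hom
      refine ⟨ObjectProperty.homMk x, ?_⟩
      show ObjectProperty.homMk x ≫ θ.app K = w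
      rw [hb, ← Equiv.eq_symm_apply]
      exact ObjectProperty.hom_ext _ hx
  exact ⟨θ, hθS⟩

end Groth.Agent.Dual6Lib.ThetaMap
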