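import Groth.Agent.Dual22Lib.WeakExact
import Groth.Agent.DCat.Hocolim
import Groth.Agent.DQCoh.Coproduct
import Groth.Agent.DCat.RHomExist
import Groth.Agent.DQCoh.HocolimPerf
import Groth.Agent.DRingLib.PCBase
import Mathlib.CategoryTheory.Abelian.DiagramLemmas.Four
import Mathlib.Algebra.Category.ModuleCat.AB
import Mathlib.Algebra.Homology.DerivedCategory.SingleTriangle

/-!
# Natural transformations of way-out functors on modules
-/

set_option autoImplicit false
set_option backward.isDefEq.respectTransparency false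
set_option backward.defeqAttrib.useBackward true
set_option linter.style.haveILetI false
set_option linter.unusedSectionVars false
set_option synthInstance.maxHeartbeats 100000

universe u

open CategoryTheory CategoryTheory.Limits CategoryTheory.Pretriangulated
open Groth.Agent.Dual22Lib.WeakExact

attribute [local instance] HasDerivedCategory.standard
attribute [-instance] Int.instConditionallyCompleteLinearOrder

namespace Groth.Agent.Dual6Lib.WayOut

variable {R : Type u} [CommRing R] {C : Type (u + 1)} [Category.{u} C] [Abelian C] [HasDerivedCategory.{u + 1} C]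
  {F G : Dual.D R ⥤ DerivedCategory C} (hF : TriExact F) (hG : TriExact G) (τ : F ⟶ G)

/-- A module in degree zero. -/
noncomputable abbrev sgl (M : ModuleCat.{u} R) : Dual.D R := (DerivedCategory.singleFunctor (ModuleCat.{u} R) 0).obj M

include hF hG in
/-- Four terms of the long sequences of a natural transformation. -/
theorem five {T : Triangle (Dual.D R)} (hT : T ∈ distTriang _) (i : ℤ) :
    let H := DerivedCategory.homologyFunctor C i
    (Epi (H.map (τ.app T.obj₂)) → Epi (H.map (τ.app (T.obj₁⟦(1 : ℤ)⟧))) → Mono (H.map (τ.app (T.obj₂⟦(1 : ℤ)⟧))) →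
      Epi (H.map (τ.app T.obj₃))) ∧
    (Epi (H.map (τ.app T.obj₁)) → IsIso (H.map (τ.app T.obj₂)) → IsIso (H.map (τ.app (T.obj₁⟦(1 : ℤ)⟧))) →
      Mono (H.map (τ.app (T.obj₂⟦(1 : ℤ)⟧))) → IsIso (H.map (τ.app T.obj₃))) := by
  intro H
  let row : (F' : Dual.D R ⥤ DerivedCategory C) → ComposableArrows C 4 := fun F' =>
    ComposableArrows.mk₄ (H.map (F'.map T.mor₁)) (H.map (F'.map T.mor₂)) (H.map (F'.map T.mor₃))
      (H.map (F'.map (-T.mor₁⟦(1 : ℤ)⟧')))
  have step : ∀ (F' : Dual.D R ⥤ DerivedCategory C), TriExact F' → ∀ {T' : Triangle (Dual.D R)}, T' ∈ distTriang _ →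
      ∃ w, (ShortComplex.mk (H.map (F'.map T'.mor₁)) (H.map (F'.map T'.mor₂)) w).Exact := fun F' hF' T' hT' => by
    obtain ⟨δ, hδ⟩ := hF' _ hT'
    exact ⟨_, H.map_distinguished_exact _ hδ⟩
  have hex : ∀ F', TriExact F' → (row F').Exact := fun F' hF' => by
    obtain ⟨w₀, e₀⟩ := step F' hF' hT
    obtain ⟨w₁, e₁⟩ := step F' hF' (rot_of_distTriang _ hT)
    obtain ⟨w₂, e₂⟩ := step F' hF' (rot_of_distTriang _ (rot_of_distTriang _ hT))
    exact ComposableArrows.exact_of_δ₀ (ComposableArrows.exact₂_mk _ w₀ e₀)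
      (ComposableArrows.exact_of_δ₀ (ComposableArrows.exact₂_mk _ w₁ e₁) (ComposableArrows.exact₂_mk _ w₂ e₂))
  have nat : ∀ {A B : Dual.D R} (g : A ⟶ B), H.map (F.map g) ≫ H.map (τ.app B) = H.map (τ.app A) ≫ H.map (G.map g) :=
    fun g => by rw [← H.map_comp, ← H.map_comp, τ.naturality]
  let φ : row F ⟶ row G := ComposableArrows.homMk₄ (H.map (τ.app T.obj₁)) (H.map (τ.app T.obj₂))
    (H.map (τ.app T.obj₃)) (H.map (τ.app (T.obj₁⟦(1 : ℤ)⟧))) (H.map (τ.app (T.obj₂⟦(1 : ℤ)⟧)))
    (nat _) (nat _) (nat _) (nat _)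
  exact ⟨fun h₀ h₂ h₃ => Abelian.epi_of_epi_of_epi_of_mono (ComposableArrows.δ₀Functor.map φ)
      ((row F).exact_iff_δ₀.1 (hex F hF)).2 ((row G).exact_iff_δ₀.1 (hex G hG)).2 h₀ h₂ h₃,
    fun h₀ h₁ h₃ h₄ => Abelian.isIso_of_epi_of_isIso_of_isIso_of_mono (hex F hF) (hex G hG) φ h₀ h₁ h₃ h₄⟩

variable (hR : ∀ n : ℤ, IsIso (τ.app ((sgl (ModuleCat.of R R))⟦n⟧)))
  (hsum : ∀ (κ : Type u) (Z : κ → Dual.D R) (a : ℤ), (∀ k, (Z k).IsGE a) → ∀ (c : Cofan Z), IsColimit c →
    Nonempty (IsColimit (F.mapCocone c)) ∧ Nonempty (IsColimit (G.mapCocone c)))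
  (B : ℤ) (hB : ∀ (M : ModuleCat.{u} R) (n i : ℤ), B < i + n →
    IsZero ((DerivedCategory.homologyFunctor C i).obj (F.obj ((sgl M)⟦n⟧))) ∧
    IsZero ((DerivedCategory.homologyFunctor C i).obj (G.obj ((sgl M)⟦n⟧))))

include hR hsum in
/-- Free modules. -/
theorem isIso_free (κ : Type u) (n : ℤ) : IsIso (τ.app ((sgl (∐ fun _ : κ => ModuleCat.of R R))⟦n⟧)) := by
  haveI := DCat.RHomExist.preservesCoproducts_Q (A := ModuleCat.{u} R) κ
  haveI : PreservesColimitsOfShape (Discrete κ) (HomologicalComplex.single (ModuleCat.{u} R) (ComplexShape.up ℤ) 0) :=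
    inferInstance
  haveI : PreservesColimitsOfShape (Discrete κ)
      (CochainComplex.singleFunctor (ModuleCat.{u} R) 0 ⋙ DerivedCategory.Q) :=
    comp_preservesColimitsOfShape (HomologicalComplex.single (ModuleCat.{u} R) (ComplexShape.up ℤ) 0) _
  haveI : PreservesColimitsOfShape (Discrete κ) (DerivedCategory.singleFunctor (ModuleCat.{u} R) 0) :=
    preservesColimitsOfShape_of_natIso (DerivedCategory.singleFunctorIsoCompQ (ModuleCat.{u} R) 0).symm
  let S : ModuleCat.{u} R ⥤ Dual.D R := DerivedCategory.singleFunctor (ModuleCat.{u} R) 0 ⋙ shiftFunctor _ n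
  let c : Cofan (fun _ : κ => (sgl (ModuleCat.of R R))⟦n⟧) :=
    Cofan.mk (S.obj (∐ fun _ : κ => ModuleCat.of R R)) fun k => S.map (Sigma.ι (fun _ : κ => ModuleCat.of R R) k)
  have hc : IsColimit c := (Cofan.isColimitMapCoconeEquiv S _ _).1
    (isColimitOfPreserves S (coproductIsCoproduct fun _ : κ => ModuleCat.of R R))
  obtain ⟨⟨cF⟩, ⟨cG⟩⟩ := hsum κ _ (-n) (fun _ => DerivedCategory.TStructure.t.isGE_shift _ 0 n (-n) (by omega)) c hc
  exact isIso_app_of_isColimit τ c cF cG fun _ => hR n

include hF hG hR hsum hB in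
/-- **Modules.** -/
theorem isIso_module (M : ModuleCat.{u} R) (n : ℤ) : IsIso (τ.app ((sgl M)⟦n⟧)) := by
  have key : ∀ (k : ℕ) (M : ModuleCat.{u} R) (n i : ℤ), B < i + n + k →
      IsIso ((DerivedCategory.homologyFunctor C i).map (τ.app ((sgl M)⟦n⟧))) := by
    intro k
    induction k with
    | zero =>
      intro M n i h
      obtain ⟨h₁, h₂⟩ := hB M n i (by omega)
      exact h₁.isIso h₂ _
    | succ k ih =>
      have main : ∀ (M : ModuleCat.{u} R) (n i : ℤ), B < i + n + (k + 1 : ℕ) →
          ∃ (T : Triangle (Dual.D R)), T ∈ distTriang _ ∧ Nonempty (T.obj₃ ≅ (sgl M)⟦n⟧) ∧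
            (∃ N, Nonempty (T.obj₁ ≅ (sgl N)⟦n⟧)) ∧ IsIso ((DerivedCategory.homologyFunctor C i).map (τ.app T.obj₂)) ∧
            IsIso ((DerivedCategory.homologyFunctor C i).map (τ.app (T.obj₁⟦(1 : ℤ)⟧))) ∧
            IsIso ((DerivedCategory.homologyFunctor C i).map (τ.app (T.obj₂⟦(1 : ℤ)⟧))) := by
        intro M n i h
        let π : (∐ fun _ : M => ModuleCat.of R R) ⟶ M := Sigma.desc fun x => ModuleCat.ofHom (LinearMap.toSpanSingleton R M x)
        haveI : Epi π := (ModuleCat.epi_iff_surjective _).2 fun x => ⟨Sigma.ι (fun _ : M => ModuleCat.of R R) x (1 : R), by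
          rw [← ConcreteCategory.comp_apply, Sigma.ι_desc]; exact one_smul R x⟩
        let S := ShortComplex.mk (kernel.ι π) π (kernel.condition π)
        have hS : S.ShortExact :=
          { exact := S.exact_of_f_is_kernel (kernelIsKernel π)
            mono_f := inferInstanceAs (Mono (kernel.ι π))
            epi_g := ‹Epi π› }
        let T := (Triangle.shiftFunctor (Dual.D R) n).obj hS.singleTriangle
        have hfree : ∀ m : ℤ, IsIso (τ.app ((sgl (∐ fun _ : M => ModuleCat.of R R))⟦m⟧)) := fun m =>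
          isIso_free τ hR hsum M m
        haveI := hfree n
        haveI : IsIso (τ.app (T.obj₂⟦(1 : ℤ)⟧)) :=
          (NatTrans.isIso_app_iff_of_iso τ ((shiftFunctorAdd' (Dual.D R) n 1 (n + 1) rfl).app _)).1 (hfree (n + 1))
        haveI h2 : IsIso (τ.app T.obj₂) := hfree n
        refine ⟨T, Triangle.shift_distinguished _ hS.singleTriangle_distinguished n, ⟨Iso.refl _⟩, ⟨_, ⟨Iso.refl _⟩⟩,
          inferInstance, ?_, inferInstance⟩
        exact (NatTrans.isIso_app_iff_of_iso (Functor.whiskerRight τ (DerivedCategory.homologyFunctor C i))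
          ((shiftFunctorAdd' (Dual.D R) n 1 (n + 1) rfl).app _)).1 (ih _ (n + 1) i (by push_cast at h; omega))
      have epi : ∀ (M : ModuleCat.{u} R) (n i : ℤ), B < i + n + (k + 1 : ℕ) →
          Epi ((DerivedCategory.homologyFunctor C i).map (τ.app ((sgl M)⟦n⟧))) := fun M n i h => by
        obtain ⟨T, hT, ⟨e₃⟩, -, h₂, h₁', h₂'⟩ := main M n i h
        haveI := h₂; haveI := h₁'; haveI := h₂'
        have he := (five hF hG τ hT i).1 inferInstance inferInstance inferInstance
        have hn := (Functor.whiskerRight τ (DerivedCategory.homologyFunctor C i)).naturality e₃.hom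
        have : (DerivedCategory.homologyFunctor C i).map (τ.app ((sgl M)⟦n⟧)) =
            (F ⋙ DerivedCategory.homologyFunctor C i).map e₃.inv ≫
              (DerivedCategory.homologyFunctor C i).map (τ.app T.obj₃) ≫
              (G ⋙ DerivedCategory.homologyFunctor C i).map e₃.hom := by
          rw [← Functor.whiskerRight_app, ← Functor.whiskerRight_app, ← hn, ← Functor.map_comp_assoc, Iso.inv_hom_id,
            CategoryTheory.Functor.map_id, Category.id_comp]
        rw [this]
        haveI := he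
        infer_instance
      intro M n i h
      obtain ⟨T, hT, ⟨e₃⟩, ⟨N, ⟨e₁⟩⟩, h₂, h₁', h₂'⟩ := main M n i h
      haveI := h₂; haveI := h₁'; haveI := h₂'
      have hn := (Functor.whiskerRight τ (DerivedCategory.homologyFunctor C i)).naturality e₁.inv
      have h₁ : Epi ((DerivedCategory.homologyFunctor C i).map (τ.app T.obj₁)) := by
        have : (DerivedCategory.homologyFunctor C i).map (τ.app T.obj₁) =
            (F ⋙ DerivedCategory.homologyFunctor C i).map e₁.hom ≫
              (DerivedCategory.homologyFunctor C i).map (τ.app ((sgl N)⟦n⟧)) ≫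
              (G ⋙ DerivedCategory.homologyFunctor C i).map e₁.inv := by
          rw [← Functor.whiskerRight_app, ← Functor.whiskerRight_app, ← hn, ← Functor.map_comp_assoc, Iso.hom_inv_id,
            CategoryTheory.Functor.map_id, Category.id_comp]
        rw [this]
        haveI := epi N n i h
        infer_instance
      exact (NatTrans.isIso_app_iff_of_iso (Functor.whiskerRight τ (DerivedCategory.homologyFunctor C i)) e₃).1
        ((five hF hG τ hT i).2 h₁ inferInstance inferInstance inferInstance)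
  rw [DerivedCategory.isIso_iff]
  exact fun i => key (B - i - n + 1).toNat M n i (by omega)

include hF hG hR hsum hB in
/-- Bounded complexes. -/
theorem isoShifts_bounded : ∀ (w : ℕ) (K : Dual.D R) (a : ℤ), K.IsGE a → K.IsLE (a + w - 1) → IsoShifts τ K := by
  intro w
  induction w with
  | zero =>
    intro K a hGE hLE
    haveI : DerivedCategory.TStructure.t.IsLE K (a - 1) := by simpa using hLE
    have hz : IsZero K := DerivedCategory.TStructure.t.isZero K (a - 1) a (by omega)
    intro n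
    haveI hzn := (shiftFunctor (Dual.D R) n).map_isZero hz
    exact (hF.map_isZero hzn).isIso (hG.map_isZero hzn) _
  | succ w ih =>
    intro K a hGE hLE
    let t : Triangulated.TStructure (Dual.D R) := DerivedCategory.TStructure.t
    haveI := hGE
    haveI := hLE
    haveI h₁ : ((t.truncLT (a + 1)).obj K).IsLE a := t.isLE_truncLT_obj K (a + 1) a (by omega)
    haveI h₁' : ((t.truncLT (a + 1)).obj K).IsGE a := inferInstanceAs (t.IsGE ((t.truncLT (a + 1)).obj K) a)
    haveI h₃ : ((t.truncGE (a + 1)).obj K).IsGE (a + 1) := t.isGE_truncGE_obj K (a + 1) (a + 1) (by omega)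
    have hLE' : t.IsLE ((t.truncGE (a + 1)).obj K) (a + (w + 1 : ℕ) - 1) := by
      haveI : t.IsLE K (a + (w + 1 : ℕ) - 1) := hLE
      infer_instance
    obtain ⟨M, ⟨e⟩⟩ := DerivedCategory.exists_iso_singleFunctor_obj_of_isGE_of_isLE ((t.truncLT (a + 1)).obj K) a
    have p₁ : IsoShifts τ ((t.truncLT (a + 1)).obj K) := fun n => by
      refine (NatTrans.isIso_app_iff_of_iso τ ((shiftFunctor (Dual.D R) n).mapIso (e ≪≫
        (((DerivedCategory.singleFunctors (ModuleCat.{u} R)).shiftIso (-a) a 0 (by omega)).app M).symm) ≪≫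
        ((shiftFunctorAdd' (Dual.D R) (-a) n (-a + n) rfl).app _).symm)).2 ?_
      exact isIso_module hF hG τ hR hsum B hB M (-a + n)
    have p₃ : IsoShifts τ ((t.truncGE (a + 1)).obj K) := ih _ (a + 1) h₃
      (by
        have he : a + (w + 1 : ℕ) - 1 = a + 1 + w - 1 := by push_cast; ring
        rw [← he]
        exact hLE')
    exact ((IsoShifts.cone hF hG (rot_of_distTriang _ (rot_of_distTriang _ (t.triangleLTGE_distinguished (a + 1) K)))
      p₃ (p₁.shift 1)).shift (-1)).of_iso ((shiftEquiv (Dual.D R) (1 : ℤ)).unitIso.app K).symm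

include hF hG hR hsum hB in
/-- **Bounded below complexes.** -/
theorem isIso_app (K : Dual.D R) (a : ℤ) [K.IsGE a] : IsIso (τ.app K) := by
  let t : Triangulated.TStructure (Dual.D R) := DerivedCategory.TStructure.t
  haveI : HasColimitsOfShape (Discrete ℕ) (Dual.D R) := by
    haveI := DCat.hasCoproductsOfShape_derived (A := ModuleCat.{u} R) DCat.enoughKInj_of_isGrothendieckAbelian (ULift.{u} ℕ)
    exact hasColimitsOfShape_of_equivalence (Discrete.equivalence Equiv.ulift : Discrete (ULift.{u} ℕ) ≌ Discrete ℕ)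
  let E : ℕ → Dual.D R := fun n => (t.truncLT (a + n)).obj K
  let f : ∀ n, E n ⟶ E (n + 1) := fun n => (t.natTransTruncLTOfLE (a + n) (a + (n + 1 : ℕ)) (by omega)).app K
  let i : ∀ n, E n ⟶ K := fun n => (t.truncLTι (a + n)).app K
  have hfi : ∀ n, f n ≫ i (n + 1) = i n := fun n => t.natTransTruncLTOfLE_ι_app _ _ _ _
  have hiso : ∀ (n : ℕ) (j : ℤ), j < a + n - 1 →
      IsIso ((DerivedCategory.homologyFunctor (ModuleCat.{u} R) j).map (i n)) := fun n j hj => by
    have hT := t.triangleLTGE_distinguished (a + n) K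
    haveI : ((t.truncGE (a + n)).obj K).IsGE (a + n) := t.isGE_truncGE_obj K _ _ (by omega)
    haveI : Epi ((DerivedCategory.homologyFunctor (ModuleCat.{u} R) j).map (i n)) :=
      (DerivedCategory.HomologySequence.epi_homologyMap_mor₁_iff _ hT j).2
        ((DerivedCategory.isZero_of_isGE ((t.truncGE (a + n)).obj K) (a + n) j (by omega)).eq_of_tgt _ _)
    haveI : Mono ((DerivedCategory.homologyFunctor (ModuleCat.{u} R) j).map (i n)) :=
      (DerivedCategory.HomologySequence.mono_homologyMap_mor₁_iff _ hT (j - 1) j (by omega)).2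
        ((DerivedCategory.isZero_of_isGE ((t.truncGE (a + n)).obj K) (a + n) (j - 1) (by omega)).eq_of_src _ _)
    exact isIso_of_mono_of_epi _
  obtain ⟨L, p, c, hT⟩ := distinguished_cocone_triangle (𝟙 (∐ E) - DerLim.shiftMap E f)
  let ι' : ∀ n, E n ⟶ L := fun n => Sigma.ι E n ≫ p
  have hp : Sigma.desc ι' = p := Sigma.hom_ext _ _ fun n => by simp [ι']
  have hL : DerLim.IsHocolim E f L ι' := ⟨c, by rw [hp]; exact hT⟩
  obtain ⟨φ, hφ⟩ := Triangle.yoneda_exact₂ _ hT (Sigma.desc i) (by
    refine Sigma.hom_ext _ _ fun n => ?_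
    simp [DerLim.shiftMap, Preadditive.sub_comp, Preadditive.comp_sub, hfi, sub_eq_zero])
  replace hφ : Sigma.desc i = p ≫ φ := hφ
  haveI : IsIso φ := by
    rw [DerivedCategory.isIso_iff]
    intro j
    let H := DerivedCategory.homologyFunctor (ModuleCat.{u} R) j
    haveI : PreservesColimitsOfShape (Discrete ℕ) H :=
      haveI := DQCoh.preservesCoproducts_homologyFunctor (A := ModuleCat.{u} R) (ULift.{u} ℕ) j
      preservesColimitsOfShape_of_equiv (Discrete.equivalence Equiv.ulift : Discrete (ULift.{u} ℕ) ≌ Discrete ℕ) _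
    obtain ⟨e, he⟩ := DCat.homological_hocolim DCat.seqMono_of_exact H E f L ι' hL
    let Gs := Functor.ofSequence (fun n => H.map (f n))
    let cc : Cocone Gs :=
      { pt := H.obj K
        ι := NatTrans.ofSequence (fun n => H.map (i n)) fun n => by
          rw [Functor.ofSequence_map_homOfLE_succ]
          simpa using (H.map_comp (f n) (i (n + 1))).symm.trans (congrArg H.map (hfi n)) }
    have hd : e.hom ≫ H.map φ = colimit.desc Gs cc := colimit.hom_ext fun n => by
      rw [reassoc_of% (he n), colimit.ι_desc, ← H.map_comp]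
      refine congrArg H.map ?_
      rw [show ι' n = Sigma.ι E n ≫ p from rfl, Category.assoc, ← hφ, Sigma.ι_desc]
    haveI := DQCoh.PerfApprox.isIso_desc_of_eventually Gs cc (j - a + 2).toNat fun n hn => hiso n j (by omega)
    exact IsIso.of_isIso_fac_left hd
  have hsumE : IsoShifts τ (∐ E) := fun m => by
    let c₁ : Cofan (fun n : ULift.{u} ℕ => E n.down) :=
      Cofan.mk (∐ E) fun n => Sigma.ι E n.down
    have hc₁ : IsColimit c₁ := mkCofanColimit _ (fun s => Sigma.desc fun n => s.inj ⟨n⟩)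
      (fun s n => by simp [c₁])
      fun s m hm => Sigma.hom_ext _ _ fun n => (hm ⟨n⟩).trans (Sigma.ι_desc (fun n => s.inj ⟨n⟩) n).symm
    let c₂ : Cofan (fun n : ULift.{u} ℕ => (E n.down)⟦m⟧) := Cofan.mk ((∐ E)⟦m⟧) fun n => (c₁.inj n)⟦m⟧'
    have hc₂ : IsColimit c₂ := (Cofan.isColimitMapCoconeEquiv _ _ _).1 (isColimitOfPreserves (shiftFunctor _ m) hc₁)
    obtain ⟨⟨cF⟩, ⟨cG⟩⟩ := hsum _ _ (a - m) (fun n => by
      haveI : (E n.down).IsGE a := inferInstanceAs (t.IsGE ((t.truncLT (a + (n.down : ℤ))).obj K) a)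
      exact t.isGE_shift _ a m (a - m) (by omega)) c₂ hc₂
    refine isIso_app_of_isColimit τ c₂ cF cG fun n => ?_
    exact isoShifts_bounded hF hG τ hR hsum B hB n.down (E n.down) a
      (inferInstanceAs (t.IsGE ((t.truncLT (a + (n.down : ℤ))).obj K) a))
      (t.isLE_truncLT_obj K (a + (n.down : ℤ)) (a + (n.down : ℤ) - 1) (by omega)) m
  exact (IsoShifts.of_iso (asIso φ) (IsoShifts.cone hF hG hT hsumE hsumE)).app

end Groth.Agent.Dual6Lib.WayOut
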