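import Groth.Agent.Dual6Lib.PsBdd
import Groth.Agent.Dual6Lib.ThetaMap
import Groth.Agent.Dual6Lib.WayOut
import Groth.Agent.Dual6Lib.RelRigid
import Groth.Agent.DualLib.EndPerfectGlobal
import Groth.Agent.DualLib.SerreTop
import Groth.Agent.Dual22Lib.PullTensorNat
import Groth.Agent.DQCoh.RHomQCoh
import Groth.Agent.DualLib.ShriekPieces

/-!
# `f^! = Lf^*(-) ⊗^L f^! O` on `D^+_QCoh` for perfect `f`
-/

set_option autoImplicit false
set_option backward.isDefEq.respectTransparency false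
set_option backward.defeqAttrib.useBackward true
set_option linter.style.haveILetI false
set_option linter.unusedSectionVars false
set_option synthInstance.maxHeartbeats 100000

universe u

open CategoryTheory CategoryTheory.Limits CategoryTheory.Pretriangulated AlgebraicGeometry HomologicalComplex
open Groth.Agent.DCat Groth.Agent.DCat.PerfLocal Groth.Agent.DCat.ProjPerf Groth.Agent.DualLib
open Groth.Agent.Dual22Lib Groth.Agent.Dual22Lib.WeakExact Groth.Agent.Dual22Lib.AdjGeom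

attribute [local instance] HasDerivedCategory.standard
attribute [-instance] Int.instConditionallyCompleteLinearOrder

namespace Groth.Agent.Dual6Lib.PerfShriek

variable {X Y : Scheme.{u}}

local instance hasCoproductsD (S : Scheme.{u}) : HasCoproducts.{u} (DCoh.D S) := fun J =>
  hasCoproductsOfShape_derived enoughKInj_of_isGrothendieckAbelian J

/-- Restriction to an open is derived pullback, naturally. -/
theorem nonempty_rd_Lpull_natIso (j : X ⟶ Y) [IsOpenImmersion j] [DCoh.HasLpull j] :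
    Nonempty (rd j ≅ DCoh.Lpull j) := by
  obtain ⟨β⟩ := BCShriekAffine.nonempty_Lpull_Gd j
  haveI := PullPerf.preservesFiniteLimits_restrict j
  haveI : PreservesFiniteColimits (Scheme.Modules.restrictFunctor j) :=
    preservesFiniteColimits_of_natIso (Scheme.Modules.restrictFunctorIsoPullback j).symm
  obtain ⟨e⟩ := ShriekNat.nonempty_mapD_comp (𝟭 Y.Modules) (Scheme.Modules.pullback j)
    (Scheme.Modules.restrictFunctor j) (Scheme.Modules.restrictFunctorIsoPullback j ≪≫ (Functor.leftUnitor _).symm)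
  obtain ⟨i⟩ := ShriekNat.nonempty_mapD_id (𝟭 Y.Modules) (Iso.refl _)
  exact ⟨e ≪≫ Functor.isoWhiskerRight i _ ≪≫ Functor.leftUnitor _ ≪≫ β.symm⟩

/-- Derived pullback keeps upper bounds. -/
theorem isLE_Lpull (g : X ⟶ Y) [DCoh.HasLpull g] (K : DCoh.D Y) (b : ℤ) [K.IsLE b] : ((DCoh.Lpull g).obj K).IsLE b := by
  obtain ⟨C, hC, ⟨eC⟩⟩ := DerivedCategory.exists_iso_Q_obj_of_isLE K b
  obtain ⟨N, q, hNk, -, hq, hN⟩ := exists_kflat_sheaf_le C b fun n hn => CochainComplex.isZero_of_isStrictlyLE C b n hn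
  haveI := hq
  haveI : ((pullC g).obj N).IsStrictlyLE b := (CochainComplex.isStrictlyLE_iff _ _).2 fun n hn =>
    (Scheme.Modules.pullback g).map_isZero (hN n hn)
  exact DerivedCategory.TStructure.t.isLE_of_iso
    (((DCoh.Lpull g).mapIso (eC ≪≫ (asIso (DerivedCategory.Q.map q)).symm) ≪≫ PullPerf.lpullIso g hNk).symm) b

/-- The upper bound of `f^!` for a presentation with a finite resolution is uniform. -/
theorem exists_uniform_bound {R A : Type u} [CommRing R] [IsNoetherianRing R] [CommRing A] [IsNoetherianRing A]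
    [Algebra R A] {n : ℕ} (ψ : MvPolynomial (Fin n) R →ₐ[R] A) (hψ : Function.Surjective ψ)
    [DRing.HasLBaseChange (algebraMap R (MvPolynomial (Fin n) R))]
    {Rψ : Dual.D (MvPolynomial (Fin n) R) ⥤ Dual.D A} (adj : DRing.restrictD ψ.toRingHom ⊣ Rψ)
    (hp : FlatMorPerfect.RingPerf (algebraMap R A)) :
    ∃ s : ℤ, ∀ (K : Dual.D R) (b : ℤ), K.IsLE b →
      ∀ i : ℤ, b + s < i → Subsingleton (Dual.HD A (Dual2.shriekVia n Rψ K) i) := by
  let P := MvPolynomial (Fin n) R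
  obtain ⟨m, F, π, h⟩ := EndPerfect.exists_res ψ hψ hp
  haveI := h.kproj
  haveI := h.qis
  haveI := preservesFiniteLimits_flat (A := R) (B := P)
  haveI := preservesFiniteColimits_ext (A := R) (B := P)
  refine ⟨(m : ℤ) - n, fun K b hb i hi => ?_⟩
  haveI := hb
  obtain ⟨e⟩ := nonempty_LBaseChange_iso (RingHom.flat_algebraMap_iff.2 (inferInstance : Module.Flat R P)) K
  let L := (DRing.LBaseChange (algebraMap R P)).obj K
  haveI : L.IsLE b := by
    refine (DerivedCategory.isLE_iff _ _).2 fun i hi => ?_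
    obtain ⟨η⟩ := DQCoh.nonempty_homology_natIso (ModuleCat.extendScalars.{u, u, u} (algebraMap R P)) i
    exact ((ModuleCat.extendScalars.{u, u, u} (algebraMap R P)).map_isZero
      (DerivedCategory.isZero_of_isLE K b i hi)).of_iso
      ((DerivedCategory.homologyFunctor _ i).mapIso e ≪≫ η.app K)
  obtain ⟨M, _, ⟨eM⟩⟩ := DerivedCategory.exists_iso_Q_obj_of_isLE L b
  obtain ⟨v⟩ := Shriek.nonempty_restrict_value adj π M
  have hz : ∀ j : ℤ, b + m < j → Subsingleton (CochainComplex.HomComplex.Cochain F M j) := fun j hj =>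
    ⟨fun z w => CochainComplex.HomComplex.Cochain.ext _ _ fun p q hpq => by
      by_cases hp : p < -(m : ℤ)
      · exact (h.van p (Or.inl hp)).eq_of_src _ _
      · exact (CochainComplex.isZero_of_isStrictlyLE M b q (by omega)).eq_of_tgt _ _⟩
  have h0 : IsZero ((DerivedCategory.homologyFunctor (ModuleCat.{u} P) ((n : ℤ) + i)).obj
      (DerivedCategory.Q.obj (DRing.homCx F M))) := by
    haveI := hz ((n : ℤ) + i) (by omega)
    exact (ShortComplex.exact_iff_isZero_homology _).1 (ShortComplex.exact_of_isZero_X₂ _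
      (ModuleCat.isZero_of_subsingleton (ModuleCat.of P (CochainComplex.HomComplex.Cochain F M ((n : ℤ) + i))))) |>.of_iso
      ((DerivedCategory.homologyFunctorFactors _ _).app (DRing.homCx F M))
  haveI : Subsingleton (Dual.HD A (Rψ.obj L) ((n : ℤ) + i)) := by
    haveI := ModuleCat.subsingleton_of_isZero (h0.of_iso ((DerivedCategory.homologyFunctor _ _).mapIso
      ((DRing.restrictD ψ.toRingHom).mapIso (Rψ.mapIso eM) ≪≫ v)))
    exact (DRingLib.hfRestrictIso ψ.toRingHom (Rψ.obj L) ((n : ℤ) + i)).symm.toLinearEquiv.injective.subsingleton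
  haveI : Subsingleton ↑(((DerivedCategory.homologyFunctor (ModuleCat.{u} A) 0).shift ((n : ℤ) + i)).obj (Rψ.obj L)) :=
    ‹Subsingleton (Dual.HD A (Rψ.obj L) ((n : ℤ) + i))›
  exact (((DerivedCategory.homologyFunctor (ModuleCat.{u} A) 0).shiftIso (n : ℤ) i ((n : ℤ) + i) rfl).app (Rψ.obj L)
    ).toLinearEquiv.injective.subsingleton

section Local

variable [∀ (U V : Scheme.{u}) (j : U ⟶ V) [IsOpenImmersion j], PreservesFiniteLimits (Scheme.Modules.restrictFunctor j)]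
  [∀ (S : CommRingCat.{u}), PreservesFiniteLimits (tilde.functor S)]
  [IsNoetherian Y] {f : X ⟶ Y} [LocallyOfFiniteType f] (c : DEt.Compactification f)
  [DCoh.HasRpush c.fbar] (hc : DCoh.RpushPreservesQCoh c.fbar) (a : DCoh.DQCoh Y ⥤ DCoh.DQCoh c.Xbar)
  (adj : DCoh.RpushQ c.fbar hc ⊣ a) (hf : MoreMor.IsPerfectMor f) [DCoh.HasLpull c.fbar]
  (O : DCoh.DQCoh Y) (eO : O.obj ≅ DCoh.inD Y (Coh.structureModule Y))
  (I : CochainComplex c.Xbar.Modules ℤ) [DCoh.HasLTensorCx I] (hIq : DCoh.IsQCohD (DerivedCategory.Q.obj I))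
  (eI : DerivedCategory.Q.obj I ≅ (a.obj O).obj)
  (θ : ThetaMap.tensF c.fbar I hIq ⟶ a)
  (hθ : ∀ (K : DCoh.DQCoh Y) (k : ℤ),
      (DerivedCategory.Q.obj ((single Y.Modules (ComplexShape.up ℤ) k).obj (Coh.structureModule Y)) ≅ K.obj) →
      IsIso (θ.app K))

include adj hf eO eI hθ in
/-- The comparison is invertible on affine pieces of `X`. -/
theorem isIso_chart (T : Y.affineOpens) (U : X.affineOpens) (h : U.1 ≤ f ⁻¹ᵁ T.1) (K : DCoh.DQCoh Y) (cK : ℤ)
    [K.obj.IsGE cK] : IsIso ((rd (U.2.fromSpec ≫ c.j)).map (θ.app K).hom) := by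
  haveI : IsLocallyNoetherian c.Xbar := LocallyOfFiniteType.isLocallyNoetherian c.fbar
  haveI : CompactSpace c.Xbar := QuasiCompact.compactSpace_of_compactSpace c.fbar
  haveI : IsNoetherian c.Xbar := { }
  haveI : IsLocallyNoetherian X := LocallyOfFiniteType.isLocallyNoetherian f
  haveI : IsNoetherianRing Γ(Y, T.1) := IsLocallyNoetherian.component_noetherian T
  haveI : IsNoetherianRing Γ(X, U.1) := IsLocallyNoetherian.component_noetherian U
  let R : CommRingCat.{u} := CommRingCat.of Γ(Y, T.1)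
  let jT : Spec R ⟶ Y := T.2.fromSpec
  haveI : IsOpenImmersion jT := inferInstanceAs (IsOpenImmersion T.2.fromSpec)
  haveI : QuasiCompact jT := quasiCompact_of_compactSpace jT
  haveI := hasRpush jT
  obtain ⟨_, _⟩ := DCat.exists_commShift_Rpush jT
  obtain ⟨aj, haj⟩ := exists_adj jT
  haveI := haj
  let j₀ : Spec (CommRingCat.of Γ(X, U.1)) ⟶ c.Xbar := U.2.fromSpec ≫ c.j
  haveI : IsOpenImmersion j₀ := inferInstanceAs (IsOpenImmersion (U.2.fromSpec ≫ c.j))
  have hj₀ : j₀.opensRange ≤ (c.fbar ⁻¹ᵁ T.1).ι.opensRange := by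
    rw [Scheme.Opens.opensRange_ι]
    rintro _ ⟨z, rfl⟩
    show c.fbar (c.j (U.2.fromSpec z)) ∈ T.1
    rw [← Scheme.Hom.comp_apply, c.fac]
    exact h (U.2.range_fromSpec.le ⟨z, rfl⟩)
  -- the two functors
  let Gf := ThetaMap.tensF c.fbar I hIq
  let FG : DCoh.DQCoh Y ⥤ DCoh.D (Spec (CommRingCat.of Γ(X, U.1))) := (Gf ⋙ ObjectProperty.ι _) ⋙ rd j₀
  let Fa : DCoh.DQCoh Y ⥤ DCoh.D (Spec (CommRingCat.of Γ(X, U.1))) := (a ⋙ ObjectProperty.ι _) ⋙ rd j₀
  let θU : FG ⟶ Fa := Functor.whiskerRight (Functor.whiskerRight θ (ObjectProperty.ι _)) (rd j₀)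
  obtain ⟨_, _⟩ := DCat.exists_commShift_Rpush c.fbar
  have hFG : TriExact FG := ((RightAdjTensor.triExact_ι Y).comp
    ((TenLocal.triExact_Lpull c.fbar).comp (TenLocal.triExact_LTensor I))).comp (TenLocal.triExact_rd j₀)
  have ha : TriExact (a ⋙ ObjectProperty.ι _) := by
    letI : (DCoh.RpushQ c.fbar hc).CommShift ℤ :=
      inferInstanceAs ((ObjectProperty.lift (qcD Y) (ObjectProperty.ι (qcD c.Xbar) ⋙ DCoh.Rpush c.fbar)
        (fun K => hc K.obj K.property)).CommShift ℤ)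
    haveI : (DCoh.RpushQ c.fbar hc).IsTriangulated :=
      inferInstanceAs ((ObjectProperty.lift (qcD Y) (ObjectProperty.ι (qcD c.Xbar) ⋙ DCoh.Rpush c.fbar)
        (fun K => hc K.obj K.property)).IsTriangulated)
    letI : a.CommShift ℤ := adj.rightAdjointCommShift ℤ
    haveI : adj.CommShift ℤ := adj.commShift_of_leftAdjoint ℤ
    haveI : a.IsTriangulated := adj.isTriangulated_rightAdjoint
    exact (triExact_of_isTriangulated a).comp (RightAdjTensor.triExact_ι c.Xbar)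
  have hFa : TriExact Fa := ha.comp (TenLocal.triExact_rd j₀)
  have kG : ∀ C : DCoh.DQCoh Y, killed T.1.ι C.obj → IsZero (FG.obj C) := fun C hC => by
    haveI := hasLpull (c.fbar ∣_ T.1)
    obtain ⟨e⟩ := TenLocal.nonempty_rd_Lpull c.fbar T.1 C.obj
    exact killed_mono (c.fbar ⁻¹ᵁ T.1).ι j₀ hj₀ (TenLocal.isZero_rd_LTensor (c.fbar ⁻¹ᵁ T.1).ι I
      (((TenLocal.triExact_Lpull (c.fbar ∣_ T.1)).map_isZero hC).of_iso e))
  have ka : ∀ (C : DCoh.DQCoh Y) (d : ℤ), C.obj.IsGE d → killed T.1.ι C.obj → IsZero (Fa.obj C) := fun C d hd hC => by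
    haveI := hd
    exact killed_mono (c.fbar ⁻¹ᵁ T.1).ι j₀ hj₀ (SupportAdj.killed_rep c.fbar T.1 C.obj d C.property hC (a.obj C).obj
      (adj.counit.app C).hom (a.obj C).property fun K hK => SupportAdj.rep_counit c.fbar hc a adj C K hK)
  have hmove : ∀ {A B : DCoh.DQCoh Y} (g : A ⟶ B) (d : ℤ), A.obj.IsGE d → B.obj.IsGE d →
      IsIso ((rd T.1.ι).map g.hom) → (IsIso (θU.app A) ↔ IsIso (θU.app B)) := fun {A B} g d hA hB hg => by
    haveI := hg
    haveI := PullPerf.preservesFiniteLimits_restrict T.1.ι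
    obtain ⟨C, u, v, hT⟩ := distinguished_cocone_triangle g
    obtain ⟨δ, hδ⟩ := ((RightAdjTensor.triExact_ι Y).comp (TenLocal.triExact_rd T.1.ι)) _ hT
    have hk : killed T.1.ι C.obj := (Triangle.isZero₃_iff_isIso₁ _ hδ).2 ‹_›
    obtain ⟨δ₀, hδ₀⟩ := RightAdjTensor.triExact_ι Y _ hT
    have hC : C.obj.IsGE (d - 1) := by
      let t : Triangulated.TStructure (DCoh.D Y) := DerivedCategory.TStructure.t
      haveI : t.IsGE A.obj d := hA
      haveI : t.IsGE B.obj d := hB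
      exact t.isGE₂ _ (rot_of_distTriang _ hδ₀) (d - 1) (t.isGE_of_ge B.obj (d - 1) d (by omega))
        (t.isGE_shift A.obj d 1 (d - 1) (by omega))
    obtain ⟨δ₁, hδ₁⟩ := hFG _ hT
    haveI : IsIso (FG.map g) := (Triangle.isZero₃_iff_isIso₁ _ hδ₁).1 (kG C hk)
    obtain ⟨δ₂, hδ₂⟩ := hFa _ hT
    haveI : IsIso (Fa.map g) := (Triangle.isZero₃_iff_isIso₁ _ hδ₂).1 (ka C (d - 1) hC hk)
    constructor <;> intro hh
    · haveI := hh
      exact IsIso.of_isIso_fac_left (θU.naturality g)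
    · haveI := hh
      exact IsIso.of_isIso_fac_right (θU.naturality g).symm
  -- modules over the base chart
  let Tl := DCoh.tildeD R
  have hqT : ∀ M : Dual.D Γ(Y, T.1), DCoh.IsQCohD ((DCoh.Rpush jT).obj (Tl.obj M)) := fun M =>
    DQCoh.isQCohD_Rpush jT _ (((DQCoh.tildeD_main R).2.2 _).2 ⟨M, ⟨Iso.refl _⟩⟩)
  have hqt : ∀ M : Dual.D Γ(Y, T.1), DCoh.IsQCohD (Tl.obj M) := fun M =>
    ((DQCoh.tildeD_main R).2.2 _).2 ⟨M, ⟨Iso.refl _⟩⟩
  let Φ : Dual.D Γ(Y, T.1) ⥤ DCoh.DQCoh Y := ObjectProperty.lift DCoh.IsQCohD (Tl ⋙ DCoh.Rpush jT) hqT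
  have hΦ : TriExact Φ := fun T' hT' => by
    obtain ⟨δ, hδ⟩ := ((triExact_of_isTriangulated Tl).comp (TenLocal.triExact_Rpush jT)) _ hT'
    obtain ⟨g₁, g₂, g₃, h₁, h₂, hg⟩ := RightAdjTensor.exists_lift_triangle hδ (hqT _) (hqT _) (hqT _)
    have e₁ : g₁ = Φ.map T'.mor₁ := ObjectProperty.hom_ext _ h₁
    have e₂ : g₂ = Φ.map T'.mor₂ := ObjectProperty.hom_ext _ h₂
    exact ⟨g₃, e₁ ▸ e₂ ▸ hg⟩
  have hΦge : ∀ (M : Dual.D Γ(Y, T.1)) (d : ℤ), M.IsGE d → (Φ.obj M).obj.IsGE d := fun M d hd => by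
    haveI := hd
    haveI := SerreTop.isGE_tildeD (A := Γ(Y, T.1)) M d
    exact RepLib.isGE_Rpush jT (Tl.obj M) d
  let F₁ := Φ ⋙ FG
  let F₂ := Φ ⋙ Fa
  let τ : F₁ ⟶ F₂ := Functor.whiskerLeft Φ θU
  -- the structure sheaf
  obtain ⟨eR⟩ := ShriekPieces.nonempty_structure_restrict eO T
  haveI : (DCoh.inD Y (Coh.structureModule Y)).IsGE 0 :=
    (inferInstance : ((DerivedCategory.singleFunctor Y.Modules 0).obj (Coh.structureModule Y)).IsGE 0)
  haveI hO0 : O.obj.IsGE 0 := DerivedCategory.TStructure.t.isGE_of_iso eO.symm 0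
  have hR : ∀ n : ℤ, IsIso (τ.app ((WayOut.sgl (ModuleCat.of Γ(Y, T.1) Γ(Y, T.1)))⟦n⟧)) := fun n => by
    let O' : DCoh.DQCoh Y := ⟨(DCoh.Rpush jT).obj ((rd jT).obj O.obj),
      DQCoh.isQCohD_Rpush jT _ (AdjGeom.isQCohD_restrictD jT O.property)⟩
    let η : O ⟶ O' := ObjectProperty.homMk (aj.unit.app O.obj)
    haveI : IsIso ((rd jT).map (aj.unit.app O.obj)) :=
      BCSquare.isIso_of_comp_eq_id (aj.left_triangle_components O.obj)
    haveI : IsIso ((rd jT).map η.hom) := ‹IsIso ((rd jT).map (aj.unit.app O.obj))›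
    haveI hη : IsIso ((rd T.1.ι).map η.hom) :=
      TenLocal.isIso_rd_of_isIso_rd jT T.2.isoSpec.hom T.1.ι T.2.isoSpec_hom_fromSpec _
    haveI : IsIso (θ.app (O⟦n⟧)) := hθ _ (-n)
      (DerivedCategory.Q.mapIso (((CochainComplex.singleFunctors Y.Modules).shiftIso n (-n) 0 (by omega)).app _).symm ≪≫
        (DerivedCategory.Q.commShiftIso n).app _ ≪≫ (shiftFunctor _ n).mapIso
          (((DerivedCategory.singleFunctorIsoCompQ Y.Modules 0).app (Coh.structureModule Y)).symm ≪≫ eO.symm) ≪≫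
        (((ObjectProperty.ι (qcD Y)).commShiftIso n).app O).symm)
    have hO : IsIso (θU.app (O⟦n⟧)) :=
      inferInstanceAs (IsIso ((rd j₀).map ((ObjectProperty.ι _).map (θ.app (O⟦n⟧)))))
    have hge : ∀ K₀ : DCoh.DQCoh Y, K₀.obj.IsGE 0 → (K₀⟦n⟧).obj.IsGE (-n) := fun K₀ h0 => by
      haveI := h0
      haveI : DerivedCategory.TStructure.t.IsGE ((ObjectProperty.ι (qcD Y) ⋙ shiftFunctor (DCoh.D Y) n).obj K₀) (-n) :=
        DerivedCategory.TStructure.t.isGE_shift K₀.obj 0 n (-n) (by omega)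
      exact DerivedCategory.TStructure.t.isGE_of_iso (((ObjectProperty.ι (qcD Y)).commShiftIso n).app K₀).symm (-n)
    have hO'0 : O'.obj.IsGE 0 := by
      haveI := CohTors.isGE_restrictD jT 0 hO0
      exact RepLib.isGE_Rpush jT _ 0
    have hs : IsIso ((rd T.1.ι).map (η⟦n⟧').hom) := by
      haveI : IsIso ((ObjectProperty.ι (qcD Y) ⋙ rd T.1.ι).map η) := hη
      exact (NatIso.isIso_map_iff ((ObjectProperty.ι (qcD Y) ⋙ rd T.1.ι).commShiftIso n) η).2
        (show IsIso (((ObjectProperty.ι (qcD Y) ⋙ rd T.1.ι).map η)⟦n⟧') from inferInstance)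
    have h1 := (hmove (η⟦n⟧') (-n) (hge O hO0) (hge O' hO'0) hs).1 hO
    let i₁ : O'⟦n⟧ ≅ Φ.obj ((WayOut.sgl (ModuleCat.of Γ(Y, T.1) Γ(Y, T.1)))⟦n⟧) :=
      (RightAdjTensor.shiftObjIso O' n (DQCoh.isQCohD_shift O'.property n)).symm ≪≫
        (ObjectProperty.fullyFaithfulι (qcD Y)).preimageIso
          ((shiftFunctor (DCoh.D Y) n).mapIso ((DCoh.Rpush jT).mapIso eR) ≪≫
            (((Tl ⋙ DCoh.Rpush jT).commShiftIso n).app _).symm)
    exact (NatTrans.isIso_app_iff_of_iso θU i₁).1 h1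
  -- sums
  have hsum : ∀ (κ : Type u) (Z : κ → Dual.D Γ(Y, T.1)) (d : ℤ), (∀ k, (Z k).IsGE d) → ∀ (cz : Cofan Z),
      IsColimit cz → Nonempty (IsColimit (F₁.mapCocone cz)) ∧ Nonempty (IsColimit (F₂.mapCocone cz)) := by
    intro κ Z d hZ cz hcz
    haveI : PreservesColimitsOfShape (Discrete κ) Tl := by
      haveI : PreservesColimitsOfShape (Discrete κ) ((tilde.functor R).mapHomologicalComplex (ComplexShape.up ℤ)) :=
        haveI := (tilde.adjunction (R := R)).leftAdjoint_preservesColimits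
        inferInstance
      haveI := DCat.RHomExist.preservesCoproducts_Q (A := (Spec R).Modules) κ
      haveI : PreservesColimitsOfShape (Discrete κ) (DerivedCategory.Q ⋙ Tl) :=
        preservesColimitsOfShape_of_natIso (tilde.functor R).mapDerivedCategoryFactors.symm
      exact DCat.RHomExist.preservesCoproducts_of_fac Tl κ
    have hT₁ : IsColimit (Cofan.mk (Tl.obj cz.pt) fun k => Tl.map (cz.inj k)) :=
      (Cofan.isColimitMapCoconeEquiv _ _ _).1 (isColimitOfPreserves Tl hcz)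
    haveI := TenLocal.preservesColimit_Rpush jT (fun k => Tl.obj (Z k)) fun k => hqt (Z k)
    let Z' : κ → DCoh.DQCoh Y := fun k => Φ.obj (Z k)
    let c₁ : Cofan Z' := Cofan.mk (Φ.obj cz.pt) fun k => Φ.map (cz.inj k)
    have hc₁ : IsColimit c₁ := isColimitOfReflects (ObjectProperty.ι _)
      ((Cofan.isColimitMapCoconeEquiv (ObjectProperty.ι _) _ _).symm
        ((Cofan.isColimitMapCoconeEquiv (DCoh.Rpush jT) _ _).1 (isColimitOfPreserves (DCoh.Rpush jT) hT₁)))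
    let cs : Cofan Z' := Cofan.mk (SumAdj.qsum Z') (SumAdj.qinj Z')
    let u : c₁ ≅ cs := hc₁.uniqueUpToIso (SumAdj.qsumIsColimit Z')
    haveI := TenLocal.preservesCoproducts_rd j₀ κ
    haveI := TenLocal.preservesCoproducts_Lpull c.fbar κ
    haveI := TenLocal.preservesCoproducts_LTensor I κ
    have g₁ : IsColimit (FG.mapCocone cs) := (Cofan.isColimitMapCoconeEquiv FG _ _).symm
      ((Cofan.isColimitMapCoconeEquiv (DCoh.Lpull c.fbar ⋙ DCoh.LTensorCx I ⋙ rd j₀) _ _).1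
        (isColimitOfPreserves (DCoh.Lpull c.fbar ⋙ DCoh.LTensorCx I ⋙ rd j₀)
          (coproductIsCoproduct fun k => (Z' k).obj)))
    haveI hps := PsBdd.isIso_sum_proper c.fbar adj κ Z' d fun k => hΦge _ _ (hZ k)
    have hac : IsColimit (Cofan.mk ((a.obj (SumAdj.qsum Z')).obj) fun k => (a.map (SumAdj.qinj Z' k)).hom) :=
      IsColimit.ofIsoColimit (coproductIsCoproduct fun k => (a.obj (Z' k)).obj)
        (Cofan.ext (@asIso _ _ _ _ (Sigma.desc fun k => (a.map (SumAdj.qinj Z' k)).hom) hps) fun k => Sigma.ι_desc _ _)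
    have g₂ : IsColimit (Fa.mapCocone cs) := (Cofan.isColimitMapCoconeEquiv Fa _ _).symm
      ((Cofan.isColimitMapCoconeEquiv (rd j₀) _ _).1 (isColimitOfPreserves (rd j₀) hac))
    have t₁ := IsColimit.ofIsoColimit g₁ ((Cocones.functoriality (Discrete.functor Z') FG).mapIso u).symm
    have t₂ := IsColimit.ofIsoColimit g₂ ((Cocones.functoriality (Discrete.functor Z') Fa).mapIso u).symm
    exact ⟨⟨(Cofan.isColimitMapCoconeEquiv F₁ _ _).symm ((Cofan.isColimitMapCoconeEquiv FG _ _).1 t₁)⟩,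
      ⟨(Cofan.isColimitMapCoconeEquiv F₂ _ _).symm ((Cofan.isColimitMapCoconeEquiv Fa _ _).1 t₂)⟩⟩
  -- bounds
  obtain ⟨n₀, ψ, hψ, hcomp, hiso⟩ := EndShriek.exists_shriek_at c hc a adj O ⟨eO⟩ T U h
  haveI : DRing.HasLBaseChange (algebraMap Γ(Y, T.1) (MvPolynomial (Fin n₀) Γ(Y, T.1))) := DCat.hasLBaseChange _
  obtain ⟨Rψ, ⟨adjψ⟩⟩ := Shriek.exists_rightAdjoint ψ
  letI : Algebra Γ(Y, T.1) Γ(X, U.1) := (f.appLE T.1 U.1 h).hom.toAlgebra
  let ψ' : MvPolynomial (Fin n₀) Γ(Y, T.1) →ₐ[Γ(Y, T.1)] Γ(X, U.1) :=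
    { ψ with commutes' := fun r => RingHom.congr_fun hcomp r }
  obtain ⟨s, hs⟩ := exists_uniform_bound ψ' hψ adjψ (EndPerfect.ringPerf_appLE hf T U h)
  haveI := SerreTop.preservesFiniteColimits_tilde (CommRingCat.of Γ(X, U.1))
  have hsle : ∀ (K₀ : Dual.D Γ(Y, T.1)) (b : ℤ), K₀.IsLE b →
      ((DCoh.tildeD (CommRingCat.of Γ(X, U.1))).obj (Dual2.shriekVia n₀ Rψ K₀)).IsLE (b + s) := fun K₀ b hb =>
    (DerivedCategory.isLE_iff _ _).2 fun i hi => by
      obtain ⟨η⟩ := DQCoh.nonempty_homology_natIso (tilde.functor (CommRingCat.of Γ(X, U.1))) i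
      haveI : Subsingleton ↑((DerivedCategory.homologyFunctor (ModuleCat.{u} Γ(X, U.1)) i).obj
        (Dual2.shriekVia n₀ Rψ K₀)) := hs K₀ b hb i hi
      exact ((tilde.functor (CommRingCat.of Γ(X, U.1))).map_isZero (ModuleCat.isZero_of_subsingleton _)).of_iso
        (η.app _)
  obtain ⟨Nj, hNj⟩ := SupportAdj.exists_isLE_Rpush jT
  obtain ⟨M', hM', ⟨eM'⟩, hten⟩ := TenLocal.nonempty_rd_LTensor j₀ I
  obtain ⟨iO⟩ := hiso Rψ adjψ
  haveI : (DerivedCategory.Q.obj M').IsLE (0 + s) := by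
    haveI : (Dual.inD Γ(Y, T.1) Γ(Y, T.1)).IsLE 0 :=
      (inferInstance : ((DerivedCategory.singleFunctor (ModuleCat.{u} Γ(Y, T.1)) 0).obj _).IsLE 0)
    haveI := hsle (Dual.inD Γ(Y, T.1) Γ(Y, T.1)) 0 inferInstance
    obtain ⟨w⟩ := DCat.PerfLocal.rd_comp U.2.fromSpec c.j (a.obj O).obj
    exact DerivedCategory.TStructure.t.isLE_of_iso ((eM' ≪≫ (rd j₀).mapIso eI ≪≫ w ≪≫ iO).symm) (0 + s)
  obtain ⟨C₁, hC₁, ⟨eC₁⟩⟩ := DerivedCategory.exists_iso_Q_obj_of_isLE (DerivedCategory.Q.obj M') (0 + s)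
  obtain ⟨Nk, q, hNk, -, hq, hN⟩ := exists_kflat_sheaf_le C₁ (0 + s)
    fun n hn => CochainComplex.isZero_of_isStrictlyLE C₁ (0 + s) n hn
  haveI := hq
  haveI := hM'
  haveI := LTensorSheaf.hasLTensorCx Nk
  obtain ⟨cong⟩ := TensorCongr.nonempty_congr (E := M') (E' := Nk)
    (eC₁ ≪≫ (asIso (DerivedCategory.Q.map q)).symm)
  have hB : ∀ (M : ModuleCat.{u} Γ(Y, T.1)) (n i : ℤ), (|Nj| + |s|) < i + n →
      IsZero ((DerivedCategory.homologyFunctor _ i).obj (F₁.obj ((WayOut.sgl M)⟦n⟧))) ∧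
      IsZero ((DerivedCategory.homologyFunctor _ i).obj (F₂.obj ((WayOut.sgl M)⟦n⟧))) := by
    intro M n i hi
    have hj1 := le_abs_self Nj
    have hj2 := abs_nonneg Nj
    have hs1 := le_abs_self s
    let K₀ := (WayOut.sgl M)⟦n⟧
    haveI hK₀ : K₀.IsLE (-n) := DerivedCategory.TStructure.t.isLE_shift (WayOut.sgl M) 0 n (-n) (by omega)
    haveI : (Tl.obj K₀).IsLE (-n) := (DerivedCategory.isLE_iff _ _).2 fun k hk => by
      haveI := SerreTop.preservesFiniteColimits_tilde R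
      obtain ⟨η⟩ := DQCoh.nonempty_homology_natIso (tilde.functor R) k
      exact ((tilde.functor R).map_isZero (DerivedCategory.isZero_of_isLE K₀ (-n) k hk)).of_iso (η.app _)
    haveI : (Φ.obj K₀).obj.IsLE (-n + Nj) := hNj (Tl.obj K₀) (-n) (hqt K₀) inferInstance
    constructor
    · haveI := isLE_Lpull c.fbar (Φ.obj K₀).obj (-n + Nj)
      let L := (DCoh.Lpull c.fbar).obj (Φ.obj K₀).obj
      haveI : ((rd j₀).obj L).IsLE (-n + Nj) := (DerivedCategory.isLE_iff _ _).2 fun k hk =>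
        ((Scheme.Modules.restrictFunctor j₀).map_isZero (DerivedCategory.isZero_of_isLE L (-n + Nj) k hk)).of_iso
          (SuppOpen.hdMapIso (Scheme.Modules.restrictFunctor j₀) L k)
      haveI := DQCoh.isLE_LTensor Nk hNk (0 + s) hN ((rd j₀).obj L) (-n + Nj)
      obtain ⟨e⟩ := hten L
      exact (DerivedCategory.isZero_of_isLE ((DCoh.LTensorCx Nk).obj ((rd j₀).obj L)) (-n + Nj + (0 + s)) i
        (by omega)).of_iso ((DerivedCategory.homologyFunctor _ i).mapIso (e ≪≫ cong.app _))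
    · haveI : ((WayOut.sgl M)⟦n⟧).IsGE (-n) :=
        DerivedCategory.TStructure.t.isGE_shift (WayOut.sgl M) 0 n (-n) (by omega)
      haveI := hΦge K₀ (-n) inferInstance
      obtain ⟨e⟩ := ShriekPieces.nonempty_piece c hc a adj (Φ.obj K₀) (-n) T U h K₀
        (asIso (aj.counit.app (Tl.obj K₀))) ψ hψ hcomp Rψ adjψ
      obtain ⟨w⟩ := DCat.PerfLocal.rd_comp U.2.fromSpec c.j (a.obj (Φ.obj K₀)).obj
      haveI := hsle K₀ (-n) hK₀
      exact (DerivedCategory.isZero_of_isLE ((DCoh.tildeD (CommRingCat.of Γ(X, U.1))).obj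
        (Dual2.shriekVia n₀ Rψ K₀)) (-n + s) i (by omega)).of_iso
        ((DerivedCategory.homologyFunctor _ i).mapIso (w ≪≫ e))
  have hgood : ∀ (M : Dual.D Γ(Y, T.1)) (d : ℤ), M.IsGE d → IsIso (τ.app M) := fun M d hd => by
    haveI := hd
    exact WayOut.isIso_app (hΦ.comp hFG) (hΦ.comp hFa) τ hR hsum (|Nj| + |s|) hB M d
  -- a general object
  obtain ⟨-, -, hess⟩ := DQCoh.tildeD_main R
  obtain ⟨M, ⟨eM⟩⟩ := (hess ((rd jT).obj K.obj)).1 (AdjGeom.isQCohD_restrictD jT K.property)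
  haveI := CohTors.isGE_restrictD jT cK (inferInstance : K.obj.IsGE cK)
  haveI : (Tl.obj M).IsGE cK :=
    DerivedCategory.TStructure.t.isGE_of_iso (show (rd jT).obj K.obj ≅ Tl.obj M from eM.symm) cK
  have hMge : M.IsGE cK := SerreTop.isGE_of_tilde Γ(Y, T.1) cK
  let KV : DCoh.DQCoh Y := ⟨(DCoh.Rpush jT).obj ((rd jT).obj K.obj),
    DQCoh.isQCohD_Rpush jT _ (AdjGeom.isQCohD_restrictD jT K.property)⟩
  haveI : IsIso ((rd jT).map (aj.unit.app K.obj)) := BCSquare.isIso_of_comp_eq_id (aj.left_triangle_components K.obj)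
  have hu := TenLocal.isIso_rd_of_isIso_rd jT T.2.isoSpec.hom T.1.ι T.2.isoSpec_hom_fromSpec (aj.unit.app K.obj)
  have hKV : KV.obj.IsGE cK := RepLib.isGE_Rpush jT _ cK
  exact (hmove (B := KV) (ObjectProperty.homMk (aj.unit.app K.obj)) cK inferInstance hKV hu).2
    ((NatTrans.isIso_app_iff_of_iso θU
      ((ObjectProperty.fullyFaithfulι (qcD Y)).preimageIso (X := Φ.obj M) (Y := KV) ((DCoh.Rpush jT).mapIso eM))).1
      (hgood M cK hMge))

end Local

/-- **`f^! = Lf^*(-) ⊗^L f^! O` for perfect `f`.** -/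
theorem nonempty_iso [∀ (U V : Scheme.{u}) (j : U ⟶ V) [IsOpenImmersion j], PreservesFiniteLimits (Scheme.Modules.restrictFunctor j)]
    [IsNoetherian Y] {f : X ⟶ Y} [LocallyOfFiniteType f] (c : DEt.Compactification f)
    [DCoh.HasRpush c.fbar] (hc : DCoh.RpushPreservesQCoh c.fbar) (a : DCoh.DQCoh Y ⥤ DCoh.DQCoh c.Xbar)
    (adj : DCoh.RpushQ c.fbar hc ⊣ a) (hf : MoreMor.IsPerfectMor f)
    (O : DCoh.DQCoh Y) (hO : Nonempty (O.obj ≅ DCoh.inD Y (Coh.structureModule Y))) [DCoh.HasLpull f]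
    (E : CochainComplex X.Modules ℤ) (hE : Nonempty (DCoh.toD X E ≅ (Dual3.shriekC c a).obj O))
    [DCoh.HasLTensorCx E] :
    Nonempty (Dual3.bddι Y ⋙ Dual3.shriekC c a ≅
      Dual3.bddι Y ⋙ ObjectProperty.ι _ ⋙ DCoh.Lpull f ⋙ DCoh.LTensorCx E) := by
  obtain ⟨eO⟩ := hO
  obtain ⟨eE⟩ := hE
  haveI : ∀ (S : CommRingCat.{u}), PreservesFiniteLimits (tilde.functor S) :=
    Groth.Agent.AffSchLib.preservesFiniteLimits_tilde
  haveI : IsLocallyNoetherian c.Xbar := LocallyOfFiniteType.isLocallyNoetherian c.fbar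
  haveI : CompactSpace c.Xbar := QuasiCompact.compactSpace_of_compactSpace c.fbar
  haveI : IsNoetherian c.Xbar := { }
  haveI := hasLpull c.fbar
  haveI := hasLpull c.j
  haveI := hasLpull (c.j ≫ c.fbar)
  obtain ⟨I, s, hI, hs⟩ := modules_enoughKInj c.Xbar (DerivedCategory.Q.objPreimage (a.obj O).obj)
  haveI := hI
  haveI := hs
  let eI : DerivedCategory.Q.obj I ≅ (a.obj O).obj :=
    (asIso (DerivedCategory.Q.map s)).symm ≪≫ DerivedCategory.Q.objObjPreimageIso _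
  haveI := LTensorSheaf.hasLTensorCx I
  have hIq : DCoh.IsQCohD (DerivedCategory.Q.obj I) := DQCoh.isQCohD_of_iso eI.symm (a.obj O).property
  obtain ⟨θ, hθ⟩ := ThetaMap.exists_theta c.fbar adj O eO I hIq eI
  let θ' : Dual3.bddι Y ⋙ ThetaMap.tensF c.fbar I hIq ⋙ ObjectProperty.ι _ ⋙ rd c.j ⟶
      Dual3.bddι Y ⋙ Dual3.shriekC c a :=
    Functor.whiskerLeft (Dual3.bddι Y) (Functor.whiskerRight θ (ObjectProperty.ι _ ⋙ rd c.j))
  haveI : ∀ K, IsIso (θ'.app K) := fun K => by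
    obtain ⟨d, hd⟩ := K.property
    haveI : K.obj.obj.IsGE d := hd
    refine ProjPerf.isIso_of_locally _ fun x => ?_
    obtain ⟨U, ⟨hU, T, hUT⟩, hxU, -⟩ := EndShriek.exists_basis (f := f) x ⊤ trivial
    refine ⟨U, hxU, ?_⟩
    have h₁ := isIso_chart c hc a adj hf O eO I hIq eI θ hθ T ⟨U, hU⟩ hUT K.obj d
    haveI := PullPerf.preservesFiniteLimits_restrict hU.fromSpec
    obtain ⟨cc⟩ := ShriekNat.nonempty_mapD_comp (Scheme.Modules.restrictFunctor c.j)
      (Scheme.Modules.restrictFunctor hU.fromSpec) (Scheme.Modules.restrictFunctor (hU.fromSpec ≫ c.j))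
      (Scheme.Modules.restrictFunctorComp hU.fromSpec c.j)
    haveI : IsIso ((rd hU.fromSpec).map (θ'.app K)) :=
      (NatIso.isIso_map_iff cc (θ.app K.obj).hom).1 h₁
    exact TenLocal.isIso_rd_of_isIso_rd hU.fromSpec hU.isoSpec.hom U.ι hU.isoSpec_hom_fromSpec _
  haveI : IsIso θ' := NatIso.isIso_of_isIso_app _
  -- the source
  obtain ⟨N, q, hN, -, hq, -⟩ := exists_kflat_sheaf I
  haveI := hq
  haveI := LTensorSheaf.hasLTensorCx N
  obtain ⟨cN⟩ := TensorCongr.nonempty_congr (E := I) (E' := N) (asIso (DerivedCategory.Q.map q)).symm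
  haveI := LTensorSheaf.hasLTensorCx ((PullTensorNat.pullC c.j).obj N)
  obtain ⟨t⟩ := PullTensorNat.nonempty_natIso c.j hN
  obtain ⟨r⟩ := nonempty_rd_Lpull_natIso c.j
  obtain ⟨lc⟩ := DCat.nonempty_LpullComp c.j c.fbar
  let lf : DCoh.Lpull (c.j ≫ c.fbar) ≅ DCoh.Lpull f := eqToIso (by congr 1; exact c.fac)
  obtain ⟨cE⟩ := TensorCongr.nonempty_congr (E := (PullTensorNat.pullC c.j).obj N) (E' := E)
    ((PullPerf.lpullIso c.j hN).symm ≪≫ (DCoh.Lpull c.j).mapIso (asIso (DerivedCategory.Q.map q) ≪≫ eI) ≪≫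
      (r.app (a.obj O).obj).symm ≪≫ eE.symm)
  let src : DCoh.Lpull c.fbar ⋙ DCoh.LTensorCx I ⋙ rd c.j ≅ DCoh.Lpull f ⋙ DCoh.LTensorCx E :=
    Functor.isoWhiskerLeft _ (Functor.isoWhiskerRight cN _ ≪≫ Functor.isoWhiskerLeft _ r ≪≫ t) ≪≫
      (Functor.associator _ _ _).symm ≪≫ Functor.isoWhiskerRight (lc ≪≫ lf) _ ≪≫ Functor.isoWhiskerLeft _ cE
  exact ⟨(asIso θ').symm ≪≫ Functor.isoWhiskerLeft (Dual3.bddι Y) (Functor.isoWhiskerLeft (ObjectProperty.ι _) src)⟩

end Groth.Agent.Dual6Lib.PerfShriek
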