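import Groth.Agent.DCat.ShriekRHom
import Groth.Agent.DCat.ShriekTensor
import Groth.Agent.DCat.TensorCongr
import Groth.Agent.DCat.DTenAmp
import Groth.Agent.DualLib.SchBiduality
import Groth.Agent.DualLib.ChartApps
import Groth.Agent.Dual22Lib.RepLib
import Groth.Agent.Dual22Lib.SupportAdj
import Groth.Agent.Dual6Lib.PerfShriek
import Groth.Agent.Dual6Lib.BCShriekGlobal
import Groth.Agent.S11112

/-!
# `f^! = D ∘ Lf^* ∘ D` on bounded below coherent objects
-/

set_option autoImplicit false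
set_option backward.isDefEq.respectTransparency false
set_option backward.defeqAttrib.useBackward true
set_option linter.style.haveILetI false
set_option synthInstance.maxHeartbeats 100000

universe u

open CategoryTheory CategoryTheory.Limits AlgebraicGeometry
open Groth.Agent Groth.Agent.DCat

attribute [local instance] HasDerivedCategory.standard
attribute [-instance] Int.instConditionallyCompleteLinearOrder

namespace Groth.Agent.Dual6Lib.DualShriek

variable [∀ (U V : Scheme.{u}) (j : U ⟶ V) [IsOpenImmersion j], PreservesFiniteLimits (Scheme.Modules.restrictFunctor j)]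
  [∀ (R : CommRingCat.{u}), PreservesFiniteLimits (tilde.functor R)]

/-- The dual of a bounded below coherent object is bounded above. -/
theorem exists_isLE_dual {Y : Scheme.{u}} [IsNoetherian Y] {K : DCoh.D Y} (hK : Dual2.IsDualizingSch Y K)
    (L : CochainComplex Y.Modules ℤ) (hL : ∀ i, Coh.IsCoh (DCoh.HD (DCoh.toD Y L) i)) (c : ℤ)
    (hLc : ∀ i : ℤ, i < c → IsZero (DCoh.HD (DCoh.toD Y L) i)) [DCoh.HasLTensorCx L] [DCoh.HasRSheafHom L] :
    ∃ b : ℤ, ((DCoh.RSheafHom L).obj K).IsLE b := by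
  classical
  choose R hR k hk hx using fun x : Y => DQCoh.exists_noetherian_chart x
  haveI := hk
  have key : ∀ x, ∃ b : ℤ, ∀ i : ℤ, b < i →
      IsZero ((Scheme.Modules.restrictFunctor (k x)).obj (DCoh.HD ((DCoh.RSheafHom L).obj K) i)) := by
    intro x
    haveI := hasLTen (R x)
    haveI := hasLTen₃ (R x)
    haveI := DCat.hasRHom (A := R x)
    haveI := DualLib.isSymMonoidal (A := R x)
    haveI : (tilde.functor (CommRingCat.of (R x))).Additive :=
      DQCoh.RHomTilde.additive_tilde_functor (R := CommRingCat.of (R x))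
    haveI : PreservesFiniteColimits (tilde.functor (CommRingCat.of (R x))) :=
      haveI := (tilde.adjunction (R := CommRingCat.of (R x))).leftAdjoint_preservesColimits
      inferInstance
    obtain ⟨ω, hω, ⟨eω⟩⟩ := hK (R x) (k x)
    obtain ⟨l, hl, ⟨el⟩⟩ := DualLib.SchBidual.exists_model (A := R x) (k x) (DCoh.toD Y L) hL
    obtain ⟨a⟩ := DualLib.SchBidual.nonempty_chart (A := R x) (k x) hω eω L l hl el
    haveI : l.IsGE c := (DerivedCategory.isGE_iff _ _).2 fun i hi => by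
      obtain ⟨η⟩ := DQCoh.nonempty_homology_natIso (tilde.functor (CommRingCat.of (R x))) i
      exact DQCoh.isZero_of_isZero_tilde (A := CommRingCat.of (R x))
        (((Scheme.Modules.restrictFunctor (k x)).map_isZero (hLc i hi)).of_iso
          ((SuppOpen.hdMapIso _ _ i).symm ≪≫ (DerivedCategory.homologyFunctor _ i).mapIso el ≪≫ η.app l).symm)
    obtain ⟨lo, hi', hω'⟩ := DualLib.exists_injAmplitude hω
    haveI := isLE_RHomR l ω lo hi' c hω'
    refine ⟨hi' - c, fun i hi => ?_⟩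
    obtain ⟨η⟩ := DQCoh.nonempty_homology_natIso (tilde.functor (CommRingCat.of (R x))) i
    exact ((tilde.functor (CommRingCat.of (R x))).map_isZero
      (DerivedCategory.isZero_of_isLE ((DTen.RHomR (R x) l).obj ω) (hi' - c) i hi)).of_iso
        ((SuppOpen.hdMapIso _ _ i).symm ≪≫ (DerivedCategory.homologyFunctor _ i).mapIso a ≪≫ η.app _)
  choose b hb using key
  obtain ⟨t, ht⟩ := isCompact_univ.elim_finite_subcover (fun x => ((k x).opensRange : Set Y))
    (fun x => (k x).opensRange.isOpen) (fun x _ => Set.mem_iUnion.2 ⟨x, hx x⟩)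
  obtain ⟨B, hB⟩ := (t.image b).bddAbove
  refine ⟨B, (DerivedCategory.isLE_iff _ _).2 fun i hi => ?_⟩
  refine ModStalk.isZero_of_stalks fun y => ?_
  obtain ⟨x, hxt, ⟨z, rfl⟩⟩ := Set.mem_iUnion₂.1 (ht (Set.mem_univ y))
  exact @SuppOpen.isZero_stalkFunctor _ _ (k x z) (SuppOpen.subsingleton_stalk_of_restrict (k x) _ z
    (SuppOpen.subsingleton_of_isZero_stalkFunctor _ _ ((DerSch.stalkFunctor _ _).map_isZero
      (hb x i (lt_of_le_of_lt (hB (Finset.mem_coe.2 (Finset.mem_image_of_mem b hxt))) hi)))))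

/-- `f^! M = RHom(Lf^* RHom(M, K), f^! K)`. -/
theorem nonempty_iso {X Y : Scheme.{u}} [IsNoetherian Y] {f : X ⟶ Y} (c : DEt.Compactification f) [DCoh.HasRpush c.fbar]
    (hc : DCoh.RpushPreservesQCoh c.fbar) (a : DCoh.DQCoh Y ⥤ DCoh.DQCoh c.Xbar) (adj : DCoh.RpushQ c.fbar hc ⊣ a)
    [DCoh.HasLpull f] (K : DCoh.DQCoh Y) (c₀ : ℤ) (hK : ∀ i : ℤ, i < c₀ → IsZero (DCoh.HD K.obj i))
    (hKd : Dual2.IsDualizingSch Y K.obj) (M : DCoh.DQCoh Y) (c₁ : ℤ)
    (hM : ∀ i : ℤ, i < c₁ → IsZero (DCoh.HD M.obj i)) (hMc : ∀ i : ℤ, Coh.IsCoh (DCoh.HD M.obj i))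
    (M' : CochainComplex Y.Modules ℤ) (hM' : Nonempty (DCoh.toD Y M' ≅ M.obj)) [DCoh.HasLTensorCx M']
    [DCoh.HasRSheafHom M'] (N' : CochainComplex X.Modules ℤ)
    (hN' : Nonempty (DCoh.toD X N' ≅ (DCoh.Lpull f).obj ((DCoh.RSheafHom M').obj K.obj))) [DCoh.HasLTensorCx N']
    [DCoh.HasRSheafHom N'] :
    Nonempty ((Dual3.shriekC c a).obj M ≅ (DCoh.RSheafHom N').obj ((Dual3.shriekC c a).obj K)) := by
  obtain ⟨eM⟩ := hM'
  obtain ⟨eN⟩ := hN'
  haveI : IsOpenImmersion c.j := c.isOpenImmersion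
  haveI : IsProper c.fbar := c.isProper
  haveI : IsLocallyNoetherian c.Xbar := LocallyOfFiniteType.isLocallyNoetherian c.fbar
  haveI : CompactSpace c.Xbar := QuasiCompact.compactSpace_of_compactSpace c.fbar
  haveI : IsNoetherian c.Xbar := {}
  haveI : K.obj.IsGE c₀ := (DerivedCategory.isGE_iff _ _).2 hK
  have hM'c : ∀ i, Coh.IsCoh (DCoh.HD (DCoh.toD Y M') i) := fun i =>
    Coherent.isCoh_iso ((DerivedCategory.homologyFunctor _ i).mapIso eM).symm (hMc i)
  have hM'b : ∀ i : ℤ, i < c₁ → IsZero (DCoh.HD (DCoh.toD Y M') i) := fun i hi =>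
    (hM i hi).of_iso ((DerivedCategory.homologyFunctor _ i).mapIso eM)
  let D := (DCoh.RSheafHom M').obj K.obj
  obtain ⟨b, hDb⟩ := exists_isLE_dual hKd M' hM'c c₁ hM'b
  have hDc : ∀ i, Coh.IsCoh (DCoh.HD D i) := DualLib.SchBidual.isCohD_dual hKd M' hM'c
  obtain ⟨P, -, ⟨eP⟩⟩ := PullPerf.exists_kflat_rep D
  haveI := LTensorSheaf.hasLTensorCx P
  haveI := RHomExist.hasRSheafHom P
  obtain ⟨bd⟩ := DualLib.SchBidual.nonempty_bidual hKd M' hM'c P eP
  have hq : DCoh.IsQCohD ((DCoh.RSheafHom P).obj K.obj) := DQCoh.isQCohD_of_iso (bd ≪≫ eM).symm M.property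
  have hPc : ∀ i, Coh.IsCoh (DCoh.HD (DCoh.toD Y P) i) := fun i =>
    Coherent.isCoh_iso ((DerivedCategory.homologyFunctor _ i).mapIso eP).symm (hDc i)
  have hPq : DCoh.IsQCohD (DCoh.toD Y P) := fun i => (hPc i).1
  haveI : (DCoh.toD Y P).IsLE b := DerivedCategory.TStructure.t.isLE_of_iso eP.symm b
  haveI := hasLpull c.fbar
  obtain ⟨P', hP'k, ⟨eP'⟩⟩ := PullPerf.exists_kflat_rep ((DCoh.Lpull c.fbar).obj (DCoh.toD Y P))
  haveI := LTensorSheaf.hasLTensorCx P'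
  haveI := RHomExist.hasRSheafHom P'
  haveI : (DCoh.RpushQ c.fbar hc).IsLeftAdjoint := adj.isLeftAdjoint
  let es : DCoh.shriek c.fbar hc ≅ a := (DCoh.shriekAdj c.fbar hc).rightAdjointUniq adj
  obtain ⟨d, hd⟩ : ∃ d : ℤ, ((DCoh.shriek c.fbar hc).obj K).obj.IsGE d :=
    Dual22Lib.RepLib.exists_isGE c₀
      (⟨fun {_} => ⟨((DCoh.shriek c.fbar hc).obj K).property, ((DCoh.shriekAdj c.fbar hc).counit.app K).hom,
        fun L hL => Dual22Lib.SupportAdj.rep_counit c.fbar hc _ (DCoh.shriekAdj c.fbar hc) K L hL⟩⟩ :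
          Dual22Lib.RepLib.RepObj c.fbar K.obj ((DCoh.shriek c.fbar hc).obj K).obj)
  have hP'psc : ∀ m : ℤ, DCoh.IsPseudoCoherentD m (DCoh.toD c.Xbar P') := fun m x => by
    obtain ⟨V, hxV, hV⟩ := PullPerf.isPseudoCoherentD_Lpull c.fbar m _
      (DQCoh.psc_of_isCoh _ hPq b m fun i _ => hPc i) x
    exact ⟨V, hxV, fun F ⟨eF⟩ => hV F ⟨eF ≪≫ eP'⟩⟩
  have hq' : DCoh.IsQCohD ((DCoh.RSheafHom P').obj ((DCoh.shriek c.fbar hc).obj K).obj) := fun j =>
    Groth.Agent.S11112.result c.Xbar P' (d - j - 1) (hP'psc _) _ ((DCoh.shriek c.fbar hc).obj K).property d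
      (fun m hm => DerivedCategory.isZero_of_isGE _ d m hm) j (by omega)
  obtain ⟨i₁⟩ := ShriekRHom.nonempty_shriek_RHom c.fbar hc P hPq K hq P' ⟨eP'⟩ hq'
  let eM' : (⟨(DCoh.RSheafHom P).obj K.obj, hq⟩ : DCoh.DQCoh Y) ≅ M :=
    (ObjectProperty.fullyFaithfulι _).preimageIso (bd ≪≫ eM)
  let C' := ((Scheme.Modules.restrictFunctor c.j).mapHomologicalComplex (ComplexShape.up ℤ)).obj P'
  haveI := LTensorSheaf.hasLTensorCx C'
  haveI := RHomExist.hasRSheafHom C'
  obtain ⟨r⟩ := ShriekTensor.nonempty_restrict_RHom_of_eq c.j P' C' rfl (PerfLocal.rd c.j) rfl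
  haveI := hasLpull c.j
  haveI := hasLpull (c.j ≫ c.fbar)
  obtain ⟨lc⟩ := DCat.nonempty_LpullComp c.j c.fbar
  obtain ⟨rl⟩ := PerfShriek.nonempty_rd_Lpull_natIso c.j
  let eC : DerivedCategory.Q.obj C' ≅ DerivedCategory.Q.obj N' :=
    ((Scheme.Modules.restrictFunctor c.j).mapDerivedCategoryFactors.app P').symm ≪≫
      (PerfLocal.rd c.j).mapIso (eP' ≪≫ (DCoh.Lpull c.fbar).mapIso eP) ≪≫ rl.app _ ≪≫
      lc.app D ≪≫ eqToIso (by congr 2; exact c.fac) ≪≫ eN.symm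
  obtain ⟨cg⟩ := TensorCongr.nonempty_congr_rhom eC
  exact ⟨(PerfLocal.rd c.j).mapIso ((ObjectProperty.ι _).mapIso (es.app M).symm ≪≫
      (ObjectProperty.ι _).mapIso ((DCoh.shriek c.fbar hc).mapIso eM'.symm) ≪≫ i₁) ≪≫
    r.app _ ≪≫ cg.app _ ≪≫ (DCoh.RSheafHom N').mapIso ((PerfLocal.rd c.j).mapIso ((ObjectProperty.ι _).mapIso (es.app K)))⟩

end Groth.Agent.Dual6Lib.DualShriek
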