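import Groth.Agent.DualLib.SchBiduality
import Groth.Agent.DualLib.DualUnique
import Groth.Agent.DualLib.ShriekPieces
import Groth.Agent.Dual22Lib.SchStalk
import Groth.Agent.DCat.RHomDual
import Groth.Agent.HTor16.LocalTor

/-!
# Two dualizing complexes differ by an invertible object
-/

set_option autoImplicit false
set_option backward.isDefEq.respectTransparency false
set_option backward.defeqAttrib.useBackward true
set_option linter.style.haveILetI false
set_option linter.unusedSectionVars false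
set_option synthInstance.maxHeartbeats 100000

universe u

open CategoryTheory CategoryTheory.Limits CategoryTheory.Pretriangulated AlgebraicGeometry
open Groth.Agent Groth.Agent.DCat Groth.Agent.DCat.PerfLocal

attribute [local instance] HasDerivedCategory.standard
attribute [-instance] Int.instConditionallyCompleteLinearOrder

namespace Groth.Agent.Dual6Lib.DualUniqueSch

variable {X : Scheme.{u}}

/-- `RHom(O[m], L) = L[-m]`. -/
theorem nonempty_RHom_shiftO (S : CochainComplex X.Modules ℤ) (m : ℤ)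
    (e : DerivedCategory.Q.obj S ≅ (DCoh.inD X (Coh.structureModule X))⟦m⟧) [DCoh.HasLTensorCx S]
    [DCoh.HasRSheafHom S] (L : DCoh.D X) : Nonempty ((DCoh.RSheafHom S).obj L ≅ L⟦-m⟧) := by
  let S₀ := (HomologicalComplex.single X.Modules (ComplexShape.up ℤ) 0).obj (Coh.structureModule X)
  haveI := LTensorSheaf.hasLTensorCx S₀
  haveI := RHomExist.hasRSheafHom S₀
  haveI := LTensorSheaf.hasLTensorCx (S₀⟦m⟧)
  haveI := RHomExist.hasRSheafHom (S₀⟦m⟧)
  obtain ⟨t⟩ := TensorCongr.nonempty_congr_rhom (E := S₀⟦m⟧) (E' := S)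
    ((DerivedCategory.Q.commShiftIso m).app S₀ ≪≫ (shiftFunctor (DCoh.D X) m).mapIso
      ((DerivedCategory.singleFunctorIsoCompQ X.Modules 0).app (Coh.structureModule X)).symm ≪≫ e.symm)
  obtain ⟨s⟩ := RHomLeft.nonempty_RHom_shift S₀ (RHomLeft.isKFlatFor_structure X) m
  obtain ⟨u₀⟩ := RHomLeft.nonempty_RHom_structure (X := X)
  exact ⟨(t.app L).symm ≪≫ s.app L ≪≫ u₀.app _⟩

variable [IsLocallyNoetherian X]
  [∀ (U V : Scheme.{u}) (j : U ⟶ V) [IsOpenImmersion j], PreservesFiniteLimits (Scheme.Modules.restrictFunctor j)]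
  [∀ (R : CommRingCat.{u}), PreservesFiniteLimits (tilde.functor R)]

/-- Dualizing complexes restrict to opens. -/
theorem isDualizingSch_rd {W : Scheme.{u}} (k : W ⟶ X) [IsOpenImmersion k] {K : DCoh.D X}
    (hK : Dual2.IsDualizingSch X K) : Dual2.IsDualizingSch W ((rd k).obj K) := fun A _ j _ => by
  obtain ⟨ω, hω, ⟨e⟩⟩ := hK A (j ≫ k)
  obtain ⟨c⟩ := rd_comp j k K
  exact ⟨ω, hω, ⟨c.symm ≪≫ e⟩⟩

/-- Locally two dualizing complexes differ by a shift. -/
theorem exists_local_shift {K K' : DCoh.D X} (hK : Dual2.IsDualizingSch X K) (hK' : Dual2.IsDualizingSch X K')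
    (x : X) : ∃ (W : Scheme.{u}) (k : W ⟶ X) (_ : IsOpenImmersion k) (n : ℤ),
      x ∈ k.opensRange ∧ Nonempty ((rd k).obj K' ≅ ((rd k).obj K)⟦n⟧) := by
  obtain ⟨A, _, j, _, ⟨y, hy⟩⟩ := DQCoh.exists_noetherian_chart x
  haveI := hasLTen A
  obtain ⟨ω, hω, ⟨e⟩⟩ := hK A j
  obtain ⟨ω', hω', ⟨e'⟩⟩ := hK' A j
  obtain ⟨i, ⟨g⟩, -⟩ := DualLib.Unique.exists_degree_at hω hω' y.asIdeal
  have hY := DualLib.isDualizing_shift hω' i
  obtain ⟨aY, bY, hgeY, hleY⟩ := DualLib.exists_bound hY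
  obtain ⟨aX, bX, hgeX, hleX⟩ := DualLib.exists_bound hω
  obtain ⟨s, hs, θ, hθ⟩ := DualLib.Unique.exists_fraction_map y.asIdeal.primeCompl
    (DualLib.isSmall_dualizing hω) hgeY g.inv
  obtain ⟨C, v, w, hT⟩ := distinguished_cocone_triangle θ
  haveI : IsIso ((DualLib.Unique.G y.asIdeal.primeCompl).map θ) := by
    obtain ⟨r, hr⟩ := IsLocalization.map_units (Localization y.asIdeal.primeCompl) (⟨s, hs⟩ : y.asIdeal.primeCompl)
    rw [hθ]
    refine ⟨(↑r⁻¹ : Localization y.asIdeal.primeCompl) • g.hom, ?_, ?_⟩ <;>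
      rw [← hr, Linear.smul_comp, Linear.comp_smul, smul_smul] <;> simp
  obtain ⟨_, _⟩ := Dual22Lib.preserves_extendScalars (B := Localization y.asIdeal.primeCompl) y.asIdeal.primeCompl
  have hGC : IsZero ((DualLib.Unique.G y.asIdeal.primeCompl).obj C) :=
    (Triangle.isZero₃_iff_isIso₁ _ ((DualLib.Unique.G y.asIdeal.primeCompl).map_distinguished _ hT)).2
      (show IsIso ((DualLib.Unique.G y.asIdeal.primeCompl).map θ) from inferInstance)
  -- cohomology of the cone
  let H := fun q => (DerivedCategory.homologyFunctor (ModuleCat.{u} A) q).obj C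
  have hfin : ∀ q, Module.Finite A (Dual.HD A C q) := fun q =>
    by
    let F := DerivedCategory.homologyFunctor (ModuleCat.{u} A) q
    haveI : Module.Finite A (F.obj (ω'⟦i⟧)) := hY.finite_cohomology q
    haveI : Module.Finite A (F.obj (ω⟦(1 : ℤ)⟧)) := by
      haveI : Module.Finite A (((DerivedCategory.homologyFunctor (ModuleCat.{u} A) 0).shift (1 + q)).obj ω) :=
        hω.finite_cohomology (1 + q)
      exact Module.Finite.equiv
        (((DerivedCategory.homologyFunctor (ModuleCat.{u} A) 0).shiftIso 1 q (1 + q) rfl).app ω).symm.toLinearEquiv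
    have hex := F.map_distinguished_exact _ (rot_of_distTriang _ hT)
    rw [ShortComplex.moduleCat_exact_iff_range_eq_ker] at hex
    haveI : IsNoetherian A (F.obj C) := isNoetherian_of_range_eq_ker (F.map v).hom (F.map w).hom hex
    exact Module.IsNoetherian.finite A (F.obj C)
  have hnot : ∀ q, y ∉ Module.support A (Dual.HD A C q) := fun q => by
    obtain ⟨eT⟩ := DualLib.nonempty_HD_tensor y.asIdeal.primeCompl C q
    haveI : Subsingleton (Dual.HD (Localization y.asIdeal.primeCompl)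
        ((DualLib.Unique.G y.asIdeal.primeCompl).obj C) q) :=
      ModuleCat.subsingleton_of_isZero ((DerivedCategory.homologyFunctor _ q).map_isZero hGC)
    rw [Module.notMem_support_iff]
    haveI : Subsingleton (TensorProduct A (Localization y.asIdeal.primeCompl) (Dual.HD A C q)) := eT.symm.injective.subsingleton
    exact (LocalizedModule.equivTensorProduct y.asIdeal.primeCompl (Dual.HD A C q)).injective.subsingleton
  let lo := min aX aY - 2
  let hi := max bX bY + 2
  have hout : ∀ q, q ∉ Finset.Icc lo hi → IsZero (H q) := fun q hq => by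
    simp only [Finset.mem_Icc, lo, hi] at hq
    haveI := hgeY
    haveI := hleY
    haveI := hgeX
    haveI := hleX
    let t : Triangulated.TStructure (Dual.D A) := DerivedCategory.TStructure.t
    rcases lt_or_ge q (min aX aY - 2) with hlt | hge
    · haveI : C.IsGE (min aX aY - 1) := by
        haveI : ω.IsGE (min aX aY) := t.isGE_of_ge ω (min aX aY) aX (min_le_left _ _)
        haveI : (ω'⟦i⟧).IsGE (min aX aY - 1) := t.isGE_of_ge (ω'⟦i⟧) (min aX aY - 1) aY (by omega)
        haveI : (ω⟦(1 : ℤ)⟧).IsGE (min aX aY - 1) := t.isGE_shift ω (min aX aY) 1 (min aX aY - 1) (by omega)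
        exact t.isGE₂ _ (rot_of_distTriang _ hT) (min aX aY - 1) ‹_› ‹_›
      exact DerivedCategory.isZero_of_isGE C (min aX aY - 1) q (by omega)
    · haveI : C.IsLE (max bX bY + 1) := by
        haveI : (ω'⟦i⟧).IsLE (max bX bY + 1) := t.isLE_of_le (ω'⟦i⟧) bY (max bX bY + 1) (by omega)
        haveI : ω.IsLE (max bX bY + 2) := t.isLE_of_le ω bX (max bX bY + 2) (by omega)
        haveI : (ω⟦(1 : ℤ)⟧).IsLE (max bX bY + 1) := t.isLE_shift ω (max bX bY + 2) 1 (max bX bY + 1) (by omega)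
        exact t.isLE₂ _ (rot_of_distTriang _ hT) (max bX bY + 1) ‹_› ‹_›
      exact DerivedCategory.isZero_of_isLE C (max bX bY + 1) q (by omega)
  let V : (Spec (CommRingCat.of A)).Opens :=
    ⟨(⋃ q ∈ Finset.Icc lo hi, Module.support A (Dual.HD A C q))ᶜ, (isClosed_biUnion_finset fun q _ => by
      haveI := hfin q
      rw [Module.support_eq_zeroLocus]
      exact PrimeSpectrum.isClosed_zeroLocus _).isOpen_compl⟩
  have hyV : y ∈ V := fun h => by
    obtain ⟨q, -, hq⟩ := Set.mem_iUnion₂.1 h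
    exact hnot q hq
  let T := DCoh.tildeD (CommRingCat.of A)
  haveI : IsIso ((rd V.ι).map (T.map θ)) := by
    refine (Triangle.isZero₃_iff_isIso₁ _ ((rd V.ι).map_distinguished _ (T.map_distinguished _ hT))).1 ?_
    refine SuppOpen.isZero_of_hd _ fun q => ModStalk.isZero_of_stalks fun z => ?_
    have hz : Subsingleton ((DCoh.HD (T.obj C) q).presheaf.stalk (V.ι z)) := by
      by_contra hne
      haveI := not_subsingleton_iff_nontrivial.1 hne
      obtain ⟨d₀⟩ := PCTriangle.rd_id (T.obj C)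
      have hm : V.ι z ∈ Module.support A (Dual.HD A C q) :=
        (Dual22Lib.nontrivial_stalk_iff (𝟙 (Spec (CommRingCat.of A))) d₀ (V.ι z) q).1
          (by exact not_subsingleton_iff_nontrivial.1 hne)
      by_cases hq : q ∈ Finset.Icc lo hi
      · exact z.2 (Set.mem_iUnion₂.2 ⟨q, hq, hm⟩)
      · haveI : Subsingleton (Dual.HD A C q) := ModuleCat.subsingleton_of_isZero (hout q hq)
        rw [Module.support_eq_empty_iff.2 ‹_›] at hm
        exact hm
    exact ((SuppOpen.isZero_stalkFunctor (h := SuppOpen.subsingleton_stalk_restrict V.ι (DCoh.HD (T.obj C) q) z hz) _ _)).of_iso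
      ((DerSch.stalkFunctor _ z).mapIso (SuppOpen.hdMapIso (Scheme.Modules.restrictFunctor V.ι) (T.obj C) q))
  obtain ⟨c⟩ := rd_comp V.ι j K
  obtain ⟨c'⟩ := rd_comp V.ι j K'
  refine ⟨_, V.ι ≫ j, inferInstance, -i, ⟨⟨y, hyV⟩, hy⟩, ⟨?_⟩⟩
  let a : (rd (V.ι ≫ j)).obj K ≅ ((rd (V.ι ≫ j)).obj K')⟦i⟧ :=
    c ≪≫ (rd V.ι).mapIso e ≪≫ asIso ((rd V.ι).map (T.map θ)) ≪≫
      (rd V.ι).mapIso ((T.commShiftIso i).app ω') ≪≫ ((rd V.ι).commShiftIso i).app (T.obj ω') ≪≫
      (shiftFunctor _ i).mapIso ((rd V.ι).mapIso e'.symm ≪≫ c'.symm)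
  exact ((shiftEquiv (DCoh.D _) i).unitIso.app _) ≪≫ (shiftFunctor _ (-i)).mapIso a.symm

/-- Dualizing complexes have coherent cohomology. -/
theorem isCohD_dualizing {K : DCoh.D X} (hK : Dual2.IsDualizingSch X K) (i : ℤ) : Coh.IsCoh (DCoh.HD K i) := by
  let S₀ := (HomologicalComplex.single X.Modules (ComplexShape.up ℤ) 0).obj (Coh.structureModule X)
  haveI := LTensorSheaf.hasLTensorCx S₀
  haveI := RHomExist.hasRSheafHom S₀
  obtain ⟨u₀⟩ := RHomLeft.nonempty_RHom_structure (X := X)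
  exact Coherent.isCoh_iso ((DerivedCategory.homologyFunctor _ i).mapIso (u₀.app K))
    (DualLib.SchBidual.isCohD_dual hK S₀ (fun j => Coherent.isCoh_iso ((DerivedCategory.homologyFunctor _ j).mapIso
      ((DerivedCategory.singleFunctorIsoCompQ X.Modules 0).app (Coh.structureModule X)))
      (HTor16.isCohD_inD (Coherent.isCoh_structureModule X) j)) i)

/-- Two dualizing complexes differ by an invertible object. -/
theorem exists_invertible {K K' : DCoh.D X} (hK : Dual2.IsDualizingSch X K) (hK' : Dual2.IsDualizingSch X K') :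
    ∃ (E : CochainComplex X.Modules ℤ) (_ : DCoh.HasLTensorCx E), Dual3.IsInvertibleD (DCoh.toD X E) ∧
      Nonempty (K' ≅ (DCoh.LTensorCx E).obj K) := by
  obtain ⟨EK', hEK', ⟨eK'⟩⟩ := PullPerf.exists_kflat_rep K'
  haveI := LTensorSheaf.hasLTensorCx EK'
  haveI := RHomExist.hasRSheafHom EK'
  have hcoh' : ∀ i, Coh.IsCoh (DCoh.HD (DCoh.toD X EK') i) := fun i =>
    Coherent.isCoh_iso ((DerivedCategory.homologyFunctor _ i).mapIso eK').symm
      (isCohD_dualizing hK' i)
  obtain ⟨ED, hED, ⟨eD⟩⟩ := PullPerf.exists_kflat_rep ((DCoh.RSheafHom EK').obj K)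
  haveI := LTensorSheaf.hasLTensorCx ED
  haveI := RHomExist.hasRSheafHom ED
  obtain ⟨b⟩ := DualLib.SchBidual.nonempty_bidual hK EK' hcoh' ED eD
  -- `ED` is invertible
  have hinv : Dual3.IsInvertibleD (DCoh.toD X ED) := fun x => by
    obtain ⟨W, k, _, n, hx, ⟨a⟩⟩ := exists_local_shift hK hK' x
    let U := k.opensRange
    let ι : U.toScheme ⟶ X := U.ι
    obtain ⟨c₁⟩ := rd_comp k.isoOpensRange.inv k K
    obtain ⟨c₂⟩ := rd_comp k.isoOpensRange.inv k K'
    obtain ⟨d⟩ := DQCoh.nonempty_rd_congr (X := X) k.isoOpensRange_inv_comp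
    let a' : (rd ι).obj K' ≅ ((rd ι).obj K)⟦n⟧ :=
      (d.app K').symm ≪≫ c₂ ≪≫ (rd k.isoOpensRange.inv).mapIso a ≪≫
        ((rd k.isoOpensRange.inv).commShiftIso n).app _ ≪≫
        (shiftFunctor _ n).mapIso (c₁.symm ≪≫ d.app K)
    haveI : IsLocallyNoetherian U.toScheme := inferInstance
    have hKU := isDualizingSch_rd ι hK
    let S₀ := (HomologicalComplex.single U.toScheme.Modules (ComplexShape.up ℤ) 0).obj (Coh.structureModule U.toScheme)
    let S := S₀⟦-n⟧
    let eS : DerivedCategory.Q.obj S ≅ (DCoh.inD U.toScheme (Coh.structureModule U.toScheme))⟦-n⟧ :=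
      (DerivedCategory.Q.commShiftIso (-n)).app S₀ ≪≫ (shiftFunctor _ (-n)).mapIso
        ((DerivedCategory.singleFunctorIsoCompQ _ 0).app _).symm
    haveI := LTensorSheaf.hasLTensorCx S
    haveI := RHomExist.hasRSheafHom S
    have hS : ∀ i, Coh.IsCoh (DCoh.HD (DCoh.toD _ S) i) := fun i =>
      Coherent.isCoh_iso ((DerivedCategory.homologyFunctor _ i).mapIso eS ≪≫
        (((DerivedCategory.homologyFunctor _ 0).shiftIso (-n) i (-n + i) rfl).app _)).symm
        (HTor16.isCohD_inD (Coherent.isCoh_structureModule _) _)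
    let M := ((Scheme.Modules.restrictFunctor ι).mapHomologicalComplex (ComplexShape.up ℤ)).obj EK'
    haveI := LTensorSheaf.hasLTensorCx M
    haveI := RHomExist.hasRSheafHom M
    obtain ⟨sh⟩ := nonempty_RHom_shiftO S (-n) eS ((rd ι).obj K)
    obtain ⟨b'⟩ := DualLib.SchBidual.nonempty_bidual hKU S hS M
      (((Scheme.Modules.restrictFunctor ι).mapDerivedCategoryFactors.app EK').symm ≪≫ (rd ι).mapIso eK' ≪≫ a' ≪≫
        eqToIso (by rw [neg_neg]) ≪≫ sh.symm)
    obtain ⟨r⟩ := ShriekTensor.nonempty_restrict_RHom_of_eq ι EK' M rfl (rd ι) rfl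
    exact ⟨U, -n, hx, ⟨(rd ι).mapIso eD ≪≫ r.app K ≪≫ b' ≪≫ eS⟩⟩
  -- the dual
  obtain ⟨E, hE, ⟨eE⟩⟩ := PullPerf.exists_kflat_rep
    ((DCoh.RSheafHom ED).obj (DCoh.inD X (Coh.structureModule X)))
  haveI := LTensorSheaf.hasLTensorCx E
  refine ⟨E, inferInstance, fun x => ?_, ?_⟩
  · obtain ⟨U, m, hx, ⟨a⟩⟩ := hinv x
    let M := ((Scheme.Modules.restrictFunctor U.ι).mapHomologicalComplex (ComplexShape.up ℤ)).obj ED
    haveI := LTensorSheaf.hasLTensorCx M
    haveI := RHomExist.hasRSheafHom M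
    obtain ⟨sh⟩ := nonempty_RHom_shiftO M m
      (((Scheme.Modules.restrictFunctor U.ι).mapDerivedCategoryFactors.app ED).symm ≪≫ a)
      (DCoh.inD U.toScheme (Coh.structureModule U.toScheme))
    obtain ⟨r⟩ := ShriekTensor.nonempty_restrict_RHom_of_eq U.ι ED M rfl (rd U.ι) rfl
    exact ⟨U, -m, hx, ⟨(rd U.ι).mapIso eE ≪≫ r.app _ ≪≫
      (DCoh.RSheafHom M).mapIso (((Scheme.Modules.restrictFunctor U.ι).mapDerivedCategorySingleFunctor 0).app _ ≪≫
        (DerivedCategory.singleFunctor _ 0).mapIso (Scheme.Modules.restrictUnitIso U.ι)) ≪≫ sh⟩⟩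
  · obtain ⟨t⟩ := RHomDual.nonempty_tensor_dual ED hED (DualLib.ShriekPieces.isPerfect_of_invertible hinv) E hE eE K
    exact ⟨eK'.symm ≪≫ b.symm ≪≫ t.symm⟩

end Groth.Agent.Dual6Lib.DualUniqueSch
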