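import Groth.Agent.DCat.ProjNatural
import Groth.Agent.DCat.PullPush
import Groth.Agent.DCat.RHomLeft
import Groth.Agent.DQCoh.PscFinite
import Groth.Agent.DQCoh.PscNoeth
import Groth.Agent.Dual22Lib.XiIso
import Groth.Agent.Coherent.FinitePres
import Groth.Agent.S11112
import Groth.Agent.HTor16.LocalTor
import Groth.Agent.FlatBC14.Main
import Groth.Prelude.Def_Dual3

/-!
# `f_* f^! = RHom(f_* O, -)` for a finite morphism
-/

set_option autoImplicit false
set_option backward.isDefEq.respectTransparency false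
set_option backward.defeqAttrib.useBackward true
set_option linter.style.haveILetI false
set_option synthInstance.maxHeartbeats 100000

universe u

open CategoryTheory CategoryTheory.Limits AlgebraicGeometry
open Groth.Agent Groth.Agent.DCat

attribute [local instance] HasDerivedCategory.standard
attribute [-instance] Int.instConditionallyCompleteLinearOrder

namespace Groth.Agent.Dual6Lib.FiniteRHom

universe v w

/-- Right adjoints of the same functor, one of them only partially defined, agree where both are defined. -/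
theorem nonempty_partial_iso {C : Type v} [Category.{w} C] {D : Type v} [Category.{w} D] {P : ObjectProperty C}
    {ι : C ⥤ D} (hι : ι.FullyFaithful) {T : C ⥤ C} {S : C ⥤ C} (adjS : T ⊣ S) {T' : D ⥤ D} {H : D ⥤ D} (adjH : T' ⊣ H)
    (eT : T ⋙ ι ≅ ι ⋙ T') (H₀ : P.FullSubcategory ⥤ C) (eH : H₀ ⋙ ι ≅ P.ι ⋙ ι ⋙ H) :
    Nonempty (P.ι ⋙ S ⋙ ι ≅ P.ι ⋙ ι ⋙ H) := by
  let θ : H₀ ⟶ P.ι ⋙ S :=
    { app := fun K => adjS.homEquiv _ _ (hι.preimage (eT.hom.app (H₀.obj K) ≫
        T'.map (eH.hom.app K) ≫ adjH.counit.app (ι.obj K.obj)))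
      naturality := fun K L g => by
        rw [← adjS.homEquiv_naturality_left]
        refine Eq.trans ?_ (adjS.homEquiv_naturality_right _ _)
        congr 1
        apply hι.map_injective
        simp only [Functor.map_comp, Functor.FullyFaithful.map_preimage]
        have h1 := eT.hom.naturality (H₀.map g)
        have h2 := eH.hom.naturality g
        have h3 := adjH.counit.naturality (ι.map g.hom)
        dsimp only [Functor.comp_map, Functor.comp_obj, Functor.id_map, Functor.id_obj] at h1 h2 h3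
        rw [reassoc_of% h1, ← T'.map_comp_assoc, h2, T'.map_comp_assoc]
        erw [h3]
        simp only [Category.assoc]
        rfl }
  haveI : IsIso θ := by
    refine @NatIso.isIso_of_isIso_app _ _ _ _ _ _ _ fun K => ?_
    refine isIso_of_yoneda_map_bijective _ fun Z => ?_
    let e : (Z ⟶ H₀.obj K) ≃ (Z ⟶ S.obj K.obj) :=
      hι.homEquiv.trans (((Iso.refl (ι.obj Z)).homCongr (eH.app K)).trans ((adjH.homEquiv _ _).symm.trans
        (((eT.app Z).symm.homCongr (Iso.refl _)).trans (hι.homEquiv.symm.trans (adjS.homEquiv Z K.obj)))))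
    refine (congrArg Function.Bijective ?_).mpr e.bijective
    funext y
    show y ≫ θ.app K = e y
    simp only [θ, e, Equiv.trans_apply, ← adjS.homEquiv_naturality_left]
    congr 1
    apply hι.map_injective
    rw [Functor.map_comp, Functor.FullyFaithful.map_preimage]
    have h1 := eT.hom.naturality y
    dsimp only [Functor.comp_map, Functor.comp_obj] at h1
    simp [Functor.FullyFaithful.homEquiv, Iso.homCongr, Adjunction.homEquiv_counit, reassoc_of% h1]
  exact ⟨Functor.isoWhiskerRight (asIso θ).symm ι ≪≫ eH⟩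

/-- **`Rf_* a = RHom(f_* O, -)` on `D^+_QCoh`.** -/
theorem nonempty_iso {X Y : Scheme.{u}} [IsNoetherian Y] (f : X ⟶ Y) [IsFinite f] [DCoh.HasRpush f]
    (hf : DCoh.RpushPreservesQCoh f) (a : DCoh.DQCoh Y ⥤ DCoh.DQCoh X) (adj : DCoh.RpushQ f hf ⊣ a)
    (E : CochainComplex Y.Modules ℤ)
    (hE : Nonempty (DCoh.toD Y E ≅ DCoh.inD Y ((Scheme.Modules.pushforward f).obj (Coh.structureModule X))))
    [DCoh.HasLTensorCx E] [DCoh.HasRSheafHom E] :
    Nonempty (Dual3.bddι Y ⋙ a ⋙ DCoh.RpushQ f hf ⋙ ObjectProperty.ι _ ≅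
      Dual3.bddι Y ⋙ ObjectProperty.ι _ ⋙ DCoh.RSheafHom E) := by
  obtain ⟨eE⟩ := hE
  haveI : IsLocallyNoetherian X := LocallyOfFiniteType.isLocallyNoetherian f
  haveI hOq : Coh.IsQCoh (Coh.structureModule X) := (Coherent.isCoh_structureModule X).1
  haveI := hasLpull f
  let S₀ := (HomologicalComplex.single X.Modules (ComplexShape.up ℤ) 0).obj (Coh.structureModule X)
  haveI := LTensorSheaf.hasLTensorCx S₀
  obtain ⟨w⟩ := DQCoh.nonempty_Rpush_inD f (Coh.structureModule X)
  let eS : DerivedCategory.Q.obj S₀ ≅ DCoh.inD X (Coh.structureModule X) :=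
    ((DerivedCategory.singleFunctorIsoCompQ X.Modules 0).app (Coh.structureModule X)).symm
  have hS : DCoh.IsQCohD (DerivedCategory.Q.obj S₀) :=
    DQCoh.isQCohD_of_iso eS.symm (FlatBC14.isQCohD_inD _)
  obtain ⟨pr⟩ := ProjNatural.nonempty_proj₂ f E S₀ hS ⟨eE ≪≫ w.symm ≪≫ (DCoh.Rpush f).mapIso eS.symm⟩
  obtain ⟨u₀⟩ := RHomLeft.nonempty_LTensor_structure (X := X)
  have hLf : Dual3.LpullPreservesQCoh f := Dual22Lib.XiIso.lpullPreservesQCoh f
  obtain ⟨a₀⟩ := nonempty_pullPushAdj f
  let adjQ : Dual3.LpullQ f hLf ⊣ DCoh.RpushQ f hf :=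
    a₀.restrictFullyFaithful (ObjectProperty.fullyFaithfulι _) (ObjectProperty.fullyFaithfulι _) (Iso.refl _) (Iso.refl _)
  let eT : (Dual3.LpullQ f hLf ⋙ DCoh.RpushQ f hf) ⋙ ObjectProperty.ι _ ≅ ObjectProperty.ι _ ⋙ DCoh.LTensorCx E :=
    Functor.isoWhiskerLeft (ObjectProperty.ι _ ⋙ DCoh.Lpull f) (Functor.isoWhiskerRight u₀.symm (DCoh.Rpush f)) ≪≫ pr.symm
  have hEcoh : ∀ i, Coh.IsCoh (DCoh.HD (DCoh.toD Y E) i) := fun i =>
    Coherent.isCoh_iso ((DerivedCategory.homologyFunctor _ i).mapIso eE).symm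
      (HTor16.isCohD_inD (Coherent.isCoh_push_finite f (Coherent.isCoh_structureModule X)) i)
  haveI : (DCoh.inD Y ((Scheme.Modules.pushforward f).obj (Coh.structureModule X))).IsLE 0 :=
    (inferInstance : ((DerivedCategory.singleFunctor Y.Modules 0).obj _).IsLE 0)
  haveI : (DCoh.toD Y E).IsLE 0 := DerivedCategory.TStructure.t.isLE_of_iso eE.symm 0
  have hq : ∀ K : (Dual3.IsBddBelowQ Y).FullSubcategory, DCoh.IsQCohD ((DCoh.RSheafHom E).obj K.obj.obj) := fun K j => by
    obtain ⟨r, hr⟩ := K.property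
    haveI := hr
    exact Groth.Agent.S11112.result Y E (r - j - 1) (DQCoh.psc_of_isCoh _ (fun i => (hEcoh i).1) 0 _ fun i _ => hEcoh i)
      _ K.obj.property r (fun m hm => DerivedCategory.isZero_of_isGE _ r m hm) j (by omega)
  exact nonempty_partial_iso (ObjectProperty.fullyFaithfulι _) (adjQ.comp adj) (DCoh.RSheafHomAdj E) eT
    (ObjectProperty.lift _ (Dual3.bddι Y ⋙ ObjectProperty.ι _ ⋙ DCoh.RSheafHom E) hq) (Iso.refl _)

end Groth.Agent.Dual6Lib.FiniteRHom
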