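import Groth.Agent.Dual6Lib.BCShriekGlobal

/-!
# Flat base change of right adjoints on bounded below objects, naturally
-/

set_option autoImplicit false
set_option backward.isDefEq.respectTransparency false
set_option backward.defeqAttrib.useBackward true
set_option linter.style.haveILetI false
set_option linter.unusedSectionVars false
set_option synthInstance.maxHeartbeats 100000

universe u

open CategoryTheory CategoryTheory.Limits AlgebraicGeometry
open Groth.Agent.DCat Groth.Agent.DCat.PerfLocal Groth.Agent.Dual22Lib Groth.Agent.Dual6Lib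

attribute [local instance] HasDerivedCategory.standard

namespace Groth.Agent.Dual6Lib.FlatShriek

variable {X Y X' Y' : Scheme.{u}} {f : X ⟶ Y} {g : Y' ⟶ Y} {f' : X' ⟶ Y'} {g' : X' ⟶ X}
  [DCoh.HasRpush f] [DCoh.HasRpush f'] [DCoh.HasLpull g] [DCoh.HasLpull g']
  {hf : DCoh.RpushPreservesQCoh f} {hf' : DCoh.RpushPreservesQCoh f'}
  {hLg : Dual3.LpullPreservesQCoh g} {hLg' : Dual3.LpullPreservesQCoh g'}
  {a : DCoh.DQCoh Y ⥤ DCoh.DQCoh X} {a' : DCoh.DQCoh Y' ⥤ DCoh.DQCoh X'}

/-- Right adjoints of proper direct images respect supports of bounded below objects. -/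
theorem suppB_of_proper [IsNoetherian Y] [IsProper f] (adj : DCoh.RpushQ f hf ⊣ a) :
    BCShriekGlobal.SuppB f a := fun V _ C hk ⟨c, hc⟩ =>
  haveI := hc
  SupportAdj.killed_rep f V C.obj c C.property hk (a.obj C).obj (adj.counit.app C).hom (a.obj C).property
    fun K hK => SupportAdj.rep_counit f hf a adj C K hK

omit [DCoh.HasRpush f] [DCoh.HasRpush f'] [DCoh.HasLpull g'] in
theorem isGE_Lpull_flat [Flat g] {K : DCoh.D Y} (c : ℤ) [K.IsGE c] : ((DCoh.Lpull g).obj K).IsGE c := by
  obtain ⟨β⟩ := BCShriekAffine.nonempty_Lpull_Gd g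
  haveI := HomFlat.isGE_Gd g (K := K) c
  exact DerivedCategory.TStructure.t.isGE_of_iso (β.app K).symm c

/-- **Flat base change**, as functors on `D⁺_QCoh`. -/
theorem nonempty_iso (hsq : IsPullback g' f' f g) [Flat g] [IsNoetherian Y] [IsNoetherian Y'] [IsProper f]
    [CompactSpace X] [QuasiSeparatedSpace X] [CompactSpace X'] [QuasiSeparatedSpace X']
    [DCoh.HasRpush g] [DCoh.HasRpush g'] (hg : DCoh.RpushPreservesQCoh g) (hg' : DCoh.RpushPreservesQCoh g')
    (adj : DCoh.RpushQ f hf ⊣ a) (adj' : DCoh.RpushQ f' hf' ⊣ a') :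
    Nonempty (Dual3.bddι Y ⋙ a ⋙ Dual3.LpullQ g' hLg' ≅ Dual3.bddι Y ⋙ Dual3.LpullQ g hLg ⋙ a') := by
  haveI : IsProper f' := MorphismProperty.of_isPullback hsq inferInstance
  haveI : QuasiCompact g := quasiCompact_of_compactSpace g
  haveI : QuasiCompact g' := quasiCompact_of_compactSpace g'
  haveI : Flat g' := MorphismProperty.of_isPullback hsq.flip inferInstance
  obtain ⟨adjg⟩ := BCShriekGlobal.exists_adjQ g hg hLg
  obtain ⟨adjg'⟩ := BCShriekGlobal.exists_adjQ g' hg' hLg'
  obtain ⟨e, he⟩ := BCShriekSquare.exists_bc (hf := hf) (hf' := hf') hsq adjg adjg'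
  let τ := BCAlg.bc adjg adjg' e
  have key : ∀ K : (Dual3.IsBddBelowQ Y).FullSubcategory, IsIso (BCFormal.bs adj adj' τ he K.obj) := fun K => by
    obtain ⟨c, hc⟩ := K.property
    haveI : K.obj.obj.IsGE c := hc
    refine BCShriekGlobal.isIso_bs_global hsq adj adj' K.obj (Or.inr ⟨suppB_of_proper adj, c, hc⟩)
      (Or.inr ⟨suppB_of_proper adj', c, isGE_Lpull_flat (g := g) (K := K.obj.obj) c⟩) τ he fun V hV _ _ => Or.inr ?_
    haveI : IsAffine V := hV
    haveI : QuasiCompact V.ι := quasiCompact_of_compactSpace _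
    haveI : CompactSpace (V : Scheme.{u}) := inferInstance
    haveI : IsLocallyNoetherian (V : Scheme.{u}) := isLocallyNoetherian_of_isOpenImmersion V.ι
    haveI : IsNoetherian (V : Scheme.{u}) := { }
    haveI : IsProper (f ∣_ V) := MorphismProperty.of_isPullback (isPullback_morphismRestrict f V).flip inferInstance
    exact ⟨⟨c, isGE_Lpull_flat (g := V.ι) (K := K.obj.obj) c⟩, fun P hP m => BCShriekSquare.psc_Rpush_perfect P hP m⟩
  haveI := key
  exact ⟨NatIso.ofComponents (fun K => asIso (BCFormal.bs adj adj' τ he K.obj))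
    fun u => BCFormal.bs_naturality adj adj' τ he u.hom⟩

end Groth.Agent.Dual6Lib.FlatShriek
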