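import Groth.Agent.Dual6Lib.HomLift
import Groth.Agent.DQCoh.PerfectHom
import Groth.Agent.DQCoh.Push
import Groth.Agent.DCat.FlatPull
import Groth.Agent.Coherent.FlatBaseChangeMain
import Groth.Agent.EGA43.Cons.FibFlatLocus
import Groth.Prelude.Def_KLin
import Mathlib.Algebra.Homology.ShortComplex.Linear

/-!
# Hom out of perfect complexes commutes with flat base change
-/

set_option autoImplicit false
set_option backward.isDefEq.respectTransparency false
set_option backward.defeqAttrib.useBackward true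
set_option linter.style.haveILetI false
set_option linter.unusedSectionVars false
set_option synthInstance.maxHeartbeats 100000

universe u

open CategoryTheory CategoryTheory.Limits CategoryTheory.Pretriangulated AlgebraicGeometry Opposite TopologicalSpace
  TensorProduct DerivedCategory
open Groth.Agent.Coherent Groth.Agent.DCat Groth.Agent.Dual6Lib.HomLift Groth.Agent.PicLib
open Groth.Agent.Dual22Lib.WeakExact (triExact_of_isTriangulated)

attribute [local instance] HasDerivedCategory.standard
attribute [-instance] Int.instConditionallyCompleteLinearOrder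

namespace Groth.Agent.Dual6Lib.HomFlat

variable (A B : Type u) [CommRing A] [CommRing B] [Algebra A B]

/-- The two structures on `X'` agree. -/
class Compat (X' : Scheme.{u}) [X'.Over (Spec (CommRingCat.of A))] [X'.Over (Spec (CommRingCat.of B))] : Prop where
  toGlobal_eq : ∀ a, Coh.toGlobal (X' ↘ Spec (CommRingCat.of B)) (algebraMap A B a) =
    Coh.toGlobal (X' ↘ Spec (CommRingCat.of A)) a

variable {A B} {X X' : Scheme.{u}} [X.Over (Spec (CommRingCat.of A))] [X'.Over (Spec (CommRingCat.of A))]
  [X'.Over (Spec (CommRingCat.of B))] [Compat A B X']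

theorem smul_id_modules (a : A) (M : X'.Modules) : algebraMap A B a • 𝟙 M = a • 𝟙 M := by
  rw [KLin.smul_id, KLin.smul_id, Formal.smulMod, Formal.smulMod, Compat.toGlobal_eq]

theorem smul_id_D (a : A) (K : DCoh.D X') : algebraMap A B a • 𝟙 K = a • 𝟙 K := by
  let C := Q.objPreimage K
  let e : Q.obj C ≅ K := Q.objObjPreimageIso K
  have h : algebraMap A B a • 𝟙 C = a • 𝟙 C := HomologicalComplex.hom_ext _ _ fun n => smul_id_modules a (C.X n)
  have h1 : algebraMap A B a • 𝟙 (Q.obj C) = a • 𝟙 (Q.obj C) := by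
    rw [← CategoryTheory.Functor.map_id, ← Functor.map_smul, h, Functor.map_smul]
  calc algebraMap A B a • 𝟙 K = e.inv ≫ (algebraMap A B a • 𝟙 (Q.obj C)) ≫ e.hom := by
        rw [Linear.smul_comp, Category.id_comp, Linear.comp_smul, Iso.inv_hom_id]
    _ = e.inv ≫ (a • 𝟙 (Q.obj C)) ≫ e.hom := by rw [h1]
    _ = a • 𝟙 K := by rw [Linear.smul_comp, Category.id_comp, Linear.comp_smul, Iso.inv_hom_id]

instance isScalarTower_modules (M N : X'.Modules) : IsScalarTower A B (M ⟶ N) :=
  IsScalarTower.of_algebraMap_smul fun a f => by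
    rw [← Category.id_comp f, ← Linear.smul_comp, ← Linear.smul_comp, smul_id_modules]

instance isScalarTower_D (M N : DCoh.D X') : IsScalarTower A B (M ⟶ N) :=
  IsScalarTower.of_algebraMap_smul fun a f => by
    rw [← Category.id_comp f, ← Linear.smul_comp, ← Linear.smul_comp, smul_id_D]

variable (g : X' ⟶ X)

/-- Inverse image is linear. -/
instance linear_pullback [g.IsOver (Spec (CommRingCat.of A))] : (Scheme.Modules.pullback g).Linear A where
  map_smul {M N} f a := by
    apply ((Scheme.Modules.pullbackPushforwardAdjunction g).homEquiv _ _).injective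
    rw [Adjunction.homEquiv_unit, Adjunction.homEquiv_unit, Functor.map_smul (Scheme.Modules.pushforward g),
      Linear.comp_smul, (Scheme.Modules.pullbackPushforwardAdjunction g).unit_naturality,
      (Scheme.Modules.pullbackPushforwardAdjunction g).unit_naturality, Linear.smul_comp]

variable [Flat g]

/-- Inverse image on derived categories. -/
noncomputable abbrev Gd : DCoh.D X ⥤ DCoh.D X' := (Scheme.Modules.pullback g).mapDerivedCategory

/-- Cohomology commutes with exact inverse image. -/
noncomputable def sigma (i : ℤ) :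
    Gd g ⋙ homologyFunctor X'.Modules i ≅ homologyFunctor X.Modules i ⋙ Scheme.Modules.pullback g :=
  let F := Scheme.Modules.pullback g
  let e₀ : F.mapHomologicalComplex (ComplexShape.up ℤ) ⋙ HomologicalComplex.homologyFunctor _ _ i ≅
      HomologicalComplex.homologyFunctor _ (ComplexShape.up ℤ) i ⋙ F :=
    NatIso.ofComponents (fun C => (C.sc i).mapHomologyIso F)
      (fun φ => ShortComplex.mapHomologyIso_hom_naturality
        ((HomologicalComplex.shortComplexFunctor _ _ i).map φ) F)
  letI : Localization.Lifting Q (HomologicalComplex.quasiIso X.Modules (ComplexShape.up ℤ))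
      (Q ⋙ Gd g ⋙ homologyFunctor X'.Modules i) (Gd g ⋙ homologyFunctor X'.Modules i) := ⟨Iso.refl _⟩
  letI : Localization.Lifting Q (HomologicalComplex.quasiIso X.Modules (ComplexShape.up ℤ))
      (Q ⋙ homologyFunctor X.Modules i ⋙ F) (homologyFunctor X.Modules i ⋙ F) := ⟨Iso.refl _⟩
  Localization.liftNatIso Q (HomologicalComplex.quasiIso X.Modules (ComplexShape.up ℤ))
    (Q ⋙ Gd g ⋙ homologyFunctor X'.Modules i) (Q ⋙ homologyFunctor X.Modules i ⋙ F) _ _
    ((Functor.associator _ _ _).symm ≪≫ Functor.isoWhiskerRight F.mapDerivedCategoryFactors _ ≪≫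
      Functor.associator _ _ _ ≪≫ Functor.isoWhiskerLeft _ (homologyFunctorFactors _ i) ≪≫ e₀ ≪≫
      Functor.isoWhiskerRight (homologyFunctorFactors _ i).symm F ≪≫ Functor.associator _ _ _)

theorem isLE_Gd {K : DCoh.D X} (n : ℤ) [K.IsLE n] : ((Gd g).obj K).IsLE n :=
  (DerivedCategory.isLE_iff _ n).2 fun i hi =>
    ((Scheme.Modules.pullback g).map_isZero (DerivedCategory.isZero_of_isLE K n i hi)).of_iso ((sigma g i).app K)

theorem isGE_Gd {K : DCoh.D X} (n : ℤ) [K.IsGE n] : ((Gd g).obj K).IsGE n :=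
  (DerivedCategory.isGE_iff _ n).2 fun i hi =>
    ((Scheme.Modules.pullback g).map_isZero (DerivedCategory.isZero_of_isGE K n i hi)).of_iso ((sigma g i).app K)

/-- `g^* j_! O_U = j'_! O_{g⁻¹U}`, derived. -/
noncomputable def ptIso (U : X.Opens) :
    (Gd g).obj ((DQCoh.sec X).pt.obj U) ≅ (DQCoh.sec X').pt.obj (g ⁻¹ᵁ U) :=
  (Scheme.Modules.pullback g).mapDerivedCategoryFactors.app
      ((HomologicalComplex.single X.Modules (ComplexShape.up ℤ) 0).obj ((freeModOn X).obj U)) ≪≫
    Q.mapIso ((HomologicalComplex.singleMapHomologicalComplex (Scheme.Modules.pullback g) (ComplexShape.up ℤ) 0).app _ ≪≫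
      (HomologicalComplex.single X'.Modules (ComplexShape.up ℤ) 0).mapIso (DQCoh.pullFreeIso g U))

/-- Degree zero cohomology is linear. -/
theorem homology_map_smul_id {R : Type u} [CommRing R] {Y : Scheme.{u}} [Y.Over (Spec (CommRingCat.of R))]
    (K : DCoh.D Y) (r : R) (i : ℤ) :
    (homologyFunctor Y.Modules i).map (r • 𝟙 K) = r • 𝟙 ((homologyFunctor Y.Modules i).obj K) := by
  haveI : Functor.Linear R (HomologicalComplex.homologyFunctor Y.Modules (ComplexShape.up ℤ) i) :=
    ⟨fun φ r => ShortComplex.homologyMap_smul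
      ((HomologicalComplex.shortComplexFunctor Y.Modules (ComplexShape.up ℤ) i).map φ) r⟩
  haveI : Functor.Linear R (Q (C := Y.Modules) ⋙ homologyFunctor Y.Modules i) :=
    Functor.linear_of_iso R (homologyFunctorFactors Y.Modules i).symm
  let e := Q.objObjPreimageIso K
  have h1 : r • 𝟙 K = e.inv ≫ Q.map (r • 𝟙 (Q.objPreimage K)) ≫ e.hom := by simp [e]
  rw [h1, Functor.map_comp, Functor.map_comp, ← Functor.comp_map, Functor.map_smul,
    CategoryTheory.Functor.map_id]
  simp [← Functor.map_comp]

theorem bijective_conj {C : Type*} [Category C] {P P' Q Q' : C} (a : P' ⟶ P) (b : Q ⟶ Q') [IsIso a] [IsIso b] :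
    Function.Bijective (fun z : P ⟶ Q => a ≫ z ≫ b) := by
  refine Function.bijective_iff_has_inverse.2 ⟨fun w => inv a ≫ w ≫ inv b, fun z => ?_, fun w => ?_⟩ <;> simp

section Cartesian

variable [g.IsOver (Spec (CommRingCat.of A))] [Module.Flat A B]
  (h : IsPullback g (X' ↘ Spec (CommRingCat.of B)) (X ↘ Spec (CommRingCat.of A))
    (Spec.map (CommRingCat.ofHom (algebraMap A B))))
include h

theorem isAffineHom_g : IsAffineHom g :=
  MorphismProperty.of_isPullback (P := @IsAffineHom) h.flip inferInstance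

/-- The module statement on an affine open. -/
theorem bij_modules {U : X.Opens} (hU : IsAffineOpen U) (M : X.Modules) [Coh.IsQCoh M] :
    Bij A B (Scheme.Modules.pullback g) ((freeModOn X).obj U) M := by
  haveI := isAffineHom_g g h
  let U' : X'.Opens := g ⁻¹ᵁ U
  have hU' : IsAffineOpen U' := hU.preimage g
  let φ₀ := Coh.toGlobal (X ↘ Spec (CommRingCat.of A))
  let β₀ := Coh.toGlobal (X' ↘ Spec (CommRingCat.of B))
  have hp := isBCPushout_of_isPullback g h hU
  rw [IsBCPushout, g.app_eq_appLE] at hp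
  let P : X'.Modules := (Scheme.Modules.pullback g).obj M
  let rU : A →+* Γ(X, U) := (X.presheaf.map (homOfLE (le_top (a := U))).op).hom.comp φ₀
  let rU' : B →+* Γ(X', U') := (X'.presheaf.map (homOfLE (le_top (a := U'))).op).hom.comp β₀
  let _ : Algebra A Γ(X, U) := rU.toAlgebra
  let _ : Algebra Γ(X, U) Γ(X', U') := (g.appLE U U' le_rfl).hom.toAlgebra
  let _ : Algebra B Γ(X', U') := rU'.toAlgebra
  let _ : Algebra A Γ(X', U') := ((g.appLE U U' le_rfl).hom.comp rU).toAlgebra
  have : IsScalarTower A Γ(X, U) Γ(X', U') := .of_algebraMap_eq fun _ => rfl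
  have : IsScalarTower A B Γ(X', U') := .of_algebraMap_eq fun r => ConcreteCategory.congr_hom hp.w r
  have : Algebra.IsPushout A Γ(X, U) B Γ(X', U') := CommRingCat.isPushout_iff_isPushout.1 hp
  have : Algebra.IsPushout A B Γ(X, U) Γ(X', U') := Algebra.IsPushout.symm inferInstance
  let _ : Module A Γ(M, U) := Module.compHom _ rU
  have : IsScalarTower A Γ(X, U) Γ(M, U) := IsScalarTower.of_algebraMap_smul fun _ _ => rfl
  let _ : Module Γ(X, U) Γ(P, U') := Module.compHom _ (g.appLE U U' le_rfl).hom
  let _ : Module A Γ(P, U') := Module.compHom _ ((g.appLE U U' le_rfl).hom.comp rU)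
  let _ : Module B Γ(P, U') := Module.compHom _ rU'
  have : IsScalarTower Γ(X, U) Γ(X', U') Γ(P, U') := IsScalarTower.of_algebraMap_smul fun _ _ => rfl
  have : IsScalarTower A Γ(X, U) Γ(P, U') := IsScalarTower.of_algebraMap_smul fun _ _ => rfl
  have : IsScalarTower B Γ(X', U') Γ(P, U') := IsScalarTower.of_algebraMap_smul fun _ _ => rfl
  have : IsScalarTower A B Γ(P, U') := IsScalarTower.of_algebraMap_smul fun a m => by
    show rU' (algebraMap A B a) • m = g.appLE U U' le_rfl (rU a) • m
    rw [show rU' (algebraMap A B a) = g.appLE U U' le_rfl (rU a) from (ConcreteCategory.congr_hom hp.w a).symm]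
  obtain ⟨μ, hμ, hμe⟩ := EGA43.InjFibre.pullMap_isBaseChange g hU hU' le_rfl (M := M)
  have hb := (EGA43.Cons.isBaseChange_iff_of_isPushout (R := A) (T := B) (R' := Γ(X, U))
    (T' := Γ(X', U')) μ).1 hμ
  let e : ((freeModOn X).obj U ⟶ M) ≃ₗ[A] Γ(M, U) :=
    { secMod U M with
      map_smul' := fun a x => by
        show freeModOnEquiv U M (a • x) = rU a • freeModOnEquiv U M x
        rw [show a • x = x ≫ (a • 𝟙 M) by rw [Linear.comp_smul, Category.comp_id], freeModOnEquiv_comp,
          KLin.smul_app_apply]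
        rfl }
  let e' : ((Scheme.Modules.pullback g).obj ((freeModOn X).obj U) ⟶ P) ≃ₗ[B] Γ(P, U') :=
    { ((Scheme.Modules.pullbackPushforwardAdjunction g).homAddEquiv _ P).trans
        (secMod U ((Scheme.Modules.pushforward g).obj P)) with
      map_smul' := fun b x => by
        show freeModOnEquiv U _ ((Scheme.Modules.pullbackPushforwardAdjunction g).homEquiv _ P (b • x)) =
          (rU' b • (show Γ(P, U') from
            freeModOnEquiv U _ ((Scheme.Modules.pullbackPushforwardAdjunction g).homEquiv _ P x)) : Γ(P, U'))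
        rw [show b • x = x ≫ (b • 𝟙 P) by rw [Linear.comp_smul, Category.comp_id],
          Adjunction.homEquiv_naturality_right, freeModOnEquiv_comp]
        exact KLin.smul_app_apply b (𝟙 P) U' _ }
  have key : ∀ z, e' (BCFormal.lift A B (Scheme.Modules.pullback g) _ M z) = hb.equiv (LinearEquiv.baseChange A B _ _ e z) := fun z => by
    induction z using TensorProduct.induction_on with
    | zero => simp
    | add u v hu hv => simp only [map_add, hu, hv]
    | tmul b x =>
      rw [lift_tmul, map_smul, LinearEquiv.baseChange_tmul, IsBaseChange.equiv_tmul]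
      congr 1
      show freeModOnEquiv U _ ((Scheme.Modules.pullbackPushforwardAdjunction g).homEquiv _ P
        ((Scheme.Modules.pullback g).map x)) = μ (freeModOnEquiv U M x)
      rw [hμe, pullMap_eq_resM_pullSec g hU hU' le_rfl M, Adjunction.homEquiv_unit,
        (Scheme.Modules.pullbackPushforwardAdjunction g).unit_naturality, freeModOnEquiv_comp]
      exact (resM_refl _ _).symm
  exact (Function.Bijective.of_comp_iff' e'.bijective _).1
    ((funext key : (⇑e' ∘ _) = _) ▸ hb.equiv.bijective.comp (LinearEquiv.baseChange A B _ _ e).bijective)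

/-- The derived statement on an affine open. -/
theorem bij_pt {U : X.Opens} (hU : IsAffineOpen U) {K : DCoh.D X} (hK : DCoh.IsQCohD K)
    (hK' : DCoh.IsQCohD ((Gd g).obj K)) : Bij A B (Gd g) ((DQCoh.sec X).pt.obj U) K := by
  haveI := isAffineHom_g g h
  let S := DQCoh.sec X
  let S' := DQCoh.sec X'
  let U' : X'.Opens := g ⁻¹ᵁ U
  let H := homologyFunctor X.Modules 0
  let H' := homologyFunctor X'.Modules 0
  let F := Scheme.Modules.pullback g
  let τ : S.P.obj U ⟶ H.obj (S.pt.obj U) := S.θ (𝟙 _)
  haveI : IsIso τ := by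
    dsimp only [τ, SiteDer16.Sections.θ]
    haveI : IsIso (H.map (𝟙 (S.pt.obj U))) := Functor.map_isIso _ _
    infer_instance
  let τ' : S'.P.obj U' ⟶ H'.obj (S'.pt.obj U') := S'.θ (𝟙 _)
  haveI : IsIso τ' := by
    dsimp only [τ', SiteDer16.Sections.θ]
    haveI : IsIso (H'.map (𝟙 (S'.pt.obj U'))) := Functor.map_isIso _ _
    infer_instance
  let ε := ptIso g U
  let c : S'.P.obj U' ⟶ F.obj (S.P.obj U) :=
    τ' ≫ H'.map ε.inv ≫ (sigma g 0).hom.app _ ≫ F.map (inv τ)
  haveI : Coh.IsQCoh (H.obj K) := hK 0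
  let θ₁ : (S.pt.obj U ⟶ K) ≃ₗ[A] (S.P.obj U ⟶ H.obj K) :=
    LinearEquiv.ofBijective
      { toFun := fun y => S.θ y
        map_add' := fun y y' => by simp [SiteDer16.Sections.θ, H]
        map_smul' := fun a y => by
          show S.θ (a • y) = a • S.θ y
          rw [show a • y = y ≫ (a • 𝟙 K) by rw [Linear.comp_smul, Category.comp_id], S.θ_comp,
            homology_map_smul_id, Linear.comp_smul]
          exact congrArg (a • ·) (Category.comp_id _) }
      (DQCoh.bijective_θ K hK hU)
  let θ₂ : ((Gd g).obj (S.pt.obj U) ⟶ (Gd g).obj K) → (F.obj (S.P.obj U) ⟶ F.obj (H.obj K)) := fun z =>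
    inv c ≫ S'.θ (ε.inv ≫ z) ≫ (sigma g 0).hom.app K
  haveI : IsIso ((sigma g 0).hom.app K) := inferInstance
  have hθ₂ : Function.Bijective θ₂ :=
    (bijective_conj (inv c) ((sigma g 0).hom.app K)).comp
      ((DQCoh.bijective_θ ((Gd g).obj K) hK' (hU.preimage g)).comp (bijective_conj ε.inv (𝟙 _) |> fun hb => by
        simpa only [Category.comp_id] using hb))
  have hsmul : ∀ (b : B) z, θ₂ (b • z) = b • θ₂ z := fun b z => by
    simp only [θ₂]
    rw [show ε.inv ≫ (b • z) = (ε.inv ≫ z) ≫ (b • 𝟙 _) by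
      rw [Linear.comp_smul, Linear.comp_smul, Category.comp_id], S'.θ_comp, homology_map_smul_id, Linear.comp_smul,
      Linear.smul_comp, Linear.comp_smul]
    erw [Category.comp_id]
  have key : ∀ y : S.pt.obj U ⟶ K, θ₂ ((Gd g).map y) = F.map (S.θ y) := fun y => by
    have h1 : S.θ y = τ ≫ H.map y := by rw [← S.θ_comp, Category.id_comp]
    have h2 : S'.θ (ε.inv ≫ (Gd g).map y) = τ' ≫ H'.map ε.inv ≫ H'.map ((Gd g).map y) := by
      rw [← Functor.map_comp, ← S'.θ_comp, Category.id_comp]
    have h3 := (sigma g 0).hom.naturality y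
    dsimp at h3
    simp only [θ₂, h2, Category.assoc]
    rw [h3, IsIso.inv_comp_eq]
    simp only [c, h1, Functor.map_comp, Category.assoc]
    rw [← F.map_comp_assoc (inv τ), IsIso.inv_hom_id, CategoryTheory.Functor.map_id, Category.id_comp]
    rfl
  have hadd : ∀ z z', θ₂ (z + z') = θ₂ z + θ₂ z' := fun z z' => by
    simp only [θ₂, SiteDer16.Sections.θ, Preadditive.comp_add, Functor.map_add, Preadditive.add_comp]
  have hzero : θ₂ 0 = 0 := by
    have h0 := hsmul 0 0
    rwa [zero_smul, zero_smul] at h0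
  have e : θ₂ ∘ BCFormal.lift A B (Gd g) _ K =
      BCFormal.lift A B F _ (H.obj K) ∘ LinearEquiv.lTensor B θ₁ := by
    funext z
    induction z using TensorProduct.induction_on with
    | zero => simp only [Function.comp_apply, map_zero]; exact hzero
    | add u v hu hv =>
      simp only [Function.comp_apply, map_add] at hu hv ⊢
      rw [← hu, ← hv]
      exact hadd _ _
    | tmul b y =>
      simp only [Function.comp_apply, LinearEquiv.lTensor_tmul, lift_tmul, hsmul, key]
      rfl
  exact (Function.Bijective.of_comp_iff' hθ₂ _).1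
    (e ▸ (bij_modules g h hU (H.obj K)).comp (LinearEquiv.lTensor B θ₁).bijective)

omit h in
theorem isQCohD_Gd {K : DCoh.D X} (hK : DCoh.IsQCohD K) : DCoh.IsQCohD ((Gd g).obj K) := fun i =>
  haveI : Coh.IsQCoh ((homologyFunctor X.Modules i).obj K) := hK i
  isQCoh_of_iso ((sigma g i).app K).symm (h := EGA43.InjFibre.isQCoh_pullback g _)

theorem isDev_bij : DQCoh.IsDev (fun P : DCoh.D X => ∀ K, DCoh.IsQCohD K → Bij A B (Gd g) P K) where
  iso := fun e hP K hK => (hP K hK).of_iso e (Iso.refl K)
  zero := fun P hP K _ => bij_of_isZero hP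
  shift := fun P n hP K hK => ((hP (K⟦-n⟧) (DQCoh.isQCohD_shift hK (-n))).shift n).of_iso (Iso.refl _)
    ((shiftFunctorCompIsoId (DCoh.D X) (-n) n (by omega)).app K)
  ext := fun t ht h₁ h₃ K hK => by
    have hs : ∀ (P : DCoh.D X) (n : ℤ), (∀ K, DCoh.IsQCohD K → Bij A B (Gd g) P K) → Bij A B (Gd g) (P⟦n⟧) K :=
      fun P n hP => ((hP (K⟦-n⟧) (DQCoh.isQCohD_shift hK (-n))).shift n).of_iso (Iso.refl _)
        ((shiftFunctorCompIsoId (DCoh.D X) (-n) n (by omega)).app K)
    exact Bij.middle (triExact_of_isTriangulated _) ht (h₁ K hK) (hs _ 1 h₁) (h₃ K hK) (hs _ (-1) h₃)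

/-- Perfect sources. -/
theorem bij_perfect [CompactSpace X] [QuasiSeparatedSpace X] {P : DCoh.D X} (hP : DCoh.IsPerfect P) {K : DCoh.D X}
    (hK : DCoh.IsQCohD K) : Bij A B (Gd g) P K :=
  DQCoh.perfect_induction (isDev_bij g h)
    ((isDev_bij g h).of_affine fun _ hU K hK => bij_pt g h hU hK (isQCohD_Gd g hK)) P hP K hK

omit h in
theorem bij_of_orth {P K : DCoh.D X} (m n : ℤ) [P.IsLE m] [K.IsGE n] (hmn : m < n) : Bij A B (Gd g) P K := by
  let t : Triangulated.TStructure (DCoh.D X) := TStructure.t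
  let t' : Triangulated.TStructure (DCoh.D X') := TStructure.t
  haveI := isLE_Gd g (K := P) m
  haveI := isGE_Gd g (K := K) n
  have h1 : ∀ f : P ⟶ K, f = 0 := fun f => t.zero f m n hmn
  refine ⟨fun x y _ => ?_, fun y => ⟨0, (map_zero _).trans (t'.zero y m n hmn).symm⟩⟩
  have h0 : ∀ z : B ⊗[A] (P ⟶ K), z = 0 := fun z => by
    induction z using TensorProduct.induction_on with
    | zero => rfl
    | add a b ha hb => rw [ha, hb, add_zero]
    | tmul b x => rw [h1 x, tmul_zero]
  rw [h0 x, h0 y]

/-- Sources which are perfect up to a very negative cone. -/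
theorem bij_approx [CompactSpace X] [QuasiSeparatedSpace X] {t : Triangle (DCoh.D X)} (ht : t ∈ distTriang _)
    (hP : DCoh.IsPerfect t.obj₁) (m n : ℤ) [t.obj₃.IsLE m] {K : DCoh.D X} [K.IsGE n] (hK : DCoh.IsQCohD K)
    (hmn : m + 1 < n) : Bij A B (Gd g) t.obj₂ K := by
  let T : Triangulated.TStructure (DCoh.D X) := TStructure.t
  haveI : (t.obj₃⟦(-1 : ℤ)⟧).IsLE (m + 1) := T.isLE_shift _ m (-1) (m + 1) (by omega)
  exact Bij.middle (triExact_of_isTriangulated _) ht (bij_perfect g h hP hK)
    (((bij_perfect g h hP (DQCoh.isQCohD_shift hK (-1))).shift 1).of_iso (Iso.refl _)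
      ((shiftFunctorCompIsoId (DCoh.D X) (-1) 1 (by omega)).app K))
    (bij_of_orth g m n (by omega)) (bij_of_orth g (m + 1) n hmn)

end Cartesian

end Groth.Agent.Dual6Lib.HomFlat
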