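import Groth.Agent.Dual6Lib.BCFormal
import Groth.Agent.Dual22Lib.WeakExact
import Mathlib.Algebra.FiveLemma
import Mathlib.RingTheory.Flat.Basic
import Mathlib.CategoryTheory.Triangulated.Yoneda

/-!
# Base change of Hom groups along a linear functor: closure properties
-/

set_option autoImplicit false
set_option linter.style.haveILetI false
set_option linter.unusedSectionVars false

universe w v₁ v₂ v₃ v₄ u₁ u₂ u₃ u₄

open CategoryTheory CategoryTheory.Limits CategoryTheory.Pretriangulated TensorProduct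

namespace Groth.Agent.Dual6Lib.HomLift

open BCFormal
open Groth.Agent.Dual22Lib.WeakExact (TriExact)

variable (A B : Type w) [CommRing A] [CommRing B] [Algebra A B]
variable {C : Type u₁} [Category.{v₁} C] [Preadditive C] [Linear A C]
  {D : Type u₂} [Category.{v₂} D] [Preadditive D] [Linear A D] [Linear B D]
  [∀ X Y : D, IsScalarTower A B (X ⟶ Y)]

/-- `Hom(P, Q) ⊗ B = Hom(T P, T Q)`. -/
def Bij (T : C ⥤ D) [T.Additive] [T.Linear A] (P Q : C) : Prop :=
  Function.Bijective (lift A B T P Q)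

variable {A B} {T : C ⥤ D} [T.Additive] [T.Linear A]

theorem lift_tmul {P Q : C} (b : B) (x : P ⟶ Q) : lift A B T P Q (b ⊗ₜ x) = b • T.map x :=
  LinearMap.liftBaseChange_tmul _ _ _ _

theorem lift_pre {P P' Q : C} (α : P' ⟶ P) (z : B ⊗[A] (P ⟶ Q)) :
    lift A B T P' Q ((Linear.leftComp A Q α).lTensor B z) = T.map α ≫ lift A B T P Q z := by
  induction z using TensorProduct.induction_on with
  | zero => simp
  | add a b ha hb => simp [ha, hb]
  | tmul b x => simp [lift_tmul, Linear.leftComp, Linear.comp_smul]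

theorem lift_post {P Q Q' : C} (β : Q ⟶ Q') (z : B ⊗[A] (P ⟶ Q)) :
    lift A B T P Q' ((Linear.rightComp A P β).lTensor B z) = lift A B T P Q z ≫ T.map β := by
  induction z using TensorProduct.induction_on with
  | zero => simp
  | add a b ha hb => simp [ha, hb]
  | tmul b x => simp [lift_tmul, Linear.rightComp, Linear.smul_comp]

theorem Bij.of_iso {P P' Q Q' : C} (α : P ≅ P') (β : Q ≅ Q') (h : Bij A B T P Q) : Bij A B T P' Q' := by
  let u : (P' ⟶ Q') ≃ₗ[A] (P ⟶ Q) := Linear.homCongr A α.symm β.symm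
  let v : (T.obj P' ⟶ T.obj Q') ≃ (T.obj P ⟶ T.obj Q) := Iso.homCongr (T.mapIso α.symm) (T.mapIso β.symm)
  have key : (v ∘ lift A B T P' Q') = (lift A B T P Q) ∘ (LinearEquiv.lTensor B u) := by
    funext z
    induction z using TensorProduct.induction_on with
    | zero => simp [v]
    | add a b ha hb =>
      simp only [Function.comp_apply, map_add] at ha hb ⊢
      rw [← ha, ← hb]
      simp [v]
    | tmul b x => simp [v, u, lift_tmul, Linear.homCongr, Linear.smul_comp, Linear.comp_smul]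
  exact (Function.Bijective.of_comp_iff' v.bijective _).1 (key ▸ h.comp (LinearEquiv.lTensor B u).bijective)

theorem bij_of_isZero {P Q : C} [T.PreservesZeroMorphisms] (hP : IsZero P) : Bij A B T P Q := by
  have h1 : Subsingleton (P ⟶ Q) := ⟨fun a b => hP.eq_of_src a b⟩
  refine ⟨fun x y _ => ?_, fun y => ⟨0, (T.map_isZero hP).eq_of_src _ _⟩⟩
  have h0 : ∀ z : B ⊗[A] (P ⟶ Q), z = 0 := fun z => by
    induction z using TensorProduct.induction_on with
    | zero => rfl
    | add a b ha hb => rw [ha, hb, add_zero]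
    | tmul b x => rw [Subsingleton.elim x 0, tmul_zero]
  rw [h0 x, h0 y]

section Shift

variable [HasShift C ℤ] [HasShift D ℤ] [T.CommShift ℤ] [∀ n : ℤ, (shiftFunctor C n).Additive]
  [∀ n : ℤ, (shiftFunctor D n).Additive] [∀ n : ℤ, (shiftFunctor C n).Linear A]
  [∀ n : ℤ, (shiftFunctor D n).Linear B]

theorem Bij.shift {P Q : C} (h : Bij A B T P Q) (n : ℤ) : Bij A B T (P⟦n⟧) (Q⟦n⟧) := by
  let u : (P ⟶ Q) ≃ₗ[A] (P⟦n⟧ ⟶ Q⟦n⟧) :=
    LinearEquiv.ofBijective ((shiftFunctor C n).mapLinearMap A)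
      ⟨(shiftFunctor C n).map_injective, (shiftFunctor C n).map_surjective⟩
  let v : (T.obj P ⟶ T.obj Q) ≃ₗ[B] (T.obj (P⟦n⟧) ⟶ T.obj (Q⟦n⟧)) :=
    (LinearEquiv.ofBijective ((shiftFunctor D n).mapLinearMap B)
      ⟨(shiftFunctor D n).map_injective, (shiftFunctor D n).map_surjective⟩).trans
        (Linear.homCongr B ((T.commShiftIso n).app P).symm ((T.commShiftIso n).app Q).symm)
  have key : (v ∘ lift A B T P Q) = (lift A B T (P⟦n⟧) (Q⟦n⟧)) ∘ (LinearEquiv.lTensor B u) := by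
    funext z
    induction z using TensorProduct.induction_on with
    | zero => simp
    | add a b ha hb =>
      simp only [Function.comp_apply, map_add] at ha hb ⊢
      rw [← ha, ← hb]
    | tmul b x =>
      simp only [Function.comp_apply, LinearEquiv.lTensor_tmul, lift_tmul, map_smul]
      congr 1
      have hn := (T.commShiftIso n).hom.naturality x
      dsimp at hn
      simp only [v, u, LinearEquiv.trans_apply, LinearEquiv.ofBijective_apply, Functor.coe_mapLinearMap,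
        Linear.homCongr_apply, Iso.symm_hom, Iso.symm_inv, Iso.app_hom, Iso.app_inv]
      simp only [Category.assoc]
      rw [← reassoc_of% hn, Iso.hom_inv_id_app]
      simp
  exact (Function.Bijective.of_comp_iff _ (LinearEquiv.lTensor B u).bijective).1
    (key ▸ v.bijective.comp h)

end Shift

section Tri

variable [HasZeroObject C] [HasShift C ℤ] [∀ n : ℤ, (shiftFunctor C n).Additive] [Pretriangulated C]
  [HasZeroObject D] [HasShift D ℤ] [∀ n : ℤ, (shiftFunctor D n).Additive] [Pretriangulated D]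

theorem exact_leftComp {X Y Z : C} {f : X ⟶ Y} {g : Y ⟶ Z} {h : Z ⟶ X⟦(1 : ℤ)⟧}
    (hT : Triangle.mk f g h ∈ distTriang _) (Q : C) :
    Function.Exact (Linear.leftComp A Q g) (Linear.leftComp A Q f) := fun x => by
  constructor
  · intro hx
    obtain ⟨y, hy⟩ := Triangle.yoneda_exact₂ _ hT x hx
    exact ⟨y, hy.symm⟩
  · rintro ⟨y, rfl⟩
    show f ≫ g ≫ y = 0
    rw [← Category.assoc]
    erw [comp_distTriang_mor_zero₁₂ _ hT]
    exact zero_comp

theorem exact_comp {X Y Z : D} {f : X ⟶ Y} {g : Y ⟶ Z} {h : Z ⟶ X⟦(1 : ℤ)⟧}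
    (hT : Triangle.mk f g h ∈ distTriang _) (Q : D) :
    Function.Exact (fun x : Z ⟶ Q => g ≫ x) (fun x : Y ⟶ Q => f ≫ x) := fun x => by
  constructor
  · intro hx
    obtain ⟨y, hy⟩ := Triangle.yoneda_exact₂ _ hT x hx
    exact ⟨y, hy.symm⟩
  · rintro ⟨y, rfl⟩
    show f ≫ g ≫ y = 0
    rw [← Category.assoc]
    erw [comp_distTriang_mor_zero₁₂ _ hT]
    exact zero_comp

theorem exact_pair [Module.Flat A B] (hT : TriExact T) {t : Triangle C} (ht : t ∈ distTriang _) (Q : C) :
    Function.Exact ((Linear.leftComp A Q t.mor₂).lTensor B) ((Linear.leftComp A Q t.mor₁).lTensor B) ∧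
    Function.Exact (fun x : T.obj t.obj₃ ⟶ T.obj Q => T.map t.mor₂ ≫ x)
      (fun x : T.obj t.obj₂ ⟶ T.obj Q => T.map t.mor₁ ≫ x) := by
  refine ⟨Module.Flat.lTensor_exact B (exact_leftComp (h := t.mor₃) ht Q), ?_⟩
  obtain ⟨δ, hδ⟩ := hT t ht
  exact exact_comp hδ (T.obj Q)

/-- Two out of three. -/
theorem Bij.middle [Module.Flat A B] (hT : TriExact T) {t : Triangle C} (ht : t ∈ distTriang _) {Q : C}
    (h₁ : Bij A B T t.obj₁ Q) (h₁' : Bij A B T (t.obj₁⟦(1 : ℤ)⟧) Q) (h₃ : Bij A B T t.obj₃ Q)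
    (h₃' : Bij A B T (t.obj₃⟦(-1 : ℤ)⟧) Q) : Bij A B T t.obj₂ Q := by
  obtain ⟨e1, e1'⟩ := exact_pair (A := A) (B := B) hT (rot_of_distTriang _ ht) Q
  obtain ⟨e2, e2'⟩ := exact_pair (A := A) (B := B) hT ht Q
  obtain ⟨e3, e3'⟩ := exact_pair (A := A) (B := B) hT (inv_rot_of_distTriang _ ht) Q
  let pre : ∀ {X Y : C} (_ : X ⟶ Y), (T.obj Y ⟶ T.obj Q) →+ (T.obj X ⟶ T.obj Q) := fun {X Y} α =>
    Preadditive.leftComp _ (T.map α)
  exact AddMonoidHom.bijective_of_surjective_of_bijective_of_bijective_of_injective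
    (f₁ := ((Linear.leftComp A Q t.rotate.mor₂).lTensor B).toAddMonoidHom)
    (f₂ := ((Linear.leftComp A Q t.mor₂).lTensor B).toAddMonoidHom)
    (f₃ := ((Linear.leftComp A Q t.mor₁).lTensor B).toAddMonoidHom)
    (f₄ := ((Linear.leftComp A Q t.invRotate.mor₁).lTensor B).toAddMonoidHom)
    (g₁ := pre t.rotate.mor₂) (g₂ := pre t.mor₂) (g₃ := pre t.mor₁) (g₄ := pre t.invRotate.mor₁)
    (i₁ := (lift A B T _ Q).toAddMonoidHom) (i₂ := (lift A B T _ Q).toAddMonoidHom)
    (i₃ := (lift A B T _ Q).toAddMonoidHom) (i₄ := (lift A B T _ Q).toAddMonoidHom)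
    (i₅ := (lift A B T _ Q).toAddMonoidHom)
    (AddMonoidHom.ext fun z => (lift_pre _ z).symm) (AddMonoidHom.ext fun z => (lift_pre _ z).symm)
    (AddMonoidHom.ext fun z => (lift_pre _ z).symm) (AddMonoidHom.ext fun z => (lift_pre _ z).symm)
    e1 e2 e3 e1' e2' e3' h₁'.2 h₃ h₁ h₃'.1

end Tri

end Groth.Agent.Dual6Lib.HomLift
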