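import Groth.Agent.Dual6Lib.RelRigid
import Groth.Agent.Dual6Lib.FundDerived
import Groth.Agent.FundLocal.SmoothImm
import Groth.Agent.KvbLam28.Basic
import Groth.Agent.DualLib.ShriekCM
import Groth.Agent.DualLib.ShriekFlatSheaf
import Groth.Agent.Unram17Lib.RelDim
import Groth.Agent.SDiv28.SmoothRegImm
import Groth.Agent.S0342
import Groth.Agent.CAlgH3.RegularCore
import Groth.Agent.DQCoh.BettiRank

/-!
# `f^! O = Ω^n[n]` for smooth `f`
-/

set_option autoImplicit false
set_option backward.isDefEq.respectTransparency false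
set_option backward.defeqAttrib.useBackward true
set_option linter.style.haveILetI false
set_option linter.unusedSectionVars false
set_option synthInstance.maxHeartbeats 100000

universe u

open CategoryTheory CategoryTheory.Limits AlgebraicGeometry HomologicalComplex
open Groth.Agent.DCat Groth.Agent.DualLib Groth.Agent.Dual22Lib Groth.Agent.SerreDual Groth.Agent.Coherent Groth.Agent.AmpleLib

attribute [local instance] HasDerivedCategory.standard
attribute [-instance] Int.instConditionallyCompleteLinearOrder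

namespace Groth.Agent.Dual6Lib.SmoothShriek

variable [∀ (U V : Scheme.{u}) (j : U ⟶ V) [IsOpenImmersion j], PreservesFiniteLimits (Scheme.Modules.restrictFunctor j)]
  [∀ (S : CommRingCat.{u}), PreservesFiniteLimits (tilde.functor S)]
  {X Y : Scheme.{u}} [IsNoetherian Y] {f : X ⟶ Y}

/-- Smooth morphisms are Gorenstein. -/
theorem gorAt (f : X ⟶ Y) [Smooth f] (x : X) : Dual3.IsGorensteinAt f x :=
  ⟨Flat.stalkMap f x, @S0342.result _ _ (SDiv28.SmoothRegImm.isRegularLocalRing_fiberStalk f x)⟩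

/-- Smooth morphisms are Cohen–Macaulay. -/
theorem cmAt (f : X ⟶ Y) [Smooth f] (x : X) : MoreMor.IsCMAt f x :=
  ⟨Flat.stalkMap f x, @CAlgH3.isCohenMacaulayLocalRing_of_regular _ _
    (SDiv28.SmoothRegImm.isRegularLocalRing_fiberStalk f x)⟩

variable (n : ℕ) [SmoothOfRelativeDimension n f] (c : DEt.Compactification f) [DCoh.HasRpush c.fbar]
  (hc : DCoh.RpushPreservesQCoh c.fbar) (a : DCoh.DQCoh Y ⥤ DCoh.DQCoh c.Xbar) (adj : DCoh.RpushQ c.fbar hc ⊣ a)
  (O : DCoh.DQCoh Y) (hO : Nonempty (O.obj ≅ DCoh.inD Y (Coh.structureModule Y)))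

include adj hO in
/-- `f^! O` is a shifted line bundle. -/
theorem exists_line : ∃ L' : X.Modules, PicF.IsInvertible L' ∧
    Nonempty ((Dual3.shriekC c a).obj O ≅ (DCoh.inD X L')⟦(n : ℤ)⟧) := by
  haveI : Smooth f := SmoothOfRelativeDimension.smooth n f
  haveI : Flat f := inferInstance
  haveI : LocallyOfFiniteType f := inferInstance
  let G := (Dual3.shriekC c a).obj O
  have hfd : ∀ x, FlatMor.fibreDimAt f x = (n : WithBot ℕ∞) := fun x =>
    Unram17Lib.fibreDimAt_of_smoothOfRelativeDimension f n x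
  obtain ⟨hcz, -, -⟩ := ShriekFlatSheaf.concentrated (f := f) G (-(n : ℤ)) fun x => by
    obtain ⟨C⟩ := ShriekLocal.nonempty_chart c hc a adj O hO x
    haveI := ShriekGor.flat_chart C
    refine ⟨C, ShriekCM.amp_top (Shriek.hasTorAmplitudeIn_shriekVia C.ψ C.surj C.adj n fun y => ?_) (-(n : ℤ))
      fun i hi => ?_⟩
    · rw [ShriekCM.fibreDimAt_chartPt C y]
      exact (hfd _).le
    · haveI : Subsingleton (Dual.HD C.B (Dual2.shriekVia C.n C.Rψ (Dual.inD C.R C.R)) i) :=
        (Module.support_eq_empty_iff (R := C.B)).1 (Set.eq_empty_of_forall_notMem fun y =>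
          (ShriekCM.support_of_cm (ShriekCM.chartAt C y) n (hfd _) (cmAt f _)).1 i hi)
      exact @Function.Injective.subsingleton _ _ _
        (DRingLib.hfRestrictIso (algebraMap C.R C.B) _ i).toLinearEquiv.injective ‹_›
  haveI : G.IsGE (-(n : ℤ)) := (DerivedCategory.isGE_iff _ _).2 fun i hi => hcz i (by omega)
  haveI : G.IsLE (-(n : ℤ)) := (DerivedCategory.isLE_iff _ _).2 fun i hi => hcz i (by omega)
  obtain ⟨L', ⟨e⟩⟩ := DerivedCategory.exists_iso_singleFunctor_obj_of_isGE_of_isLE G (-(n : ℤ))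
  let e' : G ≅ (DCoh.inD X L')⟦(n : ℤ)⟧ :=
    e ≪≫ (((DerivedCategory.singleFunctors X.Modules).shiftIso (n : ℤ) (-(n : ℤ)) 0 (by omega)).app L').symm
  refine ⟨L', fun x => ?_, ⟨e'⟩⟩
  obtain ⟨C⟩ := ShriekLocal.nonempty_chart c hc a adj O hO x
  obtain ⟨U, hxU, hU⟩ := (ShriekGor.invertible_chart_iff C).2 ((ShriekGor.gorAt_chart_iff C).1 (gorAt f x))
  obtain ⟨V, m, hxV, ⟨eV⟩⟩ := hU ⟨x, hxU⟩
  let l : (V : Scheme.{u}) ⟶ X := V.ι ≫ U.ι
  obtain ⟨cV⟩ := DCat.PerfLocal.rd_comp V.ι U.ι G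
  let k : (DCoh.restrictD l).obj G ≅
      (DCoh.inD (V : Scheme.{u}) (Coh.structureModule (V : Scheme.{u})))⟦m⟧ := cV ≪≫ eV
  have hx : x ∈ l.opensRange := ⟨⟨⟨x, hxU⟩, hxV⟩, rfl⟩
  have hH : ∀ i : ℤ, Nonempty ((DCoh.HD G i).restrict l ≅
      DCoh.HD (DCoh.inD (V : Scheme.{u}) (Coh.structureModule (V : Scheme.{u}))) (m + i)) := fun i =>
    ⟨(SuppOpen.hdMapIso (Scheme.Modules.restrictFunctor l) G i).symm ≪≫
      (DerivedCategory.homologyFunctor _ i).mapIso k ≪≫
      ((DerivedCategory.homologyFunctor (V : Scheme.{u}).Modules 0).shiftIso m i (m + i) rfl).app _⟩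
  have hm : m = (n : ℤ) := by
    by_contra hne
    obtain ⟨h⟩ := hH (-m)
    have hz : IsZero (Coh.structureModule (V : Scheme.{u})) :=
      (((Scheme.Modules.restrictFunctor l).map_isZero (hcz (-m) (by omega))).of_iso
        (h ≪≫ (DerivedCategory.homologyFunctor _ _).mapIso (Iso.refl _)).symm).of_iso
        (((DerivedCategory.singleFunctorCompHomologyFunctorIso (V : Scheme.{u}).Modules 0).app _).symm ≪≫
          eqToIso (by rw [add_neg_cancel]; rfl))
    haveI : Nonempty ↥(V : Scheme.{u}) := ⟨⟨⟨x, hxU⟩, hxV⟩⟩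
    haveI : Nonempty ↥(⊤ : (V : Scheme.{u}).Opens) := ⟨⟨⟨⟨x, hxU⟩, hxV⟩, trivial⟩⟩
    have h01 : (1 : Γ((V : Scheme.{u}), ⊤)) = 0 :=
      congrArg (fun φ => φ.app ⊤ (show Γ((V : Scheme.{u}), ⊤) from 1)) (IsZero.iff_id_eq_zero _ |>.1 hz)
    exact one_ne_zero h01
  obtain ⟨h⟩ := hH (-(n : ℤ))
  refine ⟨l.opensRange, hx, ?_⟩
  let eL : DCoh.HD G (-(n : ℤ)) ≅ L' := (DerivedCategory.homologyFunctor X.Modules _).mapIso e ≪≫
    (DerivedCategory.singleFunctorCompHomologyFunctorIso X.Modules _).app L'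
  let eV' : L'.restrict l ≅ Coh.structureModule (V : Scheme.{u}) :=
    (Scheme.Modules.restrictFunctor l).mapIso eL.symm ≪≫ h ≪≫
      eqToIso (by rw [show m + -(n : ℤ) = 0 by omega]; rfl) ≪≫
      (DerivedCategory.singleFunctorCompHomologyFunctorIso (V : Scheme.{u}).Modules 0).app _
  exact ⟨((Scheme.Modules.restrictFunctorCongr l.isoOpensRange_inv_comp).app L').symm ≪≫
    (Scheme.Modules.restrictFunctorComp l.isoOpensRange.inv l).app L' ≪≫
    (Scheme.Modules.restrictFunctor l.isoOpensRange.inv).mapIso eV' ≪≫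
    Scheme.Modules.restrictUnitIso _⟩

include adj hO in
/-- **`f^! O = Ω^n[n]`.** -/
theorem nonempty_iso [IsSeparated f] [QuasiCompact f] {L : X.Modules} (hL : ExtPow.IsExtPow n (Omega.sheaf f) L) :
    Nonempty ((Dual3.shriekC c a).obj O ≅ (DCoh.inD X L)⟦(n : ℤ)⟧) := by
  haveI : Smooth f := SmoothOfRelativeDimension.smooth n f
  haveI : LocallyOfFiniteType f := inferInstance
  haveI : IsLocallyNoetherian X := LocallyOfFiniteType.isLocallyNoetherian f
  obtain ⟨L', hL', ⟨e⟩⟩ := exists_line n c hc a adj O hO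
  haveI := DCat.hasLpull (pullback.fst f f)
  haveI := ExtSS.preservesFiniteLimits_pushforward (pullback.diagonal f)
  haveI := ExtSS.preservesFiniteColimits_pushforward (pullback.diagonal f)
  haveI := S3630.result X (pullback f f) (pullback.diagonal f)
  obtain ⟨d⟩ := RelRigid.nonempty_diag f c hc a adj O hO
  obtain ⟨_, _⟩ := DCat.PullPerf.exists_commShift_Lpull (pullback.fst f f)
  obtain ⟨b⟩ := DQCoh.nonempty_Lpull_inD (pullback.fst f f) (SerreDual.isFinLocFree_of_invertible hL')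
  let F := (Scheme.Modules.pullback (pullback.fst f f)).obj L'
  haveI : Coh.IsQCoh F := CAlgH3.LocFreeFactor.isQCoh_of_finLocFree
    (DCat.PullPerf.isFinLocFree_pullback (pullback.fst f f) (SerreDual.isFinLocFree_of_invertible hL'))
  let eF : (DCoh.Lpull (pullback.fst f f)).obj ((Dual3.shriekC c a).obj O) ≅ (DCoh.inD _ F)⟦(n : ℤ)⟧ :=
    (DCoh.Lpull (pullback.fst f f)).mapIso e ≪≫ ((DCoh.Lpull (pullback.fst f f)).commShiftIso (n : ℤ)).app _ ≪≫
      (shiftFunctor _ (n : ℤ)).mapIso b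
  haveI : SmoothOfRelativeDimension 0 (𝟙 X) := inferInstance
  haveI := smoothOfRelativeDimension_isStableUnderBaseChange n
  haveI : SmoothOfRelativeDimension n (pullback.snd f f) :=
    MorphismProperty.pullback_snd (P := @SmoothOfRelativeDimension n) _ _ ‹_›
  obtain ⟨hreg, -, -⟩ := FundLocal.regular_of_smooth (pullback.diagonal f) (pullback.snd f f) (𝟙 X)
    (pullback.diagonal_snd f) n 0
  rw [Nat.sub_zero] at hreg
  obtain ⟨t⟩ := FundDerived.nonempty_det (pullback.diagonal f) n hreg F hL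
    ((ClosedShriek.RHomOD (pullback.diagonal f)).mapIso eF.symm ≪≫ d)
  have hLi : PicF.IsInvertible L :=
    Canon15.isInvertible_of_isExtPow (FundLocal.isFinLocFreeOfRank_conormal _ hreg) hL
  let M := (Scheme.Modules.pullback (pullback.diagonal f)).obj F
  let eM : M ≅ L' :=
    (Scheme.Modules.pullbackComp (pullback.diagonal f) (pullback.fst f f)).app L' ≪≫
      (Scheme.Modules.pullbackCongr (pullback.diagonal_fst f)).app L' ≪≫ (Scheme.Modules.pullbackId X).app L'
  haveI := isIso_eval hLi M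
  let eL : L' ≅ L := eM.symm ≪≫ (asIso (evalBilin L M).desc).symm ≪≫ AmpleLib.tensorIso (Iso.refl L) t ≪≫
    tensorComm _ _ ≪≫ unitTensorIso L
  exact ⟨e ≪≫ (shiftFunctor _ (n : ℤ)).mapIso ((DerivedCategory.singleFunctor X.Modules 0).mapIso eL)⟩

end Groth.Agent.Dual6Lib.SmoothShriek
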