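import Groth.Agent.Dual6Lib.SmoothDegree
import Groth.Agent.DualLib.OmegaField
import Groth.Agent.DualLib.LocalDepth
import Groth.Agent.DualLib.LocSupport
import Groth.Agent.DualLib.ChartCompare
import Groth.Agent.FlatMorLocalStr.Chart
import Groth.Agent.DCat.PullPerf

/-! The dualizing complex `a(ω)` of a scheme proper over a local ring, `ω` normalized. -/

set_option autoImplicit false
set_option backward.isDefEq.respectTransparency false
set_option backward.defeqAttrib.useBackward true
set_option linter.style.haveILetI false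
set_option linter.unusedSectionVars false
set_option synthInstance.maxHeartbeats 100000

universe u

open CategoryTheory CategoryTheory.Limits AlgebraicGeometry DerivedCategory
open Groth.Agent.DCat Groth.Agent.Dual22Lib
open Groth.Agent.DualLib (E deg deg_spec extD isDualizing_extD exists_normalized isDualizing_shift nonempty_HD_tensor eSelf)

attribute [local instance] HasDerivedCategory.standard
attribute [-instance] Int.instConditionallyCompleteLinearOrder

namespace Groth.Agent.Dual6Lib.ProperLocal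

open Groth.Agent

section Algebra

variable {A : Type u} [CommRing A] [IsLocalRing A] [IsNoetherianRing A] {ω : Dual.D A}

/-- A closed point of affine space over the closed point is rational up to a finite extension. -/
theorem trd_maximal {P : Type u} [CommRing P] [Algebra A P] [Algebra.FiniteType A P] (M : Ideal P) [M.IsMaximal]
    (hM : M.comap (algebraMap A P) = IsLocalRing.maximalIdeal A) :
    EGA43.FibDepth.trd A ⟨M, inferInstance⟩ = 0 := by
  haveI : (M.comap (algebraMap A P)).IsMaximal := hM ▸ inferInstance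
  let φ := Ideal.ResidueField.map (M.comap (algebraMap A P)) M (algebraMap A P) rfl
  letI := φ.toAlgebra
  haveI : IsScalarTower A (M.comap (algebraMap A P)).ResidueField M.ResidueField :=
    IsScalarTower.of_algebraMap_eq fun a => ((Ideal.ResidueField.map_algebraMap _ _ _ rfl a).trans
      (IsScalarTower.algebraMap_apply A P M.ResidueField a).symm).symm
  haveI : Algebra.FiniteType A M.ResidueField :=
    Algebra.FiniteType.of_surjective (IsScalarTower.toAlgHom A P M.ResidueField) fun z => by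
      obtain ⟨w, rfl⟩ := M.bijective_algebraMap_quotient_residueField.2 z
      obtain ⟨v, rfl⟩ := Ideal.Quotient.mk_surjective w
      exact ⟨v, rfl⟩
  haveI : Algebra.FiniteType (M.comap (algebraMap A P)).ResidueField M.ResidueField :=
    Algebra.FiniteType.of_restrictScalars_finiteType A _ _
  haveI : Module.Finite (M.comap (algebraMap A P)).ResidueField M.ResidueField :=
    finite_of_finite_type_of_isJacobsonRing _ _
  haveI : Algebra.IsAlgebraic (M.comap (algebraMap A P)).ResidueField M.ResidueField := Algebra.IsAlgebraic.of_finite _ _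
  show (Algebra.trdeg (M.comap (algebraMap A P)).ResidueField M.ResidueField).toNat = 0
  rw [trdeg_eq_zero]
  exact map_zero _

/-- The degree of a closed point of `A^n` over the closed point, for `ω ⊗ A[x]`, is `n`. -/
theorem degree_affineSpace (hω : Dual.IsDualizing A ω) (hn : Dual.IsNormalized A ω) (n : ℕ)
    [DRing.HasLBaseChange (algebraMap A (MvPolynomial (Fin n) A))]
    (M : Ideal (MvPolynomial (Fin n) A)) [M.IsMaximal] (hM : M.comap (algebraMap A (MvPolynomial (Fin n) A)) = IsLocalRing.maximalIdeal A)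
    (i : ℤ) :
    (⟨M, inferInstance⟩ : PrimeSpectrum (MvPolynomial (Fin n) A)) ∈ Module.support (MvPolynomial (Fin n) A)
      (E ((DRing.LBaseChange (algebraMap A (MvPolynomial (Fin n) A))).obj ω) (MvPolynomial (Fin n) A ⧸ M) i) ↔ i = (n : ℤ) := by
  let P := MvPolynomial (Fin n) A
  let P' := Localization.AtPrime M
  haveI : IsNoetherianRing P' := IsLocalization.isNoetherianRing M.primeCompl P' inferInstance
  haveI : Module.Flat A P := inferInstance
  haveI : Module.Flat A P' := Module.Flat.trans A P P'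
  haveI : Module.Flat P P' := IsLocalization.flat P' M.primeCompl
  haveI := DualLib.preservesFiniteLimits_flat (A := A) (B := P')
  haveI := DualLib.preservesFiniteColimits_ext (A := A) (B := P')
  haveI := DualLib.preservesFiniteLimits_flat (A := A) (B := P)
  haveI := DualLib.preservesFiniteColimits_ext (A := A) (B := P)
  haveI := DualLib.preservesFiniteLimits_flat (A := P) (B := P')
  haveI := DualLib.preservesFiniteColimits_ext (A := P) (B := P')
  haveI : Algebra.Smooth A P := ⟨inferInstance, inferInstance⟩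
  obtain ⟨eL⟩ := DualLib.nonempty_LBaseChange_iso (RingHom.flat_algebraMap_iff.2 (inferInstance : Module.Flat A P)) ω
  let ωP := (DRing.LBaseChange (algebraMap A P)).obj ω
  have hωP : Dual.IsDualizing P ωP := DualLib.isDualizing_LBaseChange_smooth hω
  obtain ⟨a, b, ha, -⟩ := DualLib.exists_bound hωP
  obtain ⟨ec⟩ := DualLib.nonempty_extD_comp (algebraMap A P) (algebraMap P P') (algebraMap A P')
    (IsScalarTower.algebraMap_eq A P P').symm ω
  let W := (DualLib.extD (algebraMap A P')).obj ω
  let e : (DualLib.extD (algebraMap P P')).obj ωP ≅ W := (DualLib.extD (algebraMap P P')).mapIso eL ≪≫ ec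
  have hW : Dual.IsDualizing P' W := DualLib.isDualizing_of_iso e (DualLib.isDualizing_extD M.primeCompl hωP)
  have key := DualLib.mem_support_iff_eq_deg (A := P) (B := P') M.primeCompl hW e ha
    (IsLocalRing.closedPoint P') i inferInstance
  have hc : PrimeSpectrum.comap (algebraMap P P') (IsLocalRing.closedPoint P') = (⟨M, inferInstance⟩ : PrimeSpectrum P) :=
    PrimeSpectrum.ext (IsLocalization.AtPrime.comap_maximalIdeal P' M)
  rw [hc] at key
  refine key.trans ?_
  suffices h : (n : ℤ) = deg hW (IsLocalRing.closedPoint P') by rw [h]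
  refine (deg_spec hW _ _).1 ?_
  -- the fibre
  have hsmooth : FlatCA.SmoothRelDim n A P := by
    refine (HasRingHomProperty.Spec_iff (P := @SmoothOfRelativeDimension n)).2 ?_
    refine RingHom.locally_of (RingHom.isStandardSmoothOfRelativeDimension_respectsIso (n := n)) _ ?_
    exact (RingHom.isStandardSmoothOfRelativeDimension_algebraMap n).2
      (FlatMorLocalStr.isStandardSmoothOfRelativeDimension_mvPolynomial A n)
  obtain ⟨hreg, m, hm, hmn⟩ := SmoothDegree.fibre_data hsmooth M
  rw [trd_maximal M hM, add_zero] at hmn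
  subst hmn
  have hmap : (IsLocalRing.maximalIdeal A).map (algebraMap A P') =
      (M.comap (algebraMap A P)).map (algebraMap A P') := by rw [hM]
  let eq' : (P' ⧸ (IsLocalRing.maximalIdeal A).map (algebraMap A P')) ≃+* EGA4.FibLocRing A P M :=
    Ideal.quotEquivOfEq hmap
  haveI := hreg
  obtain ⟨-, ⟨eE⟩⟩ := SmoothDegree.isDualIn_residue_add m _ (IsRegularLocalRing.of_ringEquiv eq'.symm)
    ((ringKrullDim_eq_of_ringEquiv eq').trans hm) 0 (DualLib.isDualIn_fibre (B := P') hω hn)
  rw [zero_add] at eE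
  haveI : Nontrivial (E W (IsLocalRing.ResidueField P') (m : ℤ)) := eE.toEquiv.nontrivial
  haveI : Module.Finite P' (IsLocalRing.ResidueField P') :=
    Module.Finite.of_surjective (Algebra.linearMap P' _) IsLocalRing.residue_surjective
  haveI : Module.Finite P' (E W (IsLocalRing.ResidueField P') (m : ℤ)) := Module.Finite.equiv eE.symm
  exact IsLocalRing.closedPoint_mem_support P' (E W (IsLocalRing.ResidueField P') (m : ℤ))

variable {B : Type u} [CommRing B] [IsNoetherianRing B] [Algebra A B] {n : ℕ}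
  (ψ : MvPolynomial (Fin n) A →ₐ[A] B) (hψ : Function.Surjective ψ)
  [DRing.HasLBaseChange (algebraMap A (MvPolynomial (Fin n) A))]
  {Rψ : Dual.D (MvPolynomial (Fin n) A) ⥤ Dual.D B} (adj : DRing.restrictD ψ.toRingHom ⊣ Rψ)

include hψ adj in
/-- Maximal ideals over the closed point have degree zero. -/
theorem deg_shriekVia (hω : Dual.IsDualizing A ω) (hn : Dual.IsNormalized A ω)
    (hD : Dual.IsDualizing B (Dual2.shriekVia n Rψ ω)) (y : PrimeSpectrum B) (hy : y.asIdeal.IsMaximal)
    (hym : y.asIdeal.comap (algebraMap A B) = IsLocalRing.maximalIdeal A) : deg hD y = 0 := by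
  let P := MvPolynomial (Fin n) A
  letI : Algebra P B := ψ.toRingHom.toAlgebra
  let X := Rψ.obj ((DRing.LBaseChange (algebraMap A P)).obj ω)
  let j := deg hD y
  have h1 : y ∈ Module.support B (E (X⟦(n : ℤ)⟧) (B ⧸ y.asIdeal) j) := (deg_spec hD y j).2 rfl
  let sh : E (X⟦(n : ℤ)⟧) (B ⧸ y.asIdeal) j ≃ₗ[B] E X (B ⧸ y.asIdeal) ((n : ℤ) + j) :=
    Linear.homCongr B (Iso.refl _) ((shiftFunctorAdd' (Dual.D B) (n : ℤ) j ((n : ℤ) + j) rfl).app X).symm
  rw [LinearEquiv.support_eq sh] at h1
  haveI : (y.asIdeal.comap (algebraMap P B)).IsMaximal := Ideal.comap_isMaximal_of_surjective (algebraMap P B) hψ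
  have h2 := (Dual22Lib.nontrivial_localized_E_obj_iff (A := P) (B := B) hψ adj
    ((DRing.LBaseChange (algebraMap A P)).obj ω) y.asIdeal ((n : ℤ) + j)).1 (Module.mem_support_iff.1 h1)
  have h3 := (degree_affineSpace hω hn n (y.asIdeal.comap (algebraMap P B)) ?_ ((n : ℤ) + j)).1 (Module.mem_support_iff.2 h2)
  · omega
  · rw [← hym, Ideal.comap_comap]
    exact congrArg (fun g => Ideal.comap g y.asIdeal) ψ.comp_algebraMap

end Algebra

section Scheme

variable {A : Type u} [CommRing A] [IsLocalRing A] [IsNoetherianRing A] {ω : Dual.D A} {X : Scheme.{u}}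
  {f : X ⟶ Spec (CommRingCat.of A)} [IsProper f]
  [∀ (U V : Scheme.{u}) (j : U ⟶ V) [IsOpenImmersion j], PreservesFiniteLimits (Scheme.Modules.restrictFunctor j)]
  [∀ (S : CommRingCat.{u}), PreservesFiniteLimits (tilde.functor S)]
  [DCoh.HasRpush f] (hf : DCoh.RpushPreservesQCoh f) (a : DCoh.DQCoh (Spec (CommRingCat.of A)) ⥤ DCoh.DQCoh X)
  (adj : DCoh.RpushQ f hf ⊣ a) (W : DCoh.DQCoh (Spec (CommRingCat.of A)))

/-- A chart of `a(W)` centred at a closed point. -/
structure Centred (G : DCoh.D X) (c : X) where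
  B : Type u
  [cB : CommRing B]
  [nB : IsNoetherianRing B]
  j : Spec (CommRingCat.of B) ⟶ X
  [oj : IsOpenImmersion j]
  ωB : Dual.D B
  hωB : Dual.IsDualizing B ωB
  iso : (DCoh.restrictD j).obj G ≅ (DCoh.tildeD (CommRingCat.of B)).obj ωB
  pt : PrimeSpectrum B
  hpt : j pt = c
  hdeg : deg hωB pt = 0

attribute [instance] Centred.cB Centred.nB Centred.oj

include adj in
theorem isDualizingSch_shriek (hω : Dual.IsDualizing A ω) (hW : Nonempty (W.obj ≅ (DCoh.tildeD (CommRingCat.of A)).obj ω)) :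
    Dual2.IsDualizingSch X (a.obj W).obj := by
  haveI : IsNoetherian (Spec (CommRingCat.of A)) := {}
  obtain ⟨eW⟩ := hW
  obtain ⟨eid⟩ := PCTriangle.rd_id W.obj
  have hQ : Dual2.IsDualizingSch (Spec (CommRingCat.of A)) W.obj :=
    Dual22Lib.isDualizingSch_of_cover W.obj PUnit (fun _ => A) (fun _ => 𝟙 _)
      (fun x => ⟨⟨⟩, ⟨x, rfl⟩⟩) fun _ => ⟨_, hω, ⟨eid ≪≫ eW⟩⟩
  exact DualLib.ChartApps.isDualizingSch_rep f (Q := W.obj) ⟨fun {_} =>
    ⟨(a.obj W).property, (adj.counit.app W).hom, fun L hL => SupportAdj.rep_counit f hf a adj W L hL⟩⟩ W.property hQ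

include adj in
theorem nonempty_centred (hω : Dual.IsDualizing A ω) (hn : Dual.IsNormalized A ω)
    (hW : Nonempty (W.obj ≅ (DCoh.tildeD (CommRingCat.of A)).obj ω)) (c : X) (hc : IsClosed ({c} : Set X)) :
    Nonempty (Centred (a.obj W).obj c) := by
  haveI : IsNoetherian (Spec (CommRingCat.of A)) := {}
  haveI : IsLocallyNoetherian X := LocallyOfFiniteType.isLocallyNoetherian f
  obtain ⟨eW⟩ := hW
  obtain ⟨eid⟩ := PCTriangle.rd_id W.obj
  obtain ⟨g, _, hg, -⟩ := DualLib.exists_bound hω
  haveI := hg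
  haveI : ((DCoh.tildeD (CommRingCat.of A)).obj ω).IsGE g := DualLib.ChartApps.isGE_tildeD (R := CommRingCat.of A) ω g hg
  haveI : W.obj.IsGE g := DerivedCategory.TStructure.t.isGE_of_iso eW.symm g
  have hA : RepLib.RepObj f W.obj (a.obj W).obj := ⟨fun {_} =>
    ⟨(a.obj W).property, (adj.counit.app W).hom, fun L hL => SupportAdj.rep_counit f hf a adj W L hL⟩⟩
  obtain ⟨U, hU, hcU, -⟩ := exists_isAffineOpen_mem_and_subset (U := (⊤ : X.Opens)) (x := c) trivial
  haveI : IsNoetherianRing Γ(X, U) := IsLocallyNoetherian.component_noetherian ⟨U, hU⟩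
  let φ := Spec.preimage (hU.fromSpec ≫ f)
  obtain ⟨n, ψ, hψ, hcomp, hiso⟩ := DualLib.ChartShriek.exists_local f hA g W.property (R := A) (B := Γ(X, U))
    φ.hom (𝟙 _) hU.fromSpec (by rw [Category.comp_id]; exact (Spec.map_preimage _).symm) ω (eid ≪≫ eW)
  letI : Algebra A Γ(X, U) := φ.hom.toAlgebra
  let ψ' : MvPolynomial (Fin n) A →ₐ[A] Γ(X, U) := { ψ with commutes' := fun r => RingHom.congr_fun hcomp r }
  haveI : DRing.HasLBaseChange (algebraMap A (MvPolynomial (Fin n) A)) := DCat.hasLBaseChange _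
  obtain ⟨Rψ, ⟨adjψ⟩⟩ := DualLib.Shriek.exists_rightAdjoint ψ
  obtain ⟨i⟩ := hiso Rψ adjψ
  obtain ⟨y, hy⟩ : c ∈ Set.range hU.fromSpec := by rw [hU.range_fromSpec]; exact hcU
  have hD := Dual22Lib.isDualizing_shriekVia ψ' hψ adjψ hω
  refine ⟨{ B := Γ(X, U), j := hU.fromSpec, ωB := _, hωB := hD, iso := i, pt := y, hpt := hy,
            hdeg := deg_shriekVia ψ' hψ adjψ hω hn hD y ?_ ?_ }⟩
  · refine (PrimeSpectrum.isClosed_singleton_iff_isMaximal y).1 ?_
    have := hc.preimage hU.fromSpec.continuous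
    rwa [← hy, show hU.fromSpec ⁻¹' ({hU.fromSpec y} : Set X) = {y} from
      Set.ext fun z => hU.fromSpec.isOpenEmbedding.injective.eq_iff] at this
  · have h1 : IsClosed ({f c} : Set (Spec (CommRingCat.of A))) := by
      rw [← Set.image_singleton]
      exact f.isClosedMap _ hc
    have h2 : (Spec.map φ) y = f c := by
      show (Spec.map (Spec.preimage (hU.fromSpec ≫ f))) y = f c
      rw [Spec.map_preimage, ← hy]
      rfl
    exact IsLocalRing.eq_maximalIdeal
      ((PrimeSpectrum.isClosed_singleton_iff_isMaximal (Spec.map φ y)).1 (h2 ▸ h1))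

end Scheme

section Degrees

variable {X : Scheme.{u}} [CompactSpace X]
  [∀ (U V : Scheme.{u}) (j : U ⟶ V) [IsOpenImmersion j], PreservesFiniteLimits (Scheme.Modules.restrictFunctor j)]
  [∀ (S : CommRingCat.{u}), PreservesFiniteLimits (tilde.functor S)]
  {G : DCoh.D X} (hG : Dual2.IsDualizingSch X G) (hC : ∀ c : X, IsClosed ({c} : Set X) → Nonempty (Centred G c))

/-- Every point generalizes some centre. -/
theorem exists_centre {G : DCoh.D X} (hC : ∀ c : X, IsClosed ({c} : Set X) → Nonempty (Centred G c)) (x : X) :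
    ∃ (c : X) (C : Centred G c) (y : PrimeSpectrum C.B), C.j y = x ∧ y ≤ C.pt := by
  obtain ⟨c, hcx, hc⟩ := (isClosed_closure (s := ({x} : Set X))).exists_closed_singleton
    (Set.Nonempty.closure (Set.singleton_nonempty x))
  obtain ⟨C⟩ := hC c hc
  have h : x ⤳ C.j C.pt := by rw [C.hpt]; exact specializes_iff_mem_closure.2 hcx
  obtain ⟨y, rfl⟩ := h.mem_open C.j.isOpenEmbedding.isOpen_range ⟨C.pt, rfl⟩
  exact ⟨c, C, y, rfl, (PrimeSpectrum.le_iff_specializes _ _).2 (C.j.isOpenEmbedding.isInducing.specializes_iff.1 h)⟩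

theorem mem_HD_support {c : X} (C : Centred G c) (y : PrimeSpectrum C.B) (i : ℤ) :
    Nontrivial ((DCoh.HD G i).presheaf.stalk (C.j y)) ↔ y ∈ Module.support C.B (E C.ωB C.B i) :=
  (nontrivial_stalk_iff C.j C.iso y i).trans (DualLib.mem_support_HD_iff C.hωB y i).symm

theorem mem_self {B : Type u} [CommRing B] (q : PrimeSpectrum B) : q ∈ Module.support B B :=
  Module.mem_support_iff_of_finite.2 (by simp [Module.annihilator_eq_bot.2 inferInstance])

/-- A chain of strict generalisations through a centred chart. -/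
theorem deg_chain {c : X} (C : Centred G c) {l : ℕ} (y : Fin (l + 1) → PrimeSpectrum C.B)
    (hy : ∀ i : Fin l, y i.succ < y i.castSucc) (h0 : y 0 ≤ C.pt) : deg C.hωB (y (Fin.last l)) ≤ -(l : ℤ) := by
  let s : LTSeries (PrimeSpectrum C.B) :=
    { length := l
      toFun := fun i => y i.rev
      step := fun i => by
        show y i.castSucc.rev < y i.succ.rev
        rw [Fin.rev_castSucc, Fin.rev_succ]
        exact hy i.rev }
  have h1 := DualLib.deg_add_length C.hωB s
  have h2 : s.head = y (Fin.last l) := by simp [s, RelSeries.head]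
  have h3 : s.last = y 0 := by simp [s, RelSeries.last]
  have h4 := DualLib.deg_mono C.hωB h0
  rw [h2, h3] at h1
  rw [C.hdeg] at h4
  change deg C.hωB (y (Fin.last l)) + (l : ℤ) ≤ _ at h1
  omega

include hC in
/-- The range of degrees: at a point with a nonzero stalk the degree lies in `[-dim, 0]`. -/
theorem bounds (n : ℕ) (hdim : topologicalKrullDim X = (n : WithBot ℕ∞)) (i : ℤ) (x : X)
    (hi : Nontrivial ((DCoh.HD G i).presheaf.stalk x)) : -(n : ℤ) ≤ i ∧ i ≤ 0 := by
  obtain ⟨c, C, y, rfl, hy⟩ := exists_centre hC x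
  have h := (mem_HD_support C y i).1 hi
  constructor
  · by_contra hlt
    refine DualLib.notMem_support_range C.hωB y i C.B (fun q _ hq => Or.inl ?_) h
    obtain ⟨s, hs1, hs2, hs3⟩ := DualLib.exists_series_deg C.hωB (hq.trans hy)
    have h1 : ((s.length : ℕ) : WithBot ℕ∞) ≤ (n : WithBot ℕ∞) := by
      refine (Order.LTSeries.length_le_krullDim s).trans ?_
      show ringKrullDim C.B ≤ _
      rw [← PrimeSpectrum.topologicalKrullDim_eq_ringKrullDim, ← hdim]
      exact C.j.isOpenEmbedding.isInducing.topologicalKrullDim_le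
    have h2 : s.length ≤ n := by exact_mod_cast h1
    rw [C.hdeg] at hs3
    omega
  · by_contra hlt
    refine DualLib.notMem_support_range C.hωB y i C.B (fun q _ _ => Or.inr ?_) h
    have := DualLib.deg_mono C.hωB hy
    rw [C.hdeg] at this
    omega

include hG in
theorem isClosed_supp (i : ℤ) : IsClosed {x : X | Nontrivial ((DCoh.HD G i).presheaf.stalk x)} := by
  rw [← isOpen_compl_iff, isOpen_iff_forall_mem_open]
  intro x hx
  obtain ⟨B, _, j, _, ωB, y, rfl, hωB, ⟨e⟩⟩ := DualLib.OmegaStalk.exists_chart hG x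
  haveI := hωB.isNoetherianRing
  haveI : Module.Finite B (Dual.HD B ωB i) := hωB.finite_cohomology i
  refine ⟨j '' (Module.support B (Dual.HD B ωB i))ᶜ, ?_, j.isOpenEmbedding.isOpenMap _ Module.isClosed_support.isOpen_compl,
    ⟨y, fun h => hx ((nontrivial_stalk_iff j e y i).2 h), rfl⟩⟩
  rintro _ ⟨z, hz, rfl⟩ h
  exact hz ((nontrivial_stalk_iff j e z i).1 h)

/-- Points of a chain of irreducible closed subsets. -/
theorem exists_points (T : Set X) (hT : IsClosed T) (s : LTSeries (TopologicalSpace.IrreducibleCloseds ↥T)) :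
    ∃ η : Fin (s.length + 1) → X, (∀ i, η i ∈ T) ∧
      ∀ i : Fin s.length, η i.succ ⤳ η i.castSucc ∧ η i.succ ≠ η i.castSucc := by
  have hemb := hT.isClosedEmbedding_subtypeVal
  have hirr : ∀ i, IsIrreducible (Subtype.val '' (s i : Set ↥T)) := fun i =>
    (s i).2.image _ continuous_subtype_val.continuousOn
  have hcl : ∀ i, IsClosed (Subtype.val '' (s i : Set ↥T)) := fun i => hemb.isClosedMap _ (s i).3
  have hgen : ∀ i, IsGenericPoint (hirr i).genericPoint (Subtype.val '' (s i : Set ↥T)) := fun i => by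
    have := (hirr i).isGenericPoint_genericPoint_closure
    rwa [(hcl i).closure_eq] at this
  refine ⟨fun i => (hirr i).genericPoint, fun i => ?_, fun i => ⟨?_, fun e => ?_⟩⟩
  · obtain ⟨z, -, hz⟩ := (hgen i).mem
    show (hirr i).genericPoint ∈ T
    rw [← hz]
    exact z.2
  · exact (hgen i.succ).specializes (Set.image_mono (le_of_lt (s.step i)) (hgen i.castSucc).mem)
  · refine (ne_of_lt (s.step i)) (TopologicalSpace.IrreducibleCloseds.ext ?_)
    apply Subtype.val_injective.image_injective
    show Subtype.val '' (s i.castSucc : Set ↥T) = Subtype.val '' (s i.succ : Set ↥T)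
    rw [← (hgen i.castSucc).def, ← (hgen i.succ).def]
    exact congrArg (fun z => closure ({z} : Set X)) e.symm

include hC in
/-- A chain of points seen from a centre below it. -/
theorem exists_chain_chart {l : ℕ} (η : Fin (l + 1) → X)
    (hη : ∀ i : Fin l, η i.succ ⤳ η i.castSucc ∧ η i.succ ≠ η i.castSucc) :
    ∃ (c : X) (C : Centred G c) (y : PrimeSpectrum C.B), C.j y = η (Fin.last l) ∧ y ≤ C.pt ∧
      deg C.hωB y ≤ -(l : ℤ) := by
  obtain ⟨c, C, y₀, hy₀, hy₀c⟩ := exists_centre hC (η 0)
  have hsp : ∀ i, η i ⤳ η 0 := fun i => by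
    induction i using Fin.induction with
    | zero => exact specializes_rfl
    | succ i ih => exact (hη i).1.trans ih
  have hr : ∀ i, ∃ y : PrimeSpectrum C.B, C.j y = η i := fun i =>
    (hsp i).mem_open C.j.isOpenEmbedding.isOpen_range ⟨y₀, hy₀⟩
  choose y hy using hr
  have hy0 : y 0 = y₀ := C.j.isOpenEmbedding.injective ((hy 0).trans hy₀.symm)
  have hlt : ∀ i : Fin l, y i.succ < y i.castSucc := fun i => by
    refine lt_of_le_of_ne ((PrimeSpectrum.le_iff_specializes _ _).2 (C.j.isOpenEmbedding.isInducing.specializes_iff.1 ?_))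
      fun e => (hη i).2 ?_
    · rw [hy, hy]; exact (hη i).1
    · rw [← hy, ← hy, e]
  have hanti : y (Fin.last l) ≤ y 0 := (PrimeSpectrum.le_iff_specializes _ _).2
    (C.j.isOpenEmbedding.isInducing.specializes_iff.1 (by rw [hy, hy]; exact hsp _))
  exact ⟨c, C, y _, hy _, hanti.trans (hy0 ▸ hy₀c), deg_chain C y hlt (hy0 ▸ hy₀c)⟩

include hG hC in
/-- The support of `H^i` has dimension at most `-i`. -/
theorem dim_supp (i : ℤ) (m : ℕ) (hm : (m : ℤ) = -i) :
    topologicalKrullDim {x : X | Nontrivial ((DCoh.HD G i).presheaf.stalk x)} ≤ (m : WithBot ℕ∞) := by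
  refine iSup_le fun s => ?_
  obtain ⟨η, hmem, hη⟩ := exists_points _ (isClosed_supp hG i) s
  obtain ⟨c, C, y, hy, hyc, hd⟩ := exists_chain_chart hC η hη
  have h := hmem (Fin.last s.length)
  rw [Set.mem_setOf_eq, ← hy, mem_HD_support C y i] at h
  by_contra hlt
  have hlt' : m < s.length := by
    by_contra hle
    exact hlt (by exact_mod_cast Nat.le_of_not_lt hle)
  exact DualLib.notMem_support_range C.hωB y i C.B (fun q _ _ => Or.inr (by omega)) h

include hG hC in
/-- The lowest sheaf is supported exactly on the components of maximal dimension. -/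
theorem lowest_supp (n : ℕ) (hdim : topologicalKrullDim X = (n : WithBot ℕ∞)) :
    {x : X | Nontrivial ((DCoh.HD G (-(n : ℤ))).presheaf.stalk x)} =
      (⋃ Z ∈ {Z : Set X | Z ∈ irreducibleComponents X ∧ topologicalKrullDim ↥Z = (n : WithBot ℕ∞)}, Z) := by
  ext x
  simp only [Set.mem_setOf_eq, Set.mem_iUnion, exists_prop]
  constructor
  · intro hx
    obtain ⟨c, C, y, rfl, hy⟩ := exists_centre hC x
    have h := (mem_HD_support C y _).1 hx
    obtain ⟨q, hqy, hdeg⟩ : ∃ q, q ≤ y ∧ deg C.hωB q ≤ -(n : ℤ) := by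
      by_contra! hc
      exact DualLib.notMem_support_range C.hωB y _ C.B (fun q _ hq => Or.inl (hc q hq)) h
    obtain ⟨q0, hq0, hq0q⟩ := Ideal.exists_minimalPrimes_le (bot_le : (⊥ : Ideal C.B) ≤ q.asIdeal)
    let η : PrimeSpectrum C.B := ⟨q0, hq0.1.1⟩
    have hηy : η ≤ y := le_trans (show η ≤ q from hq0q) hqy
    obtain ⟨s, hs1, hs2, hs3⟩ := DualLib.exists_series_deg C.hωB (hηy.trans hy)
    have hdη := DualLib.deg_mono C.hωB (show η ≤ q from hq0q)
    rw [C.hdeg] at hs3
    obtain ⟨Z, hZ, hsub, -⟩ : ∃ Z ∈ irreducibleComponents X, closure ({C.j η} : Set X) ⊆ Z ∧ True := by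
      obtain ⟨t, ht, hsub⟩ := exists_mem_irreducibleComponents_subset_of_isIrreducible _
        (isIrreducible_singleton (x := C.j η)).closure
      exact ⟨t, ht, hsub, trivial⟩
    have hspec : ∀ z : PrimeSpectrum C.B, η ≤ z → C.j z ∈ Z := fun z hz =>
      hsub (specializes_iff_mem_closure.1 (((PrimeSpectrum.le_iff_specializes _ _).1 hz).map C.j.continuous))
    refine ⟨Z, ⟨hZ, le_antisymm (hdim ▸ topologicalKrullDim_subspace_le X Z) ?_⟩, hspec y hηy⟩
    have hsl : n ≤ s.length := by omega
    refine le_trans (le_trans (by exact_mod_cast hsl) (Order.LTSeries.length_le_krullDim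
      ({ length := s.length
         toFun := fun i => (⟨s i, (hs1 ▸ s.head_le i : η ≤ s i)⟩ : {z : PrimeSpectrum C.B // η ≤ z})
         step := fun i => s.step i } : LTSeries {z : PrimeSpectrum C.B // η ≤ z}))) ?_
    let F : {z : PrimeSpectrum C.B // η ≤ z} → TopologicalSpace.IrreducibleCloseds ↥Z := fun z =>
      ⟨closure {⟨C.j z.1, hspec z.1 z.2⟩}, (isIrreducible_singleton).closure, isClosed_closure⟩
    refine Order.krullDim_le_of_strictMono (fun z : {z : PrimeSpectrum C.B // η ≤ z}ᵒᵈ => F (OrderDual.ofDual z)) ?_ |>.trans' ?_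
    · intro z w hzw
      have hle : (OrderDual.ofDual w).1 ≤ (OrderDual.ofDual z).1 := le_of_lt hzw
      have h1 : (⟨C.j _, hspec _ (OrderDual.ofDual w).2⟩ : ↥Z) ⤳ ⟨C.j _, hspec _ (OrderDual.ofDual z).2⟩ :=
        (subtype_specializes_iff _ _).2 (((PrimeSpectrum.le_iff_specializes _ _).1 hle).map C.j.continuous)
      refine lt_of_le_of_ne (h1.closure_subset) fun e => (ne_of_lt hzw).symm ?_
      have e' : closure ({(⟨C.j _, hspec _ (OrderDual.ofDual z).2⟩ : ↥Z)} : Set ↥Z) =
          closure {⟨C.j _, hspec _ (OrderDual.ofDual w).2⟩} := congrArg (fun K : TopologicalSpace.IrreducibleCloseds ↥Z => (K : Set ↥Z)) e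
      have := (inseparable_iff_closure_eq.2 e').eq
      exact congrArg OrderDual.toDual (Subtype.ext (C.j.isOpenEmbedding.injective (Subtype.ext_iff.1 this).symm))
    · rw [Order.krullDim_orderDual]
  · rintro ⟨Z, ⟨hZ, hdZ⟩, hxZ⟩
    have hZc := isClosed_of_mem_irreducibleComponents Z hZ
    obtain ⟨s, hs⟩ := Order.le_krullDim_iff.1 (show ((n : ℕ) : WithBot ℕ∞) ≤
      Order.krullDim (TopologicalSpace.IrreducibleCloseds ↥Z) from hdZ.ge)
    obtain ⟨η, hmem, hη⟩ := exists_points Z hZc s
    obtain ⟨g, hg, hgen⟩ := DimLib.exists_genericPoint_of_mem_components hZ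
    have hlast : g ⤳ η (Fin.last s.length) := hg.specializes (hmem _)
    obtain ⟨c, C, y, hy, hyc, hd⟩ := exists_chain_chart hC η hη
    obtain ⟨yg, hyg⟩ : ∃ yg : PrimeSpectrum C.B, C.j yg = g := (show g ⤳ C.j y by rw [hy]; exact hlast).mem_open C.j.isOpenEmbedding.isOpen_range ⟨y, rfl⟩
    have hgy : yg ≤ y := (PrimeSpectrum.le_iff_specializes yg y).2
      (C.j.isOpenEmbedding.isInducing.specializes_iff.1 (by rw [hyg, hy]; exact hlast))
    have hmin : ∀ r ∈ Module.support C.B C.B, r ≤ yg → r = yg := fun r _ hr => by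
      have := hgen (C.j r) (by rw [← hyg]; exact ((PrimeSpectrum.le_iff_specializes _ _).1 hr).map C.j.continuous)
      exact (C.j.isOpenEmbedding.injective (hyg.trans this)).symm
    have hnt := (mem_HD_support C yg _).2 (DualLib.mem_support_of_minimal' C.hωB le_rfl C.B hmin (mem_self yg))
    have h1 := (bounds hC n hdim _ _ hnt).1
    have h2 := DualLib.deg_mono C.hωB hgy
    have h3 : deg C.hωB yg = -(n : ℤ) := by omega
    rw [h3, hyg] at hnt
    exact DualLib.OmegaStalk.nontrivial_of_specializes hG (hg.specializes hxZ) _ hnt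

include hG in
/-- Serre's condition for the lowest cohomology sheaf. -/
theorem hasSk_lowest (d : ℕ) (hb : ∀ (i : ℤ) (x : X), Nontrivial ((DCoh.HD G i).presheaf.stalk x) → -(d : ℤ) ≤ i ∧ i ≤ 0)
    (x : X) : LocCoh.HasSk 2 (X.presheaf.stalk x) ((DCoh.HD G (-(d : ℤ))).presheaf.stalk x) := by
  by_cases hn : Nontrivial ((DCoh.HD G (-(d : ℤ))).presheaf.stalk x)
  swap
  · haveI := not_nontrivial_iff_subsingleton.1 hn
    intro p _
    haveI : Subsingleton (LocalizedModule p.primeCompl ((DCoh.HD G (-(d : ℤ))).presheaf.stalk x)) :=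
      LocalizedModule.subsingleton_iff.2 fun m => ⟨1, one_mem _, Subsingleton.elim _ _⟩
    rw [Module.supportDim_eq_bot_of_subsingleton]
    exact (min_le_right _ _).trans bot_le
  obtain ⟨B, _, j, _, ω, y, rfl, hω, ⟨e⟩⟩ := DualLib.OmegaStalk.exists_chart hG x
  haveI := hω.isNoetherianRing
  haveI : PreservesFiniteColimits (tilde.functor (CommRingCat.of B)) :=
    haveI := (tilde.adjunction (R := CommRingCat.of B)).leftAdjoint_preservesColimits
    inferInstance
  obtain ⟨ν⟩ := DQCoh.nonempty_homology_natIso (tilde.functor (CommRingCat.of B)) (-(d : ℤ))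
  let H := (homologyFunctor (ModuleCat.{u} B) (-(d : ℤ))).obj ω
  let eM : (DCoh.HD G (-(d : ℤ))).restrict j ≅ tilde (R := CommRingCat.of B) H :=
    (DCat.SuppOpen.hdMapIso (Scheme.Modules.restrictFunctor j) _ _).symm ≪≫ (homologyFunctor _ _).mapIso e ≪≫ ν.app _
  obtain ⟨σ, Φ, hΦ⟩ := DualLib.ChartStalk.exists_stalk_semilinear j _ H eM y
  let B' := Localization.AtPrime y.asIdeal
  haveI : IsNoetherianRing B' := IsLocalization.isNoetherianRing y.asIdeal.primeCompl B' inferInstance
  obtain ⟨_, _⟩ := Dual22Lib.preserves_extendScalars (B := B') y.asIdeal.primeCompl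
  let W := (extD (algebraMap B B')).obj ω
  have hW : Dual.IsDualizing B' W := isDualizing_extD y.asIdeal.primeCompl hω
  obtain ⟨c, hc⟩ := exists_normalized hW
  have hWc := isDualizing_shift hW c
  obtain ⟨n, hn'⟩ := Groth.Agent.LocCoh.exists_dim_eq (R := B')
  obtain ⟨hsupp, hsk⟩ := Groth.Agent.S0369.result B' (W⟦c⟧) hWc hc n hn'
  let sI : ∀ i : ℤ, Dual.HD B' (W⟦c⟧) i ≃ₗ[B'] Dual.HD B' W (c + i) := fun i =>
    (((homologyFunctor (ModuleCat.{u} B') 0).shiftIso c i (c + i) rfl).app W).toLinearEquiv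
  haveI : Module.Finite B H := hω.finite_cohomology _
  obtain ⟨eT⟩ := nonempty_HD_tensor y.asIdeal.primeCompl ω (-(d : ℤ))
  let eL : Dual.HD B' W (-(d : ℤ)) ≃ₗ[B'] LocalizedModule y.asIdeal.primeCompl H :=
    eT ≪≫ₗ (LocalizedModule.equivTensorProduct y.asIdeal.primeCompl H).symm
  haveI : Nontrivial (Dual.HD B' W (-(d : ℤ))) :=
    haveI : Nontrivial (LocalizedModule y.asIdeal.primeCompl H) :=
      Module.mem_support_iff.1 ((nontrivial_stalk_iff j e y _).1 hn)
    eL.toEquiv.nontrivial
  have hsA : ∀ q : PrimeSpectrum B', q ∈ Module.support B' B' := fun q =>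
    Module.mem_support_iff_of_finite.2 (by simp [Module.annihilator_eq_bot.2 inferInstance])
  have hco : ∀ q : PrimeSpectrum B', Order.coheight q ≤ n := fun q => by
    have h : (Order.coheight q : WithBot ℕ∞) ≤ ringKrullDim B' := Order.coheight_le_krullDim q
    rw [hn'] at h
    exact_mod_cast h
  have hnt : Nontrivial (Dual.HD B' W (c + -(n : ℤ))) := by
    have h := hn'
    rw [ringKrullDim, Order.krullDim_eq_iSup_coheight] at h
    obtain ⟨q, hq⟩ : ∃ q : PrimeSpectrum B', Order.coheight q = (n : ℕ∞) := by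
      by_contra! hne
      rcases Nat.eq_zero_or_pos n with rfl | hpos
      · exact hne (IsLocalRing.closedPoint B') (le_antisymm (hco _) bot_le)
      · have hb' : ∀ q : PrimeSpectrum B', (Order.coheight q : WithBot ℕ∞) ≤ ((n - 1 : ℕ) : WithBot ℕ∞) := fun q => by
          obtain ⟨e', he'⟩ := DualLib.exists_coheight_eq q
          have h1 := hco q
          rw [he', Nat.cast_le] at h1
          have h2 := hne q
          rw [he', Ne, Nat.cast_inj] at h2
          rw [he']
          exact WithBot.coe_le_coe.2 (Nat.cast_le.2 (show e' ≤ n - 1 by omega))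
        have := h.ge.trans (iSup_le hb')
        rw [Nat.cast_le] at this
        omega
    have hmin : ∀ r, r ∈ Module.support B' B' → r ≤ q → r = q := fun r _ hr => by
      by_contra hne
      have h1 := (Order.coheight_add_one_le (lt_of_le_of_ne hr hne)).trans (hco r)
      rw [hq] at h1
      norm_cast at h1
      omega
    have hmem := DualLib.mem_support_of_minimal hWc hc hq B' hmin (hsA q)
    haveI : Nontrivial (E (W⟦c⟧) B' (-(n : ℤ))) := by
      by_contra hc'
      haveI := not_nontrivial_iff_subsingleton.1 hc'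
      rw [Module.support_eq_empty] at hmem
      exact hmem
    exact ((eSelf (W⟦c⟧) (-(n : ℤ))) ≪≫ₗ sI _).symm.toEquiv.nontrivial
  have h1 : -(d : ℤ) ≤ c + -(n : ℤ) := by
    obtain ⟨eT'⟩ := nonempty_HD_tensor y.asIdeal.primeCompl ω (c + -(n : ℤ))
    let H' := (homologyFunctor (ModuleCat.{u} B) (c + -(n : ℤ))).obj ω
    haveI := hnt
    haveI : Nontrivial (LocalizedModule y.asIdeal.primeCompl H') :=
      ((LocalizedModule.equivTensorProduct y.asIdeal.primeCompl H').trans eT'.symm).toEquiv.nontrivial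
    exact (hb _ _ ((nontrivial_stalk_iff j e y _).2 (Module.mem_support_iff.2 this))).1
  have h2 : c + -(n : ℤ) ≤ -(d : ℤ) := by
    by_contra hlt
    haveI : Subsingleton (Dual.HD B' (W⟦c⟧) (-(d : ℤ) - c)) :=
      haveI := DualLib.subsingleton_of_lt hWc hc B' n (fun q _ => hco q) (-(d : ℤ) - c) (by omega)
      (eSelf _ _).symm.toEquiv.subsingleton
    haveI : Subsingleton (Dual.HD B' W (c + (-(d : ℤ) - c))) := (sI _).symm.toEquiv.subsingleton
    have key : ∀ z : ℤ, z = -(d : ℤ) → ¬ Subsingleton (Dual.HD B' W z) := by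
      rintro z rfl; exact not_subsingleton _
    exact key _ (by omega) this
  have key : ∀ z : ℤ, z = -(d : ℤ) → LocCoh.HasSk 2 B' (Dual.HD B' W z) → LocCoh.HasSk 2 B' (Dual.HD B' W (-(d : ℤ))) := by
    rintro z rfl h; exact h
  exact (DualLib.ChartStalk.depth_supportDim_eq σ Φ hΦ).2.2 2 ((EGA43.FibDepth.hasSk_congr eL 2).1
    (key (c + -(n : ℤ)) (by omega) ((EGA43.FibDepth.hasSk_congr (sI _) 2).1 hsk)))

end Degrees

end Groth.Agent.Dual6Lib.ProperLocal
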