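import Groth.Agent.Dual22Lib.SumAdj
import Groth.Agent.DQCoh.CompactBdd
import Groth.Agent.DQCoh.CompactCd
import Groth.Agent.DQCoh.PerfApprox
import Groth.Agent.Dual6Lib.BCShriekSquare

/-!
# Right adjoints of proper direct images commute with uniformly bounded below sums
-/

set_option autoImplicit false
set_option backward.isDefEq.respectTransparency false
set_option backward.defeqAttrib.useBackward true
set_option linter.style.haveILetI false
set_option linter.unusedSectionVars false
set_option synthInstance.maxHeartbeats 100000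
universe u
open CategoryTheory CategoryTheory.Limits CategoryTheory.Pretriangulated AlgebraicGeometry
open Groth.Agent.DCat Groth.Agent.DCat.PerfLocal Groth.Agent.DQCoh Groth.Agent.Dual22Lib.BCSquare
attribute [local instance] HasDerivedCategory.standard
attribute [-instance] Int.instConditionallyCompleteLinearOrder
open Groth.Agent.Dual22Lib Groth.Agent.Dual22Lib.SumAdj Groth.Agent.DQCoh.CompactBdd

namespace Groth.Agent.Dual6Lib.PsBdd

variable {X Y : Scheme.{u}}

local instance hasCoproductsD (S : Scheme.{u}) : HasCoproducts.{u} (DCoh.D S) := fun J =>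
  hasCoproductsOfShape_derived enoughKInj_of_isGrothendieckAbelian J

/-- Pseudo-coherent objects see only finite subsums of uniformly bounded below families. -/
theorem bddCompact_psc [CompactSpace X] [QuasiSeparatedSpace X] {P : DCoh.D X} (hq : DCoh.IsQCohD P)
    (hP : ∀ m : ℤ, DCoh.IsPseudoCoherentD m P) : BddCompact P := fun {ι} K a hK m => by
  obtain ⟨r, hr⟩ := DQCoh.PerfApprox.full_of_top (DQCoh.PerfApprox.top (X := X)) (⊥ : X.Opens) (by simp)
  obtain ⟨P', β, hP', -, hβ⟩ := hr (a - m - 1) P hq (hP _) fun i _ x hx => False.elim hx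
  obtain ⟨C, v, w, hT⟩ := distinguished_cocone_triangle β
  haveI : C.IsLE (a - m - 2) := by
    rw [show a - m - 2 = a - m - 1 - 1 by omega]
    exact (PullPerf.apx_iff_isLE _ _ hT).1 hβ
  refine fin'_ext (T := Triangle.mk β v w) hT (bddCompact_perfect P' hP' K a hK m) (fin'_of_zero fun α => ?_)
  haveI : (∐ K).IsGE a := isGE_sigma K a hK
  haveI := DerivedCategory.TStructure.t.isGE_shift (∐ K) a m (a - m) (by omega)
  haveI : (Triangle.mk β v w).obj₃.IsLE (a - m - 2) := ‹C.IsLE (a - m - 2)›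
  exact DerivedCategory.TStructure.t.zero α (a - m - 2) (a - m) (by omega)

theorem exists_finite_sum_psc [CompactSpace X] [QuasiSeparatedSpace X] {P : DCoh.D X} (hq : DCoh.IsQCohD P)
    (hP : ∀ m : ℤ, DCoh.IsPseudoCoherentD m P) {ι : Type u} (L : ι → DCoh.D X) (a : ℤ) (hL : ∀ i, (L i).IsGE a)
    (x : P ⟶ ∐ L) : ∃ (s : Finset ι) (z : ∀ i, P ⟶ L i), x = ∑ i ∈ s, z i ≫ Sigma.ι L i := by
  obtain ⟨s, hs⟩ := sumFac_of_fin' (bddCompact_psc hq hP L a hL 0) x
  refine ⟨s, fun i => x ≫ DQCoh.coord L i, ?_⟩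
  conv_lhs => rw [← hs, DQCoh.subSum_eq_sum, Preadditive.comp_sum]
  simp only [Category.assoc]

variable (f : X ⟶ Y) [DCoh.HasRpush f] {hf : DCoh.RpushPreservesQCoh f}
  {a : DCoh.DQCoh Y ⥤ DCoh.DQCoh X}

/-- If `Rf_*` sends perfect objects to pseudo-coherent ones, its right adjoint commutes with uniformly bounded below sums. -/
theorem isIso_sum [CompactSpace X] [QuasiSeparatedSpace X] [CompactSpace Y] [QuasiSeparatedSpace Y]
    (adj : DCoh.RpushQ f hf ⊣ a)
    (h : ∀ P : DCoh.D X, DCoh.IsPerfect P → ∀ m : ℤ, DCoh.IsPseudoCoherentD m ((DCoh.Rpush f).obj P)) :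
    ∀ (ι : Type u) (K : ι → DCoh.DQCoh Y) (c : ℤ), (∀ i, (K i).obj.IsGE c) →
      IsIso (Sigma.desc fun i => (a.map (qinj K i)).hom) := by
  classical
  intro ι K c hc
  let w := Sigma.desc fun i => (a.map (qinj K i)).hom
  have hsrc : DCoh.IsQCohD (∐ fun i => (a.obj (K i)).obj) := isQCohD_sigma _ fun i => (a.obj (K i)).property
  haveI : IsEmpty ((⊥ : X.Opens) : Scheme.{u}) := ⟨fun x => x.2⟩
  obtain ⟨G, hG, -, hd⟩ := PerfGen.gen (X := X) ⊥ (by simp)
  have key : ∀ Q : DCoh.D X, DCoh.IsPerfect Q → Function.Bijective fun x : Q ⟶ _ => x ≫ w := by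
    intro Q hQ
    let Q' : DCoh.DQCoh X := ⟨Q, isQCohD_perfect' hQ⟩
    have hT : ∀ (s : Finset ι) (z : ∀ i, Q ⟶ (a.obj (K i)).obj),
        (DCoh.Rpush f).map ((∑ i ∈ s, z i ≫ Sigma.ι (fun i => (a.obj (K i)).obj) i) ≫ w) ≫
            (adj.counit.app (qsum K)).hom =
          ∑ i ∈ s, ((adj.homEquiv Q' (K i)).symm (ObjectProperty.homMk (z i))).hom ≫
            Sigma.ι (fun i => (K i).obj) i := by
      intro s z
      rw [← sum_transpose f K adj s, Preadditive.sum_comp]
      congr 2
      refine Finset.sum_congr rfl fun i _ => ?_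
      simp [w]
    constructor
    · intro x x' hxx
      refine sub_eq_zero.1 ?_
      obtain ⟨s, z, hz⟩ := exists_finite_sum hQ _ (fun i => (a.obj (K i)).property) (x - x')
      have h0 : (x - x') ≫ w = 0 := by
        rw [Preadditive.sub_comp, sub_eq_zero]
        exact hxx
      obtain ⟨_, _⟩ := exists_commShift_Rpush f
      rw [hz] at h0
      have h1 := hT s z
      rw [h0, Functor.map_zero, zero_comp] at h1
      rw [hz]
      refine Finset.sum_eq_zero fun j hj => ?_
      have h2 := congrArg (· ≫ coord (fun i => (K i).obj) j) h1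
      simp only [zero_comp] at h2
      rw [coord_sum, if_pos hj] at h2
      have h3 : (adj.homEquiv Q' (K j)).symm (ObjectProperty.homMk (z j)) =
          (adj.homEquiv Q' (K j)).symm 0 := by
        refine ObjectProperty.hom_ext _ (h2.symm.trans ?_)
        rw [adj.homEquiv_counit]
        show 0 = (DCoh.Rpush f).map 0 ≫ _
        rw [Functor.map_zero, zero_comp]
      have h4 := congrArg InducedCategory.Hom.hom ((adj.homEquiv Q' (K j)).symm.injective h3)
      rw [show z j = 0 from h4, zero_comp]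
    · intro y
      let y' : Q' ⟶ a.obj (qsum K) := ObjectProperty.homMk y
      obtain ⟨s, z, hz⟩ := exists_finite_sum_psc (P := (DCoh.Rpush f).obj Q) (hf Q (isQCohD_perfect' hQ)) (h Q hQ)
        (fun i => (K i).obj) c hc ((adj.homEquiv _ _).symm y').hom
      let z' : ∀ i, Q' ⟶ a.obj (K i) := fun i =>
        adj.homEquiv Q' (K i) (show (DCoh.RpushQ f hf).obj Q' ⟶ K i from ObjectProperty.homMk (z i))
      refine ⟨∑ i ∈ s, (z' i).hom ≫ Sigma.ι (fun i => (a.obj (K i)).obj) i, ?_⟩
      show _ ≫ w = y'.hom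
      let x' : Q' ⟶ a.obj (qsum K) :=
        ObjectProperty.homMk ((∑ i ∈ s, (z' i).hom ≫ Sigma.ι (fun i => (a.obj (K i)).obj) i) ≫ w)
      suffices x' = y' from congrArg InducedCategory.Hom.hom this
      refine (adj.homEquiv _ _).symm.injective (ObjectProperty.hom_ext _ ?_)
      rw [hz, adj.homEquiv_counit]
      refine (hT s _).trans (Finset.sum_congr rfl fun i _ => ?_)
      simp only [z']
      erw [Equiv.symm_apply_apply]
      rfl
  obtain ⟨C, v, t, hTr⟩ := distinguished_cocone_triangle w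
  have hC : DCoh.IsQCohD C := isQCohD_obj₃ hTr hsrc (a.obj (qsum K)).property
  refine (Triangle.isZero₃_iff_isIso₁ _ hTr).1 (hd C hC ((AdjGeom.killed_iff _ C).2 fun i x hx => by
    rw [Scheme.Opens.opensRange_ι] at hx
    exact hx.elim) fun n φ => ?_)
  have hGn := PCTriangle.perfect_shift hG n
  have h1 : φ ≫ t = 0 := by
    obtain ⟨m, hm⟩ := (shiftFunctor (DCoh.D X) (1 : ℤ)).map_surjective
      (((shiftFunctorCompIsoId (DCoh.D X) (-1 : ℤ) 1 (by omega)).app (G⟦n⟧)).hom ≫ φ ≫ t)
    have hmw : m ≫ w = 0 := by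
      apply (shiftFunctor (DCoh.D X) (1 : ℤ)).map_injective
      rw [Functor.map_comp, hm, Category.assoc, Category.assoc, Functor.map_zero]
      erw [comp_distTriang_mor_zero₃₁ _ hTr]
      simp
    have hm0 : m = 0 := (key _ (PCTriangle.perfect_shift hGn (-1))).1 (hmw.trans zero_comp.symm)
    rw [hm0, Functor.map_zero] at hm
    rw [← cancel_epi ((shiftFunctorCompIsoId (DCoh.D X) (-1 : ℤ) 1 (by omega)).app (G⟦n⟧)).hom, ← hm, comp_zero]
  obtain ⟨y, hy⟩ := Triangle.coyoneda_exact₃ _ hTr φ h1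
  obtain ⟨x, hx⟩ := (key _ hGn).2 y
  rw [hy, ← hx]
  erw [Category.assoc, comp_distTriang_mor_zero₁₂ _ hTr]
  simp

omit [DCoh.HasRpush f] in
/-- Proper morphisms to Noetherian schemes. -/
theorem isIso_sum_proper [IsNoetherian Y] [IsProper f] [DCoh.HasRpush f] {hf : DCoh.RpushPreservesQCoh f}
    {a : DCoh.DQCoh Y ⥤ DCoh.DQCoh X} (adj : DCoh.RpushQ f hf ⊣ a) (ι : Type u) (K : ι → DCoh.DQCoh Y) (c : ℤ)
    (hK : ∀ i, (K i).obj.IsGE c) : IsIso (Sigma.desc fun i => (a.map (qinj K i)).hom) := by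
  haveI : CompactSpace X := QuasiCompact.compactSpace_of_compactSpace f
  haveI : QuasiSeparatedSpace X := quasiSeparatedSpace_of_quasiSeparated f
  exact isIso_sum f adj (fun P hP m => BCShriekSquare.psc_Rpush_perfect P hP m) ι K c hK

end Groth.Agent.Dual6Lib.PsBdd
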