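import Groth.Agent.Dual6Lib.RHomAmp
import Groth.Agent.Dual6Lib.FiniteRHom
import Groth.Agent.Dual22Lib.PerfAmpPush
import Groth.Agent.Dual22Lib.PPFlat
import Groth.Agent.Dual22Lib.GorSelf
import Groth.Agent.KZeroLib.RegularPerfect
import Groth.Agent.DCat.OpenDerived

/-!
# `Rf_* a(O) = RHom(Rf_* O, O)` is concentrated in nonpositive degrees
-/

set_option autoImplicit false
set_option backward.isDefEq.respectTransparency false
set_option backward.defeqAttrib.useBackward true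
set_option linter.style.haveILetI false
set_option synthInstance.maxHeartbeats 100000
set_option maxHeartbeats 800000

universe u

open CategoryTheory CategoryTheory.Limits AlgebraicGeometry
open Groth.Agent Groth.Agent.DCat Groth.Agent.Dual22Lib

attribute [local instance] HasDerivedCategory.standard
attribute [-instance] Int.instConditionallyCompleteLinearOrder

namespace Groth.Agent.Dual6Lib.PushDualAmp

/-- The structure sheaf has perfect amplitude `[0, 0]`. -/
theorem perfAmp_structure (X : Scheme.{u}) :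
    KSix.HasPerfectAmplitudeIn 0 0 (DCoh.inD X (Coh.structureModule X)) := fun x => by
  let V : X.Opens := ⊤
  refine ⟨V, trivial, fun F ⟨eF⟩ => ⟨(HomologicalComplex.single V.toScheme.Modules (ComplexShape.up ℤ) 0).obj
    (Coh.structureModule V.toScheme), fun i hi => HomologicalComplex.isZero_single_obj_X _ _ _ _ (by omega),
    fun i => ?_, ⟨((Scheme.Modules.restrictFunctor V.ι).mapDerivedCategoryFactors.app F).symm ≪≫
      (PerfLocal.rd V.ι).mapIso eF ≪≫ Dual22Lib.restrictZeroIso V.ι ≪≫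
      (DerivedCategory.singleFunctorIsoCompQ V.toScheme.Modules 0).app _⟩⟩⟩
  by_cases hi : i = 0
  · subst hi
    intro z
    obtain ⟨U, n, hz, ⟨e⟩⟩ := Coherent.CohBC.isFinLocFree_structureModule V.toScheme z
    exact ⟨U, n, hz, ⟨(Scheme.Modules.restrictFunctor U.ι).mapIso
      (HomologicalComplex.singleObjXSelf (ComplexShape.up ℤ) 0 (Coh.structureModule V.toScheme)) ≪≫ e⟩⟩
  · exact PerfTensor.isFinLocFree_of_isZero (HomologicalComplex.isZero_single_obj_X _ _ _ _ hi)

/-- For a proper flat finitely presented morphism, `Rf_* a(O)` has no cohomology in positive degrees. -/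
theorem isZero_HD {X Y : Scheme.{u}} [CompactSpace Y] [QuasiSeparatedSpace Y] (f : X ⟶ Y) [IsProper f] [Flat f]
    [LocallyOfFinitePresentation f] [DCoh.HasRpush f] (hf : DCoh.RpushPreservesQCoh f)
    (a : DCoh.DQCoh Y ⥤ DCoh.DQCoh X) (adj : DCoh.RpushQ f hf ⊣ a) (O : DCoh.DQCoh Y)
    (hO : Nonempty (O.obj ≅ DCoh.inD Y (Coh.structureModule Y))) (i : ℤ) (hi : 0 < i) :
    IsZero (DCoh.HD ((DCoh.RpushQ f hf).obj (a.obj O)).obj i) := by
  haveI : CompactSpace X := QuasiCompact.compactSpace_of_compactSpace f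
  haveI : QuasiSeparatedSpace X := quasiSeparatedSpace_of_quasiSeparated f
  have hX := Coherent.CohBC.isFinLocFree_structureModule X
  have pX : DCoh.IsPerfect (DCoh.inD X (Coh.structureModule X)) := KZeroLib.isPerfect_inD_finLocFree hX
  have hKperf := PPFlat.pp_flat f _ pX
  let K := (DCoh.Rpush f).obj (DCoh.inD X (Coh.structureModule X))
  let E := DerivedCategory.Q.objPreimage K
  let eE : DerivedCategory.Q.obj E ≅ K := DerivedCategory.Q.objObjPreimageIso K
  haveI := hasLpull f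
  haveI := LTensorSheaf.hasLTensorCx E
  haveI := RHomExist.hasRSheafHom E
  let S₀ := (HomologicalComplex.single X.Modules (ComplexShape.up ℤ) 0).obj (Coh.structureModule X)
  haveI := LTensorSheaf.hasLTensorCx S₀
  let eS : DerivedCategory.Q.obj S₀ ≅ DCoh.inD X (Coh.structureModule X) :=
    ((DerivedCategory.singleFunctorIsoCompQ X.Modules 0).app (Coh.structureModule X)).symm
  have hS : DCoh.IsQCohD (DerivedCategory.Q.obj S₀) :=
    DQCoh.isQCohD_of_iso eS.symm (SumAdj.isQCohD_perfect' pX)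
  obtain ⟨pr⟩ := ProjNatural.nonempty_proj₂ f E S₀ hS ⟨eE ≪≫ (DCoh.Rpush f).mapIso eS.symm⟩
  obtain ⟨u₀⟩ := RHomLeft.nonempty_LTensor_structure (X := X)
  have hLf : Dual3.LpullPreservesQCoh f := Dual22Lib.XiIso.lpullPreservesQCoh f
  obtain ⟨a₀⟩ := nonempty_pullPushAdj f
  let adjQ : Dual3.LpullQ f hLf ⊣ DCoh.RpushQ f hf :=
    a₀.restrictFullyFaithful (ObjectProperty.fullyFaithfulι _) (ObjectProperty.fullyFaithfulι _) (Iso.refl _) (Iso.refl _)
  let eT : (Dual3.LpullQ f hLf ⋙ DCoh.RpushQ f hf) ⋙ ObjectProperty.ι _ ≅ ObjectProperty.ι _ ⋙ DCoh.LTensorCx E :=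
    Functor.isoWhiskerLeft (ObjectProperty.ι _ ⋙ DCoh.Lpull f) (Functor.isoWhiskerRight u₀.symm (DCoh.Rpush f)) ≪≫ pr.symm
  have hEperf : DCoh.IsPerfect (DerivedCategory.Q.obj E) := fun y => by
    obtain ⟨V, hyV, hV⟩ := hKperf y
    exact ⟨V, hyV, fun F ⟨eF⟩ => hV F ⟨eF ≪≫ eE⟩⟩
  let P : ObjectProperty (DCoh.DQCoh Y) := fun L => L = O
  obtain ⟨w⟩ := FiniteRHom.nonempty_partial_iso (P := P) (ObjectProperty.fullyFaithfulι _) (adjQ.comp adj)
    (DCoh.RSheafHomAdj E) eT
    (ObjectProperty.lift _ (P.ι ⋙ ObjectProperty.ι _ ⋙ DCoh.RSheafHom E)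
      (fun L => DQCoh.isQCohD_RHom_perfect E hEperf L.obj.obj L.obj.property)) (Iso.refl _)
  obtain ⟨eO⟩ := hO
  refine (RHomAmp.isZero_HD_of_perfAmp E (fun y => ?_) O.obj (fun j hj => ?_) i hi).of_iso
    ((DerivedCategory.homologyFunctor Y.Modules i).mapIso (w.app ⟨O, rfl⟩))
  · obtain ⟨W, hW, hyW, -⟩ := exists_isAffineOpen_mem_and_subset (U := (⊤ : Y.Opens)) (x := y) trivial
    haveI : IsAffine W.toScheme := hW
    haveI := hasRpush (f ∣_ W)
    haveI := PullPerf.preservesFiniteLimits_restrict W.ι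
    haveI := PullPerf.preservesFiniteLimits_restrict (f ⁻¹ᵁ W).ι
    obtain ⟨N, hN⟩ := SupportAdj.exists_isLE_Rpush (f ∣_ W)
    have hamp := PerfAmpPush.perfAmp_Rpush (f ∣_ W) N.toNat (fun M hM j hj => by
      haveI : (DCoh.inD _ M).IsLE 0 := (inferInstance : ((DerivedCategory.singleFunctor _ 0).obj M).IsLE 0)
      haveI := hN (DCoh.inD _ M) 0 (FlatBC14.isQCohD_inD M) inferInstance
      exact DerivedCategory.isZero_of_isLE _ (0 + N) j (by omega))
      _ 0 0 (perfAmp_structure _)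
    let eW : (PerfLocal.rd W.ι).obj (DerivedCategory.Q.obj E) ≅ (DCoh.Rpush (f ∣_ W)).obj
        (DCoh.inD (f ⁻¹ᵁ W).toScheme (Coh.structureModule _)) :=
      (PerfLocal.rd W.ι).mapIso eE ≪≫ (DCat.OpenDerived.rpushRestrictIso f W).app _ ≪≫
        (DCoh.Rpush (f ∣_ W)).mapIso (Dual22Lib.restrictZeroIso (f ⁻¹ᵁ W).ι)
    obtain ⟨V, hV, hVE⟩ := hamp ⟨y, hyW⟩
    let F := ((Scheme.Modules.restrictFunctor W.ι).mapHomologicalComplex (ComplexShape.up ℤ)).obj E
    obtain ⟨E', hE', hf', ⟨e'⟩⟩ := hVE F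
      ⟨((Scheme.Modules.restrictFunctor W.ι).mapDerivedCategoryFactors.app E).symm ≪≫ eW⟩
    obtain ⟨c⟩ := PerfLocal.rd_comp V.ι W.ι (DerivedCategory.Q.obj E)
    exact ⟨_, V.ι ≫ W.ι, inferInstance, (0 : ℤ) + (N.toNat : ℤ), E', ⟨⟨⟨y, hyW⟩, hV⟩, rfl⟩, hE', hf',
      ⟨e'.symm ≪≫ ((Scheme.Modules.restrictFunctor V.ι).mapDerivedCategoryFactors.app F).symm ≪≫
        (PerfLocal.rd V.ι).mapIso ((Scheme.Modules.restrictFunctor W.ι).mapDerivedCategoryFactors.app E).symm ≪≫ c.symm⟩⟩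
  · haveI : (DCoh.inD Y (Coh.structureModule Y)).IsLE 0 :=
      (inferInstance : ((DerivedCategory.singleFunctor Y.Modules 0).obj _).IsLE 0)
    exact (DerivedCategory.isZero_of_isLE (DCoh.inD Y (Coh.structureModule Y)) 0 j hj).of_iso
      ((DerivedCategory.homologyFunctor Y.Modules j).mapIso eO)

end Groth.Agent.Dual6Lib.PushDualAmp
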