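import Groth.Agent.DCat.RHomBidual
import Groth.Agent.DQCoh.RHomQCoh

/-!
# `RHom(E, L)` vanishes above the negative of the lowest degree of a free complex `E`
-/

set_option autoImplicit false
set_option backward.isDefEq.respectTransparency false
set_option backward.defeqAttrib.useBackward true
set_option linter.style.haveILetI false
set_option linter.unusedVariables false
set_option synthInstance.maxHeartbeats 100000

universe u

open CategoryTheory CategoryTheory.Limits CategoryTheory.Pretriangulated DerivedCategory AlgebraicGeometry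
open HomologicalComplex Groth.Agent.Coherent Groth.Agent.DCat Groth.Agent.DCat.PerfLocal Groth.Agent.DCat.RHomLeft

attribute [local instance] HasDerivedCategory.standard
attribute [-instance] Int.instConditionallyCompleteLinearOrder

namespace Groth.Agent.Dual6Lib.RHomAmp

variable {X : Scheme.{u}}

/-- If `E` vanishes below `a` then `RHom(E, L)` vanishes above `-a` for `L ≤ 0`. -/
def Above (E : CochainComplex X.Modules ℤ) : Prop :=
  IsKFlatFor (shT X) E ∧ ∀ (a : ℤ), (∀ q, q < a → IsZero (E.X q)) →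
    ∀ (_ : DCoh.HasLTensorCx E) (_ : DCoh.HasRSheafHom E) (L : DCoh.D X),
    (∀ j : ℤ, 0 < j → IsZero (DCoh.HD L j)) → ∀ i : ℤ, -a < i → IsZero (DCoh.HD ((DCoh.RSheafHom E).obj L) i)

theorem above_of_iso {E E' : CochainComplex X.Modules ℤ} (e : E ≅ E') (h : Above E) : Above E' := by
  refine ⟨h.1.of_iso e, fun a hz i₁ i₂ L hL i hi => ?_⟩
  haveI := LTensorSheaf.hasLTensorCx E
  haveI := RHomExist.hasRSheafHom E
  haveI := i₁
  haveI := i₂
  obtain ⟨t⟩ := TensorCongr.nonempty_congr_rhom (E := E) (E' := E') (DerivedCategory.Q.mapIso e)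
  exact (h.2 a (fun q hq => (hz q hq).of_iso ((HomologicalComplex.eval _ _ q).mapIso e)) inferInstance inferInstance L hL i hi).of_iso
    ((homologyFunctor X.Modules i).mapIso (t.app L)).symm

theorem above_of_isZero {E : CochainComplex X.Modules ℤ} (hE : IsZero E) : Above E :=
  ⟨(keeps_of_isZero (P := fun M : X.Modules => IsZero M) (fun _ h => h) hE).1, fun a _ i₁ i₂ L _ i _ =>
    (homologyFunctor X.Modules i).map_isZero (by
      haveI := i₁
      haveI := i₂
      let Y := (DCoh.RSheafHom E).obj L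
      let A := DerivedCategory.Q.objPreimage Y
      have hz : IsZero ((DCoh.LTensorCx E).obj Y) :=
        (DerivedCategory.Q.map_isZero (((shT X).map₂CochainComplex.obj A).map_isZero hE)).of_iso
          ((DCoh.LTensorCx E).mapIso (DerivedCategory.Q.objObjPreimageIso Y).symm ≪≫
            LTensorSheaf.ltensorCxIso' (isKFlatFor_of_isZero hE) A)
      exact (IsZero.iff_id_eq_zero _).2 (((DCoh.RSheafHomAdj E).homEquiv Y L).symm.injective (hz.eq_of_src _ _)))⟩

/-- Extensions. -/
theorem above_ext (S : ShortComplex (CochainComplex X.Modules ℤ))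
    (hS : ∀ n, Nonempty ((S.map (HomologicalComplex.eval X.Modules (ComplexShape.up ℤ) n)).Splitting))
    (h₁ : Above S.X₁) (h₃ : Above S.X₃) : Above S.X₂ := by
  have h₂ : IsKFlatFor (shT X) S.X₂ :=
    IsKFlatFor.ext₂ (fun a q => ((hS q).some.map ((shT X).obj a)).shortExact) h₁.1 h₃.1
  refine ⟨h₂, fun a hz i₁ i₂ L hL i hi => ?_⟩
  haveI := i₁
  haveI := i₂
  haveI := LTensorSheaf.hasLTensorCx S.X₁
  haveI := RHomExist.hasRSheafHom S.X₁
  haveI := LTensorSheaf.hasLTensorCx S.X₃
  haveI := RHomExist.hasRSheafHom S.X₃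
  have z₁ : ∀ q, q < a → IsZero (S.X₁.X q) := fun q hq => by
    obtain ⟨s⟩ := hS q
    haveI := s.isSplitMono_f
    exact IsZero.of_mono (S.map (HomologicalComplex.eval X.Modules (ComplexShape.up ℤ) q)).f (hz q hq)
  have z₃ : ∀ q, q < a → IsZero (S.X₃.X q) := fun q hq => by
    obtain ⟨s⟩ := hS q
    haveI := s.isSplitEpi_g
    exact IsZero.of_epi (S.map (HomologicalComplex.eval X.Modules (ComplexShape.up ℤ) q)).g (hz q hq)
  obtain ⟨α, β, δ, hT⟩ := RHomSeq.exists_nat_triangle (shT X) (DCoh.tensorCx (X := X)) rfl S hS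
    (TensorCongr.fac h₁.1) (TensorCongr.fac h₂) (TensorCongr.fac h₃.1)
  have hex := RHomSeq.exact_of_hom_exact (homologyFunctor X.Modules i) _ _
    (RHomSeq.Rg_Rf (DCoh.RSheafHomAdj S.X₁) (DCoh.RSheafHomAdj S.X₂) (DCoh.RSheafHomAdj S.X₃) α β δ hT L)
    fun _ g hg => RHomSeq.exact₂ (DCoh.RSheafHomAdj S.X₁) (DCoh.RSheafHomAdj S.X₂) (DCoh.RSheafHomAdj S.X₃) α β δ hT L g hg
  exact hex.isZero_X₂ ((h₃.2 a z₃ inferInstance inferInstance L hL i hi).eq_of_src _ _)
    ((h₁.2 a z₁ inferInstance inferInstance L hL i hi).eq_of_tgt _ _)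

/-- A free module in one degree. -/
theorem above_structure (n : ℤ) :
    Above ((single X.Modules (ComplexShape.up ℤ) n).obj (Coh.structureModule X)) := by
  let S₀ := (single X.Modules (ComplexShape.up ℤ) 0).obj (Coh.structureModule X)
  let es := ((CochainComplex.singleFunctors X.Modules).shiftIso (-n) n 0 (by omega)).app (Coh.structureModule X)
  refine ⟨((isKFlatFor_structure X).shift (-n)).of_iso es, fun a hz i₁ i₂ L hL i hi => ?_⟩
  haveI := i₁
  haveI := i₂
  haveI := LTensorSheaf.hasLTensorCx S₀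
  haveI := RHomExist.hasRSheafHom S₀
  haveI := LTensorSheaf.hasLTensorCx (S₀⟦-n⟧)
  haveI := RHomExist.hasRSheafHom (S₀⟦-n⟧)
  by_cases hn : n < a
  · have hO : IsZero (Coh.structureModule X) :=
      (hz n hn).of_iso (HomologicalComplex.singleObjXSelf (ComplexShape.up ℤ) n _).symm
    exact (above_of_isZero ((single _ _ n).map_isZero hO)).2 a hz inferInstance inferInstance L hL i hi
  · obtain ⟨t⟩ := TensorCongr.nonempty_congr_rhom (E := S₀⟦-n⟧)
      (E' := (single X.Modules (ComplexShape.up ℤ) n).obj (Coh.structureModule X)) (DerivedCategory.Q.mapIso es)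
    obtain ⟨s⟩ := nonempty_RHom_shift S₀ (isKFlatFor_structure X) (-n)
    obtain ⟨e⟩ := nonempty_RHom_structure (X := X)
    exact (hL (n + i) (by omega)).of_iso ((homologyFunctor X.Modules i).mapIso
      ((t.app L).symm ≪≫ s.app L ≪≫ e.app _) ≪≫
      (((homologyFunctor X.Modules 0).shiftIso (- -n) i (n + i) (by omega)).app L))

theorem above_free (n : ℕ) (m : ℤ) : Above ((single X.Modules (ComplexShape.up ℤ) m).obj (FlatMod.freeMod X n)) := by
  induction n with
  | zero => exact above_of_isZero ((single _ _ m).map_isZero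
      ((IsZero.iff_id_eq_zero _).2 (Sigma.hom_ext _ _ fun i => i.elim0)))
  | succ n ih =>
    let T := sigmaSeq (fun _ : Fin (n + 1) => Coh.structureModule X)
    let sp : T.Splitting := sigmaSplit (fun _ : Fin (n + 1) => Coh.structureModule X)
    exact above_ext (T.map (single X.Modules (ComplexShape.up ℤ) m))
      (fun q => ⟨sp.map (single X.Modules (ComplexShape.up ℤ) m ⋙ HomologicalComplex.eval _ _ q)⟩)
      (above_structure m) ih

/-- `RHom(E, L)` vanishes above `-a` for a complex of free modules `E` in degrees `[a, b]` and `L ≤ 0`. -/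
theorem isZero_HD_of_free (E : CochainComplex X.Modules ℤ) {a b : ℤ} (hE : DCoh.VanishesOutside E a b)
    (hfree : ∀ i, ∃ n, Nonempty (E.X i ≅ FlatMod.freeMod X n)) [DCoh.HasLTensorCx E] [DCoh.HasRSheafHom E]
    (L : DCoh.D X) (hL : ∀ j : ℤ, 0 < j → IsZero (DCoh.HD L j)) (i : ℤ) (hi : -a < i) :
    IsZero (DCoh.HD ((DCoh.RSheafHom E).obj L) i) := by
  have h : Above E := DCat.bounded_induction Above (fun M => ∃ n, Nonempty (M ≅ FlatMod.freeMod X n))
    (fun K hK => above_of_isZero hK) (fun M hM => ⟨0, ⟨hM.iso ((IsZero.iff_id_eq_zero _).2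
      (Sigma.hom_ext _ _ fun i => i.elim0))⟩⟩) (fun M N e ⟨n, ⟨f⟩⟩ => ⟨n, ⟨e.symm ≪≫ f⟩⟩)
    (fun m M ⟨n, ⟨f⟩⟩ => above_of_iso ((single _ _ m).mapIso f.symm) (above_free n m))
    (fun S hS h₁ h₃ => above_ext S hS h₁ h₃) a (b + 1 - a).toNat E (fun n hn => hE n (Or.inl hn))
    (fun n hn => hE n (Or.inr (by omega))) hfree
  exact h.2 a (fun q hq => hE q (Or.inl hq)) inferInstance inferInstance L hL i hi

/-- `RHom(K, L) ≤ 0` for `K` of perfect amplitude in `[0, b]` and `L ≤ 0`. -/
theorem isZero_HD_of_perfAmp (K : CochainComplex X.Modules ℤ) [DCoh.HasLTensorCx K] [DCoh.HasRSheafHom K]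
    (h : ∀ x : X, ∃ (W : Scheme.{u}) (k : W ⟶ X) (_ : IsOpenImmersion k) (b : ℤ) (E : CochainComplex W.Modules ℤ),
      x ∈ k.opensRange ∧ DCoh.VanishesOutside E 0 b ∧ (∀ i, FlatMod.IsFinLocFree (E.X i)) ∧
      Nonempty (DerivedCategory.Q.obj E ≅ (rd k).obj (DerivedCategory.Q.obj K)))
    (L : DCoh.D X) (hL : ∀ j : ℤ, 0 < j → IsZero (DCoh.HD L j)) (i : ℤ) (hi : 0 < i) :
    IsZero (DCoh.HD ((DCoh.RSheafHom K).obj L) i) := by
  refine ModStalk.isZero_of_stalks fun x => ?_
  obtain ⟨V, k, _, b, E, ⟨y, rfl⟩, hE, hf, ⟨e⟩⟩ := h x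
  obtain ⟨U, hyU, hU⟩ := DQCoh.exists_free_nhd E hf y (Finset.Icc 0 b)
  obtain ⟨c⟩ := rd_comp U.ι k (DerivedCategory.Q.obj K)
  let E' := ((Scheme.Modules.restrictFunctor U.ι).mapHomologicalComplex (ComplexShape.up ℤ)).obj E
  have hE' : DCoh.VanishesOutside E' 0 b := fun j hj => (Scheme.Modules.restrictFunctor U.ι).map_isZero (hE j hj)
  have hfree : ∀ j, ∃ n, Nonempty (E'.X j ≅ FlatMod.freeMod U n) := fun j => by
    by_cases hj : j ∈ Finset.Icc 0 b
    · exact hU j hj
    · refine ⟨0, ⟨IsZero.iso ((Scheme.Modules.restrictFunctor U.ι).map_isZero (hE j ?_))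
        ((IsZero.iff_id_eq_zero _).2 (Sigma.hom_ext _ _ fun i => i.elim0))⟩⟩
      simp only [Finset.mem_Icc] at hj
      omega
  let k' := U.ι ≫ k
  let K' := ((Scheme.Modules.restrictFunctor k').mapHomologicalComplex (ComplexShape.up ℤ)).obj K
  haveI := LTensorSheaf.hasLTensorCx K'
  haveI := RHomExist.hasRSheafHom K'
  haveI := LTensorSheaf.hasLTensorCx E'
  haveI := RHomExist.hasRSheafHom E'
  obtain ⟨r⟩ := ShriekTensor.nonempty_restrict_RHom_of_eq k' K K' rfl (rd k') rfl
  obtain ⟨q⟩ := DQCoh.nonempty_Q_map (Scheme.Modules.restrictFunctor k') K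
  obtain ⟨t⟩ := TensorCongr.nonempty_congr_rhom (E := E') (E' := K')
    (((Scheme.Modules.restrictFunctor U.ι).mapDerivedCategoryFactors.app E).symm ≪≫ (rd U.ι).mapIso e ≪≫ c.symm ≪≫ q.symm)
  have hz := (isZero_HD_of_free E' hE' hfree ((rd k').obj L) (fun j hj =>
    ((Scheme.Modules.restrictFunctor k').map_isZero (hL j hj)).of_iso (SuppOpen.hdMapIso _ _ j)) i (by omega)).of_iso
      ((SuppOpen.hdMapIso (Scheme.Modules.restrictFunctor k') _ i).symm ≪≫
        (homologyFunctor _ i).mapIso (r.app L ≪≫ (t.app _).symm))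
  exact @SuppOpen.isZero_stalkFunctor _ _ (k y) (SuppOpen.subsingleton_stalk_of_restrict k' _ ⟨y, hyU⟩
    (SuppOpen.subsingleton_of_isZero_stalkFunctor _ _ ((DerSch.stalkFunctor _ _).map_isZero hz)))

end Groth.Agent.Dual6Lib.RHomAmp
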