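import Groth.Agent.DualLib.ShriekFlatSheaf
import Groth.Agent.DQCoh.RelTor
import Groth.Agent.DCat.LTensorModule
import Groth.Agent.DCat.KFlatSheaf

/-!
# Global relative flat amplitude from the charts of `f^! O`
-/

set_option autoImplicit false
set_option backward.isDefEq.respectTransparency false
set_option backward.defeqAttrib.useBackward true
set_option linter.style.haveILetI false
set_option synthInstance.maxHeartbeats 100000

universe u

open CategoryTheory CategoryTheory.Limits AlgebraicGeometry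
open Groth.Agent Groth.Agent.DCat

attribute [local instance] HasDerivedCategory.standard
attribute [-instance] Int.instConditionallyCompleteLinearOrder

namespace Groth.Agent.Dual6Lib.ShriekRelAmp

variable {X Y : Scheme.{u}}

/-- Flat modules are flat over the base of a flat morphism. -/
theorem isFlatOver_of_isFlat (f : X ⟶ Y) [Flat f] {M : X.Modules} (h : FlatMod.IsFlat M) : FlatMod.IsFlatOver f M :=
  fun x => by
  letI := FlatMod.moduleStalkOver f M x
  letI : Algebra (Y.presheaf.stalk (f.base x)) (X.presheaf.stalk x) := (f.stalkMap x).hom.toAlgebra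
  haveI : Module.Flat (Y.presheaf.stalk (f.base x)) (X.presheaf.stalk x) := Flat.stalkMap f x
  haveI : IsScalarTower (Y.presheaf.stalk (f.base x)) (X.presheaf.stalk x) (M.presheaf.stalk x) :=
    IsScalarTower.of_algebraMap_smul fun r m => rfl
  haveI : Module.Flat (X.presheaf.stalk x) (M.presheaf.stalk x) := h x
  exact Module.Flat.trans (Y.presheaf.stalk (f.base x)) (X.presheaf.stalk x) _

variable [∀ (S : CommRingCat.{u}), PreservesFiniteLimits (tilde.functor S)]

/-- An object of `D(B)` of tor amplitude `[a, b]` over `A` gives relative flat amplitude `[a, b]` on `Spec B`. -/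
theorem relAmp_tildeD {A B : CommRingCat.{u}} (φ : A ⟶ B) (hφ : φ.hom.Flat) {K : Dual.D B} {a b : ℤ} (hab : a ≤ b)
    (h : DRing.HasTorAmplitudeIn A a b ((DRing.restrictD φ.hom).obj K)) :
    DCoh.HasRelFlatAmplitudeIn (Spec.map φ) a b ((DCoh.tildeD B).obj K) := by
  haveI := DQCoh.preservesFiniteColimits_tilde B
  haveI : ∀ N : ModuleCat.{u} A, DRing.HasLTensor A N := fun N => DCat.hasLTensor N
  let F := ModuleCat.restrictScalars.{u} φ.hom
  have hhigh : ∀ i, b < i → IsZero ((DerivedCategory.homologyFunctor (ModuleCat.{u} B) i).obj K) := fun i hi => by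
    obtain ⟨η⟩ := DQCoh.nonempty_homology_natIso F i
    obtain ⟨E, hE, -, ⟨eE⟩⟩ := h
    have hz : IsZero (F.obj ((DerivedCategory.homologyFunctor (ModuleCat.{u} B) i).obj K)) :=
      ((ShortComplex.isZero_homology_of_isZero_X₂ _ (hE i (Or.inr hi))).of_iso
        ((DerivedCategory.homologyFunctorFactors (ModuleCat.{u} A) i).app E)).of_iso
        ((η.app K).symm ≪≫ (DerivedCategory.homologyFunctor _ i).mapIso eE.symm)
    haveI : Subsingleton (F.obj ((DerivedCategory.homologyFunctor (ModuleCat.{u} B) i).obj K)) :=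
      ModuleCat.subsingleton_of_isZero hz
    haveI : Subsingleton ((DerivedCategory.homologyFunctor (ModuleCat.{u} B) i).obj K) :=
      ‹Subsingleton (F.obj ((DerivedCategory.homologyFunctor (ModuleCat.{u} B) i).obj K))›
    exact ModuleCat.isZero_of_subsingleton _
  obtain ⟨P, -, hPf, hPb, ⟨e⟩⟩ := DCat.exists_flat_rep (K := K) hhigh
  have hFlat : ∀ i, Module.Flat A (F.obj (P.X i)) := fun i => by
    letI : Algebra A B := φ.hom.toAlgebra
    letI : Module A (P.X i) := Module.compHom (P.X i) φ.hom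
    haveI : IsScalarTower A B (P.X i) := IsScalarTower.of_algebraMap_smul fun r m => rfl
    haveI : Module.Flat A B := hφ
    haveI : Module.Flat B (P.X i) := hPf i
    exact Module.Flat.trans A B (P.X i)
  let C' : DRing.Cx A := (F.mapHomologicalComplex (ComplexShape.up ℤ)).obj P
  have hfl := DCat.flat_cokernel_cat C' (isKFlatFor_of_flat C' b (fun i hi => F.map_isZero (hPb i hi)) hFlat) hFlat a
    ((F.mapDerivedCategoryFactors.app P).symm ≪≫ F.mapDerivedCategory.mapIso e)
    fun N => DCat.vanish_of_flatAmp h N (Or.inl (by omega))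
  have hcok : Module.Flat A (F.obj (cokernel (P.d (a - 1) a))) :=
    haveI : Module.Flat A (cokernel (C'.d (a - 1) a) : ModuleCat.{u} A) := hfl
    Module.Flat.of_linearEquiv (M := (cokernel (C'.d (a - 1) a) : ModuleCat.{u} A))
      (PreservesCokernel.iso F (P.d (a - 1) a)).toLinearEquiv
  let T := tilde.functor B
  have hlow : ∀ i, i < a → IsZero (DCoh.HD ((DCoh.tildeD B).obj (DRing.toD P)) i) := fun i hi => by
    obtain ⟨η⟩ := DQCoh.nonempty_homology_natIso F i
    obtain ⟨θ⟩ := DQCoh.nonempty_homology_natIso T i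
    obtain ⟨E, hE, -, ⟨eE⟩⟩ := h
    have hz : IsZero (F.obj ((DerivedCategory.homologyFunctor (ModuleCat.{u} B) i).obj K)) :=
      ((ShortComplex.isZero_homology_of_isZero_X₂ _ (hE i (Or.inl hi))).of_iso
        ((DerivedCategory.homologyFunctorFactors (ModuleCat.{u} A) i).app E)).of_iso
        ((η.app K).symm ≪≫ (DerivedCategory.homologyFunctor _ i).mapIso eE.symm)
    haveI : Subsingleton (F.obj ((DerivedCategory.homologyFunctor (ModuleCat.{u} B) i).obj K)) :=
      ModuleCat.subsingleton_of_isZero hz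
    haveI : Subsingleton ((DerivedCategory.homologyFunctor (ModuleCat.{u} B) i).obj K) :=
      ‹Subsingleton (F.obj ((DerivedCategory.homologyFunctor (ModuleCat.{u} B) i).obj K))›
    exact (T.map_isZero ((ModuleCat.isZero_of_subsingleton
      ((DerivedCategory.homologyFunctor (ModuleCat.{u} B) i).obj K)).of_iso
      ((DerivedCategory.homologyFunctor _ i).mapIso e))).of_iso (θ.app (DRing.toD P))
  obtain ⟨hq, hv, hf⟩ := DQCoh.flat_truncation_of φ P b hPb hFlat hlow fun x =>
    EGA43.DvrCrit.isFlatOverAt_of_iso _ (PreservesCokernel.iso T (P.d (a - 1) a)) x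
      (FlatMor12.ApproxModule.isFlatOver_tilde φ _ hcok x)
  haveI := hq
  rw [max_eq_right hab] at hv
  exact ⟨(T.mapHomologicalComplex (ComplexShape.up ℤ)).obj (P.truncGE a), fun i hi => T.map_isZero (hv i hi),
    fun i => FlatMor12.ApproxModule.isFlatOver_tilde φ _ (hf i),
    ⟨(T.mapDerivedCategoryFactors.app _).symm ≪≫ (DCoh.tildeD B).mapIso
      ((asIso (DerivedCategory.Q.map (P.πTruncGE a))).symm ≪≫ e)⟩⟩

variable [∀ (U V : Scheme.{u}) (j : U ⟶ V) [IsOpenImmersion j], PreservesFiniteLimits (Scheme.Modules.restrictFunctor j)]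

/-- Relative amplitude `[-d, 0]` from charts. -/
theorem relFlatAmplitude {f : X ⟶ Y} [Flat f] (G : DCoh.D X) (d : ℕ)
    (hlow : ∀ i : ℤ, (i < -(d : ℤ) ∨ 0 < i) → IsZero (DCoh.HD G i))
    (h : ∀ x : X, ∃ C : DualLib.ShriekLocal.Chart f G x, DRing.HasTorAmplitudeIn C.R (-(d : ℤ)) 0
      ((DRing.restrictD (algebraMap C.R C.B)).obj (Dual2.shriekVia C.n C.Rψ (Dual.inD C.R C.R)))) :
    DCoh.HasRelFlatAmplitudeIn f (-(d : ℤ)) 0 G := by
  let t : Triangulated.TStructure (DCoh.D X) := DerivedCategory.TStructure.t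
  haveI : G.IsLE 0 := (DerivedCategory.isLE_iff _ _).2 fun i hi => hlow i (Or.inr hi)
  obtain ⟨L, hL, ⟨eL⟩⟩ := DerivedCategory.exists_iso_Q_obj_of_isLE G 0
  obtain ⟨N, q, -, hNf, hq, hN⟩ := exists_kflat_sheaf_le L 0 fun n hn => CochainComplex.isZero_of_isStrictlyLE L 0 n hn
  haveI := hq
  let eN : DerivedCategory.Q.obj N ≅ G := asIso (DerivedCategory.Q.map q) ≪≫ eL.symm
  have hf' : ∀ i, FlatMod.IsFlatOver f (N.X i) := fun i => isFlatOver_of_isFlat f (hNf i)
  let a : ℤ := -(d : ℤ)
  haveI : N.IsGE a := by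
    rw [CochainComplex.isGE_iff]
    intro i hi
    rw [HomologicalComplex.exactAt_iff_isZero_homology]
    exact ((hlow i (Or.inl hi)).of_iso ((DerivedCategory.homologyFunctor X.Modules i).mapIso eN)).of_iso
      ((DerivedCategory.homologyFunctorFactors X.Modules i).app N).symm
  refine ⟨N.truncGE a, fun i hi => ?_, fun i => ?_, ⟨(asIso (DerivedCategory.Q.map (N.πTruncGE a))).symm ≪≫ eN⟩⟩
  · rcases hi with hi | hi
    · exact CochainComplex.isZero_of_isStrictlyGE _ a i hi
    · exact (hN i hi).of_iso (N.truncGEXIso a i (by omega))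
  rcases lt_trichotomy i a with hi | rfl | hi
  · intro x
    letI := FlatMod.moduleStalkOver f ((N.truncGE a).X i) x
    haveI : Subsingleton (((N.truncGE a).X i).presheaf.stalk x) := SuppOpen.subsingleton_of_isZero_stalkFunctor _ _
      ((DerSch.stalkFunctor X x).map_isZero (CochainComplex.isZero_of_isStrictlyGE _ a i hi))
    exact (inferInstance : Module.Flat (Y.presheaf.stalk (f.base x)) (((N.truncGE a).X i).presheaf.stalk x))
  · let ec : cokernel (N.d (a - 1) a) ≅ (N.truncGE a).X a :=
      IsColimit.coconePointUniqueUpToIso (colimit.isColimit _) (N.opcyclesIsCokernel (a - 1) a (by simp)) ≪≫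
        (N.truncGEXIsoOpcycles a).symm
    intro x
    refine EGA43.DvrCrit.isFlatOverAt_of_iso f ec x ?_
    obtain ⟨C, hC⟩ := h x
    haveI := DualLib.ShriekGor.flat_chart C
    have hR := relAmp_tildeD (CommRingCat.ofHom (algebraMap C.R C.B)) (by
      exact RingHom.flat_algebraMap_iff.2 inferInstance) (a := -(d : ℤ)) (b := 0) (by omega) hC
    obtain ⟨E, hE, hEf, ⟨eE⟩⟩ := DQCoh.relAmp_iso C.iso.symm hR
    have hR' : DCoh.HasRelFlatAmplitudeIn (C.jX ≫ f) a 0 ((PerfLocal.rd C.jX).obj G) :=
      DQCoh.relAmp_congr C.comm.symm ⟨E, hE, fun j y => (DQCoh.isFlatOverAt_comp_iff _ C.jY _ y).2 (hEf j y), ⟨eE⟩⟩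
    let R := Scheme.Modules.restrictFunctor C.jX
    let N' := (R.mapHomologicalComplex (ComplexShape.up ℤ)).obj N
    have hcok := DQCoh.isFlatOver_cokernel (C.jX ≫ f) N' 0 (fun j hj => R.map_isZero (hN j hj))
      (fun j => DQCoh.isFlatOver_restrict C.jX f (hf' j))
      (DQCoh.relAmp_iso ((PerfLocal.rd C.jX).mapIso eN.symm ≪≫ R.mapDerivedCategoryFactors.app N) hR')
    have h2 := EGA43.DvrCrit.isFlatOverAt_of_iso (C.jX ≫ f)
      ((PreservesCokernel.iso R (N.d (a - 1) a)).symm ≪≫
        (Scheme.Modules.restrictFunctorIsoPullback C.jX).app (cokernel (N.d (a - 1) a))) C.pt (hcok C.pt)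
    have h5 := (Props12.isFlatOverAt_pullback_iff C.jX f (cokernel (N.d (a - 1) a)) C.pt (RingHom.Flat.of_bijective
      (ConcreteCategory.bijective_of_isIso (C.jX.stalkMap C.pt))))
    rw [← C.hpt]
    first
      | exact h5.1 h2
      | exact h5.2 h2
  · intro x
    exact EGA43.DvrCrit.isFlatOverAt_of_iso f (N.truncGEXIso a i hi).symm x (hf' i x)

end Groth.Agent.Dual6Lib.ShriekRelAmp
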