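import Groth.Agent.DualLib.FlatGlobal
import Groth.Agent.DualLib.OmegaExt
import Groth.Agent.Unram17Lib.RelDim
import Groth.Agent.AlgSpLib.RelDimFormula
import Groth.Agent.FlatMorDevissage.StepLemmas

/-! Degree of the residue field for base change of dualizing complexes along smooth maps. -/

set_option autoImplicit false
set_option backward.isDefEq.respectTransparency false
set_option backward.defeqAttrib.useBackward true
set_option linter.style.haveILetI false

universe u

open CategoryTheory CategoryTheory.Limits IsLocalRing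
open scoped TensorProduct

attribute [local instance] HasDerivedCategory.standard

namespace Groth.Agent.Dual6Lib.SmoothDegree

open Groth.Agent

/-- With a regular quotient dual to itself in degree `d`, the residue field is dual to itself in degree `d + dim`. -/
theorem isDualIn_residue_add {C : Type u} [CommRing C] [IsLocalRing C] [IsNoetherianRing C] {W : Dual.D C} :
    ∀ (n : ℕ) (J : Ideal C), IsRegularLocalRing (C ⧸ J) → ringKrullDim (C ⧸ J) = n →
      ∀ d : ℤ, DualLib.IsDualIn W (C ⧸ J) d → DualLib.IsDualIn W (ResidueField C) (d + n) := by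
  intro n
  induction n with
  | zero =>
    intro J hr hd d h
    haveI := hr
    haveI : IsDomain (C ⧸ J) := CAlgH3.isDomain_of_isRegularLocalRing _
    haveI : Ring.KrullDimLE 0 (C ⧸ J) := Ring.krullDimLE_iff.2 hd.le
    have hJ : J = maximalIdeal C :=
      IsLocalRing.eq_maximalIdeal (Ideal.Quotient.maximal_of_isField _ Ring.KrullDimLE.isField_of_isDomain)
    rw [Nat.cast_zero, add_zero]
    exact h.of_equiv (Submodule.quotEquivOfEq _ _ hJ)
  | succ n ih =>
    intro J hr hd d h
    haveI := hr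
    haveI : IsDomain (C ⧸ J) := CAlgH3.isDomain_of_isRegularLocalRing _
    obtain ⟨y, hym, hy⟩ : ∃ y ∈ maximalIdeal (C ⧸ J), y ∉ maximalIdeal (C ⧸ J) ^ 2 := by
      by_contra! hc
      have hz : maximalIdeal (C ⧸ J) = ⊥ :=
        Submodule.eq_bot_of_le_smul_of_le_jacobson_bot (maximalIdeal (C ⧸ J)) _ (IsNoetherian.noetherian _)
          (fun z hz => by rw [smul_eq_mul, ← pow_two]; exact hc z hz) (maximalIdeal_le_jacobson ⊥)
      have h0 : ringKrullDim (C ⧸ J) = 0 :=
        ringKrullDim_eq_zero_of_isField (IsLocalRing.isField_iff_maximalIdeal_eq.2 hz)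
      rw [h0] at hd
      exact absurd hd (by norm_cast)
    obtain ⟨x, rfl⟩ := Ideal.Quotient.mk_surjective y
    have hne : (Ideal.Quotient.mk J x) ≠ 0 := fun h0 => hy (h0 ▸ zero_mem _)
    let f := x • (LinearMap.id : (C ⧸ J) →ₗ[C] (C ⧸ J))
    have hinj : Function.Injective f := by
      rw [injective_iff_map_eq_zero]
      intro z hz
      obtain ⟨z, rfl⟩ := Ideal.Quotient.mk_surjective z
      have h0 : Ideal.Quotient.mk J x * Ideal.Quotient.mk J z = 0 := by
        rw [← map_mul]; exact hz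
      exact (mul_eq_zero.1 h0).resolve_left hne
    let J' := J ⊔ Ideal.span {x}
    have hmap : (Ideal.span {Ideal.Quotient.mk J x} : Ideal (C ⧸ J)) = (Ideal.span {x}).map (Ideal.Quotient.mk J) := by
      rw [Ideal.map_span, Set.image_singleton]
    let eR : ((C ⧸ J) ⧸ (Ideal.span {Ideal.Quotient.mk J x})) ≃+* C ⧸ J' :=
      (Ideal.quotEquivOfEq hmap).trans (DoubleQuot.quotQuotEquivQuotSup J (Ideal.span {x}))
    haveI hr' : IsRegularLocalRing (C ⧸ J') := by
      haveI : IsRegularLocalRing ((C ⧸ J) ⧸ (Ideal.span {Ideal.Quotient.mk J x})) := by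
        refine AlgSpLib.SmoothRegular.isRegularLocalRing_quotient _ (fun ht => ?_) fun z hz hz2 => ?_
        · exact (maximalIdeal.isMaximal (C ⧸ J)).ne_top (top_unique (ht ▸ by simpa using hym))
        · obtain ⟨c, rfl⟩ := Ideal.mem_span_singleton.1 hz
          rw [mul_comm (maximalIdeal (C ⧸ J))]
          refine Ideal.mul_mem_mul (Ideal.mem_span_singleton_self _) ?_
          by_contra hc
          rw [IsLocalRing.notMem_maximalIdeal] at hc
          exact hy (by simpa [hc] using (Ideal.mul_unit_mem_iff_mem (maximalIdeal (C ⧸ J) ^ 2) hc).1 hz2)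
      exact IsRegularLocalRing.of_ringEquiv eR
    have hd' : ringKrullDim (C ⧸ J') = n := by
      have h1 := ringKrullDim_quotient_span_singleton_succ_eq_ringKrullDim
        (R := C ⧸ J) (fun a b hab => mul_left_cancel₀ hne hab) hym
      rw [ringKrullDim_eq_of_ringEquiv eR, hd] at h1
      obtain ⟨m, hm⟩ := LocCoh.exists_dim_eq (R := C ⧸ J')
      rw [hm] at h1 ⊢
      exact_mod_cast (Nat.succ_injective (show m + 1 = n + 1 by exact_mod_cast h1))
    have hrange : LinearMap.range f = Submodule.map J.mkQ J' := by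
      refine le_antisymm ?_ ?_
      · rintro _ ⟨z, rfl⟩
        obtain ⟨z, rfl⟩ := Ideal.Quotient.mk_surjective z
        exact ⟨x * z, Submodule.mem_sup_right (Ideal.mem_span_singleton.2 ⟨z, rfl⟩), rfl⟩
      · rintro _ ⟨w, hw, rfl⟩
        obtain ⟨j, hj, w', hw', rfl⟩ := Submodule.mem_sup.1 hw
        obtain ⟨c, rfl⟩ := Ideal.mem_span_singleton.1 hw'
        refine ⟨Ideal.Quotient.mk J c, ?_⟩
        show Ideal.Quotient.mk J (x * c) = Ideal.Quotient.mk J (j + x * c)
        rw [map_add, Ideal.Quotient.eq_zero_iff_mem.2 hj, zero_add]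
    have := ih J' hr' hd' (d + 1) ((h.quotient hinj).of_equiv
      (Submodule.quotEquivOfEq _ _ hrange ≪≫ₗ Submodule.quotientQuotientEquivQuotient J J' le_sup_left))
    rwa [show d + ((n + 1 : ℕ) : ℤ) = d + 1 + n by push_cast; ring]

section Fibre

open AlgebraicGeometry

variable {A B : Type u} [CommRing A] [CommRing B] [Algebra A B] {n : ℕ}

/-- `trdeg` of a point over its image, in algebraic terms. -/
theorem trdegHom_specMap (q : PrimeSpectrum B) :
    DimLib.trdegHom ((Spec.map (CommRingCat.ofHom (algebraMap A B))).residueFieldMap q).hom =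
      EGA43.FibDepth.trd A q := by
  have h0 := EGA43.DimFormula.trdegHom_specMap (R := CommRingCat.of A) (S := CommRingCat.of B)
    (CommRingCat.ofHom (algebraMap A B)) q
  have hA : (CommRingCat.ofHom (algebraMap A B)).hom.toAlgebra = ‹Algebra A B› :=
    Algebra.algebra_ext _ _ fun _ => rfl
  rw [hA] at h0
  exact h0

/-- The local ring of the fibre of a smooth map of relative dimension `n`: regular of dimension `n - t`. -/
theorem fibre_data (hs : FlatCA.SmoothRelDim n A B) (q : Ideal B) [q.IsPrime] :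
    IsRegularLocalRing (EGA4.FibLocRing A B q) ∧
      ∃ m : ℕ, ringKrullDim (EGA4.FibLocRing A B q) = m ∧ m + EGA43.FibDepth.trd A ⟨q, inferInstance⟩ = n := by
  haveI : Algebra.Smooth A B := FlatMorDevissage.smooth_of_smoothRelDim hs
  let x : PrimeSpectrum B := ⟨q, inferInstance⟩
  let φ := Spec.map (CommRingCat.ofHom (algebraMap A B))
  haveI : SmoothOfRelativeDimension n φ := hs
  haveI : Smooth φ := SmoothOfRelativeDimension.smooth n φ
  let p : PrimeSpectrum A := φ x
  let h : φ ⁻¹' {p} ≃ₜ PrimeSpectrum (p.asIdeal.Fiber B) := PrimeSpectrum.preimageHomeomorphFiber A B p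
  let h' : φ.fiber p ≃ₜ Spec (CommRingCat.of (p.asIdeal.Fiber B)) := (φ.fiberHomeo p).trans h
  let Q : PrimeSpectrum (p.asIdeal.Fiber B) := h ⟨x, rfl⟩
  have hQ : h' (φ.asFiber x) = Q := by
    show h (φ.fiberHomeo p (φ.asFiber x)) = h ⟨x, rfl⟩
    congr 1
    exact (φ.fiberHomeo p).apply_symm_apply _
  have hq : Q.asIdeal.comap (Algebra.TensorProduct.includeRight : B →ₐ[A] p.asIdeal.Fiber B) = q := by
    have := congrArg (fun y => y.1.asIdeal) (h.symm_apply_apply ⟨x, rfl⟩)
    exact this
  obtain ⟨-, ⟨e⟩⟩ := CommAlg6.fiber_localization_equiv p.asIdeal Q.asIdeal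
  obtain ⟨e'⟩ := CommAlg6.fibLocRing_congr (A := A) _ _ hq
  haveI hreg : IsRegularLocalRing (Localization.AtPrime Q.asIdeal) :=
    VarietyLib.isRegularLocalRing_of_smooth p.asIdeal.ResidueField (p.asIdeal.Fiber B) Q.asIdeal
  have hregF : IsRegularLocalRing (EGA4.FibLocRing A B q) :=
    IsRegularLocalRing.of_ringEquiv (R := Localization.AtPrime Q.asIdeal) (e.trans e')
  refine ⟨hregF, ?_⟩
  haveI := hregF
  obtain ⟨m, hm⟩ := LocCoh.exists_dim_eq (R := EGA4.FibLocRing A B q)
  refine ⟨m, hm, ?_⟩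
  have hdim : ringKrullDim ↥((φ.fiber p).presheaf.stalk (φ.asFiber x)) = (m : WithBot ℕ∞) := by
    rw [AlgSpLib.stalk_dim_of_homeo h' (φ.asFiber x), hQ]
    exact (ringKrullDim_eq_of_ringEquiv
      ((StructureSheaf.stalkIso (p.asIdeal.Fiber B) Q).symm.toRingEquiv.trans (e.trans e'))).trans hm
  have h1 := AlgSpLib.fibreDimAt_eq_stalk_add_trdeg φ x
  rw [Unram17Lib.fibreDimAt_of_smoothOfRelativeDimension φ n x, hdim] at h1
  have h2 : ((n : ℕ∞)) = (m : ℕ∞) + Cardinal.toENat (Dual3.resTrdeg φ x) := by exact_mod_cast h1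
  have h3 : EGA43.FibDepth.trd A x = Cardinal.toNat (Dual3.resTrdeg φ x) :=
    (trdegHom_specMap x).symm
  have h4 : Cardinal.toENat (Dual3.resTrdeg φ x) ≠ ⊤ := by
    intro h
    rw [h, add_top] at h2
    exact ENat.coe_ne_top n h2
  obtain ⟨c, hc⟩ := ENat.ne_top_iff_exists.1 h4
  rw [← hc, ← ENat.coe_add] at h2
  have h5 : Cardinal.toNat (Dual3.resTrdeg φ x) = c := by
    have : (Cardinal.toENat (Dual3.resTrdeg φ x)).toNat = c := by rw [← hc]; rfl
    rwa [Cardinal.toNat_toENat] at this
  rw [h3, h5]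
  exact_mod_cast h2.symm

end Fibre

end Groth.Agent.Dual6Lib.SmoothDegree
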